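import Groth.Agent.L14.SMT.CellDict

/-!
Determinantal rings as big cells of Schubert varieties.
-/

open MvPolynomial W4bk4grassmannian Finset

namespace Groth.L14.SMT

universe u

section minors

variable {R : Type u} [CommRing R] {m q : Type} [Fintype m] [Fintype q] (A : Matrix m q R)

theorem minor_mem_succ (k : ℕ) (f : Fin (k + 1) → m) (g : Fin (k + 1) → q) :
    (A.submatrix f g).det ∈ CAlgX.minorIdeal A k := by
  rw [Matrix.det_succ_row_zero]
  refine Ideal.sum_mem _ fun j _ => Ideal.mul_mem_left _ _ ?_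
  rw [Matrix.submatrix_submatrix]
  exact Ideal.subset_span ⟨(f ∘ Fin.succ, g ∘ j.succAbove), rfl⟩

theorem minorIdeal_succ_le (k : ℕ) : CAlgX.minorIdeal A (k + 1) ≤ CAlgX.minorIdeal A k := by
  rw [CAlgX.minorIdeal, Ideal.span_le]
  rintro _ ⟨fg, rfl⟩
  exact minor_mem_succ A k fg.1 fg.2

theorem minorIdeal_anti : Antitone (CAlgX.minorIdeal A) :=
  antitone_nat_of_succ_le (minorIdeal_succ_le A)

theorem minor_mem_minorIdeal {s k : ℕ} (hk : k ≤ s) (f : Fin s → m) (g : Fin s → q) :
    (A.submatrix f g).det ∈ CAlgX.minorIdeal A k :=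
  minorIdeal_anti A hk (Ideal.subset_span ⟨(f, g), rfl⟩)

omit [Fintype m] [Fintype q] in
theorem det_submatrix_eq_zero_of_not_injective {s : ℕ} (f : Fin s → m) (g : Fin s → q)
    (h : ¬ Function.Injective f ∨ ¬ Function.Injective g) : (A.submatrix f g).det = 0 := by
  rcases h with h | h
  · obtain ⟨a, b, hab, hne⟩ := Function.not_injective_iff.mp h
    exact Matrix.det_zero_of_row_eq hne (funext fun j => by simp [hab])
  · obtain ⟨a, b, hab, hne⟩ := Function.not_injective_iff.mp h
    rw [← Matrix.det_transpose]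
    exact Matrix.det_zero_of_row_eq hne (funext fun j => by simp [hab])

theorem minorIdeal_eq_bot {k : ℕ} (h : Fintype.card m < k ∨ Fintype.card q < k) :
    CAlgX.minorIdeal A k = ⊥ := by
  rw [CAlgX.minorIdeal, Ideal.span_eq_bot]
  rintro _ ⟨fg, rfl⟩
  refine det_submatrix_eq_zero_of_not_injective A fg.1 fg.2 ?_
  rcases h with h | h
  · exact Or.inl fun hi => absurd (Fintype.card_le_of_injective _ hi) (by simp; omega)
  · exact Or.inr fun hi => absurd (Fintype.card_le_of_injective _ hi) (by simp; omega)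

end minors

variable {K : Type u} [CommRing K] {d r : ℕ}

/-- The matrix `[1 ; Z]` with the rows of `Z` reversed. -/
noncomputable def bigMat : Matrix (Fin (d + r)) (Fin d) (CellRing K d r) :=
  Matrix.of fun i j => if h : i.val < d then (if i.val = j.val then 1 else 0)
    else X (⟨r - 1 - (i.val - d), by omega⟩, j)

/-- Dehomogenization at the smallest coordinate. -/
noncomputable def bigMap : PlRing K d (d + r) →ₐ[K] CellRing K d r :=
  MvPolynomial.aeval fun θ => ((bigMat (K := K)).submatrix θ.1 id).det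

theorem bigMap_X (θ : Idx d (d + r)) :
    bigMap (K := K) (X θ) = ((bigMat (K := K)).submatrix θ.1 id).det :=
  aeval_X _ _

theorem bigMap_bot : bigMap (K := K) (r := r) (X (botIdx (Nat.le_add_right d r))) = 1 := by
  rw [bigMap_X]
  convert Matrix.det_one (n := Fin d) (R := CellRing K d r) using 2
  refine Matrix.ext fun i j => ?_
  show (if h : i.val < d then (if i.val = j.val then (1 : CellRing K d r) else 0) else _) = _
  rw [dif_pos i.isLt, Matrix.one_apply]
  simp only [Fin.ext_iff]

theorem bigMap_minor (M : MinorIdx r d) :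
    ∃ e : K, e * e = 1 ∧ bigMap (X (minorToIdx M)) = e • minorOf K M := by
  have hM := minor_size M
  let N : Matrix (Fin d) (Fin d) (CellRing K d r) := (bigMat (K := K)).submatrix (minorToIdx M).1 id
  let f : Fin (d - (M.1 + 1)) ⊕ Fin (M.1 + 1) → Fin d := Sum.elim (complCols M) M.2.2.1
  let g : Fin (d - (M.1 + 1)) ⊕ Fin (M.1 + 1) → Fin d :=
    Sum.elim (fun k => ⟨k.val, by omega⟩) (fun k => ⟨d - 1 - k.val, by omega⟩)
  have hf : Function.Bijective f := by
    rw [Fintype.bijective_iff_injective_and_card]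
    refine ⟨Function.Injective.sumElim (complCols_strictMono M).injective M.2.2.2.injective
      (fun a b => (complCols_ne M b a).symm), by simp; omega⟩
  have hg : Function.Bijective g := by
    rw [Fintype.bijective_iff_injective_and_card]
    refine ⟨Function.Injective.sumElim (fun a b h => Fin.ext ?_) (fun a b h => Fin.ext ?_)
      (fun a b h => ?_), by simp; omega⟩
    all_goals
      have ha := a.isLt
      have hb := b.isLt
      simp only [Fin.ext_iff] at h
      omega
  have hblock : N.submatrix g f = Matrix.fromBlocks 1 0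
      ((N.submatrix g f).toBlocks₂₁) ((genMatrix K r d).submatrix M.2.1.1 M.2.2.1) := by
    refine Matrix.ext fun x y => ?_
    rcases x with k | k <;> rcases y with l | l
    all_goals
      simp only [Matrix.submatrix_apply, Matrix.fromBlocks_apply₁₁, Matrix.fromBlocks_apply₁₂,
        Matrix.fromBlocks_apply₂₁, Matrix.fromBlocks_apply₂₂, N, g, f, Sum.elim_inl, Sum.elim_inr, id_eq, bigMat,
        Matrix.of_apply, Matrix.toBlocks₂₁]
    · rw [dif_pos (by rw [minorToIdx_low M _ (by exact k.isLt)]; exact Fin.isLt _),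
        minorToIdx_low M _ (by exact k.isLt), Matrix.one_apply]
      simp only [← Fin.ext_iff, Fin.eta, (complCols_strictMono M).injective.eq_iff]
    · rw [dif_pos (by rw [minorToIdx_low M _ (by exact k.isLt)]; exact Fin.isLt _),
        minorToIdx_low M _ (by exact k.isLt), if_neg, Matrix.zero_apply]
      simp only [← Fin.ext_iff, Fin.eta]
      exact (complCols_ne M l k).symm
    · have hk := k.isLt
      rw [dif_neg (by rw [minorToIdx_high M _ (by show ¬ d - 1 - k.val < _; omega)]; omega)]
      show X _ = (genMatrix K r d) _ _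
      rw [genMatrix, Matrix.of_apply]
      congr 2
      refine Fin.ext ?_
      show r - 1 - (((minorToIdx M).1 ⟨d - 1 - k.val, by omega⟩).val - d) = _
      rw [minorToIdx_high M _ (by show ¬ d - 1 - k.val < _; omega)]
      have he : (⟨d - 1 - (d - 1 - k.val), by omega⟩ : Fin (M.1 + 1)) = k := Fin.ext (by simp only; omega)
      simp only [he]
      have := (M.2.1.1 k).isLt
      omega
  let eg := Equiv.ofBijective g hg
  let ef := Equiv.ofBijective f hf
  let σ : Equiv.Perm (Fin d) := eg.symm.trans ef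
  have h1 : (N.submatrix g f).det = (minorOf K M : CellRing K d r) := by
    rw [hblock, Matrix.det_fromBlocks_zero₁₂, Matrix.det_one, one_mul]
    rfl
  have h2 : N.submatrix g f = (N.submatrix id σ).submatrix eg eg := by
    refine Matrix.ext fun x y => ?_
    simp [σ, eg, ef]
  rw [h2, Matrix.det_submatrix_equiv_self, Matrix.det_permute'] at h1
  refine ⟨((Equiv.Perm.sign σ : ℤ) : K), by
    rw [← Int.cast_mul, ← Units.val_mul, Int.units_mul_self, Units.val_one, Int.cast_one], ?_⟩
  rw [bigMap_X, ← h1, MvPolynomial.smul_eq_C_mul, map_intCast, ← mul_assoc, ← Int.cast_mul, ← Units.val_mul,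
    Int.units_mul_self, Units.val_one, Int.cast_one, one_mul]

/-- Every minor is, up to sign, the value of a coordinate. -/
theorem minor_eq_sign_bigMap {s : ℕ} (f : Fin (s + 1) → Fin r) (g : Fin (s + 1) → Fin d) :
    ((genMatrix K r d).submatrix f g).det ∈
      Submodule.span K (Set.range fun M : {M : MinorIdx r d // M.1 = s} => bigMap (X (minorToIdx M.1))) := by
  classical
  by_cases hinj : ¬ Function.Injective f ∨ ¬ Function.Injective g
  · rw [det_submatrix_eq_zero_of_not_injective _ f g hinj]; exact zero_mem _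
  push Not at hinj
  let A := sortIdx (s + 1) r f ((card_image_iff f).mpr hinj.1)
  let B := sortIdx (s + 1) d g ((card_image_iff g).mpr hinj.2)
  obtain ⟨σ, hσ⟩ := exists_perm f ((card_image_iff f).mpr hinj.1)
  obtain ⟨τ, hτ⟩ := exists_perm g ((card_image_iff g).mpr hinj.2)
  obtain ⟨e, he, hM⟩ := bigMap_minor (K := K) (⟨s, A, B⟩ : MinorIdx r d)
  have h1 : ((genMatrix K r d).submatrix f g).det =
      ((Equiv.Perm.sign σ : ℤ) : CellRing K d r) * (((Equiv.Perm.sign τ : ℤ) : CellRing K d r) *
        minorOf K (⟨s, A, B⟩ : MinorIdx r d)) := by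
    rw [show (genMatrix K r d).submatrix f g = (genMatrix K r d).submatrix (A.1 ∘ σ) (B.1 ∘ τ) from
        congrArg₂ (genMatrix K r d).submatrix hσ hτ, show (genMatrix K r d).submatrix (A.1 ∘ σ) (B.1 ∘ τ) =
      (((genMatrix K r d).submatrix A.1 B.1).submatrix id τ).submatrix σ id from rfl,
      Matrix.det_permute, Matrix.det_permute']
    rfl
  have hmin : minorOf K (⟨s, A, B⟩ : MinorIdx r d) = e • bigMap (X (minorToIdx (⟨s, A, B⟩ : MinorIdx r d))) := by
    rw [hM, smul_smul, he, one_smul]
  rw [h1, hmin, ← map_intCast (C : K →+* CellRing K d r), ← map_intCast (C : K →+* CellRing K d r),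
    ← MvPolynomial.smul_eq_C_mul, ← MvPolynomial.smul_eq_C_mul]
  exact Submodule.smul_mem _ _ (Submodule.smul_mem _ _ (Submodule.smul_mem _ _
    (Submodule.subset_span ⟨⟨⟨s, A, B⟩, rfl⟩, rfl⟩)))

theorem bigMap_surjective : Function.Surjective (bigMap (K := K) (d := d) (r := r)) := by
  intro f
  induction f using MvPolynomial.induction_on with
  | C a => exact ⟨C a, (bigMap (K := K)).commutes a⟩
  | add p q hp hq =>
    obtain ⟨x, hx⟩ := hp
    obtain ⟨y, hy⟩ := hq
    exact ⟨x + y, by rw [map_add, hx, hy]⟩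
  | mul_X p i hp =>
    obtain ⟨x, hx⟩ := hp
    suffices ∃ y, bigMap (K := K) (r := r) y = X i by
      obtain ⟨y, hy⟩ := this
      exact ⟨x * y, by rw [map_mul, hx, hy]⟩
    have h := minor_eq_sign_bigMap (K := K) (fun _ : Fin (0 + 1) => i.1) (fun _ => i.2)
    rw [Matrix.det_fin_one] at h
    have h2 : (X i : CellRing K d r) ∈ LinearMap.range (bigMap (K := K) (d := d) (r := r)).toLinearMap :=
      Submodule.span_le.mpr (by rintro _ ⟨M, rfl⟩; exact ⟨_, rfl⟩) h
    exact h2

/-- The ideal of minors of size `t` is spanned by the coordinates outside a Schubert condition. -/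
theorem minorIdeal_eq_span (t : ℕ) (ht : 0 < t) :
    CAlgX.minorIdeal (genMatrix K r d) t =
      Ideal.span {f | ∃ M : MinorIdx r d, t ≤ M.1 + 1 ∧ f = bigMap (X (minorToIdx M))} := by
  refine le_antisymm ?_ (Ideal.span_le.mpr ?_)
  · rw [CAlgX.minorIdeal, Ideal.span_le]
    rintro _ ⟨⟨f, g⟩, rfl⟩
    obtain ⟨s, rfl⟩ : ∃ s, t = s + 1 := ⟨t - 1, by omega⟩
    refine (Submodule.span_le (p := (Ideal.span _).restrictScalars K)).mpr ?_ (minor_eq_sign_bigMap f g)
    rintro _ ⟨M, rfl⟩
    exact Ideal.subset_span ⟨M.1, by rw [M.2], rfl⟩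
  · rintro _ ⟨M, hM, rfl⟩
    obtain ⟨e, -, he⟩ := bigMap_minor (K := K) M
    rw [SetLike.mem_coe, he, MvPolynomial.smul_eq_C_mul]
    exact Ideal.mul_mem_left _ _ (minor_mem_minorIdeal _ hM _ _)

theorem minorToIdx_high_iff {t : ℕ} (ht : 0 < t) (htd : t ≤ d) (M : MinorIdx r d) :
    d ≤ ((minorToIdx M).1 ⟨d - t, Nat.sub_lt (lt_of_lt_of_le ht htd) ht⟩).val ↔ t ≤ M.1 + 1 := by
  have hM := minor_size M
  by_cases h : d - t < d - (M.1 + 1)
  · rw [minorToIdx_low M _ h]
    have := (complCols M ⟨d - t, h⟩).isLt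
    simp only at this ⊢
    omega
  · rw [minorToIdx_high M _ h]
    omega

theorem bigMap_plIdeal {s : ℕ} (hsd : s ≤ d) (hsr : s ≤ r) (F : PlRing K d (d + r))
    (hF : F ∈ plIdeal K (rankIdx hsd hsr)) : bigMap F ∈ CAlgX.minorIdeal (genMatrix K r d) (s + 1) := by
  refine (Ideal.span_le (I := Ideal.comap (bigMap (K := K) (d := d) (r := r))
    (CAlgX.minorIdeal (genMatrix K r d) (s + 1)))).mpr ?_ hF
  rintro _ (⟨i, j, p, -, rfl⟩ | ⟨φ, hφ, rfl⟩)
  · rw [SetLike.mem_coe, Ideal.mem_comap, map_shuffleRel i j p bigMap bigMat bigMap_X]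
    exact zero_mem _
  · rw [SetLike.mem_coe, Ideal.mem_comap]
    have hne : φ ≠ botIdx (Nat.le_add_right d r) := fun h => hφ (h ▸ botIdx_le _ _)
    obtain ⟨M, rfl⟩ := exists_minor_of_ne_bot φ hne
    rw [minorToIdx_le_rankIdx_iff, not_le] at hφ
    rw [minorIdeal_eq_span _ (Nat.succ_pos s)]
    exact Ideal.subset_span ⟨M, hφ, rfl⟩

end Groth.L14.SMT
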