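import Mathlib.RingTheory.IntegralClosure.IntegrallyClosed
import Mathlib.RingTheory.UniqueFactorizationDomain.Ideal
import Mathlib.RingTheory.UniqueFactorizationDomain.Kaplansky
import Mathlib.RingTheory.Localization.FractionRing
import Mathlib.Tactic

/-!
Descent of properties along an injection `R → P` which becomes bijective after inverting `p`.
-/

namespace Groth.L14.Bir

universe u

variable {R P : Type u} [CommRing R] [CommRing P] [IsDomain P] (f : R →+* P)
  (hf : Function.Injective f) (p : R) (hp : p ≠ 0) (hloc : ∀ y : P, ∃ k : ℕ, ∃ r : R, f r = f p ^ k * y)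

include hf hp hloc

theorem isFractionRing (L : Type u) [Field L] [Algebra P L] [IsFractionRing P L] :
    letI := ((algebraMap P L).comp f).toAlgebra
    IsFractionRing R L := by
  haveI : IsDomain R := hf.isDomain f
  letI := ((algebraMap P L).comp f).toAlgebra
  have hinj : Function.Injective (algebraMap R L) := (IsFractionRing.injective P L).comp hf
  constructor
  refine ⟨?_, ?_, ?_⟩
  · intro s
    exact isUnit_iff_ne_zero.mpr fun h => nonZeroDivisors.coe_ne_zero s (hinj (by rw [h, map_zero]))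
  · intro z
    obtain ⟨a, b, hb, rfl⟩ := IsFractionRing.div_surjective P z
    obtain ⟨k, ra, hra⟩ := hloc a
    obtain ⟨l, rb, hrb⟩ := hloc b
    have hb0 : b ≠ 0 := nonZeroDivisors.ne_zero hb
    have hp0 : f p ≠ 0 := fun h => hp (hf (by rw [h, map_zero]))
    have hrb0 : p ^ k * rb ≠ 0 := mul_ne_zero (pow_ne_zero _ hp) fun h => by
      rw [h, map_zero] at hrb
      exact mul_ne_zero (pow_ne_zero _ hp0) hb0 hrb.symm
    refine ⟨⟨p ^ l * ra, ⟨p ^ k * rb, mem_nonZeroDivisors_of_ne_zero hrb0⟩⟩, ?_⟩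
    show algebraMap P L a / algebraMap P L b * algebraMap P L (f (p ^ k * rb)) = algebraMap P L (f (p ^ l * ra))
    rw [div_mul_eq_mul_div, div_eq_iff (by simpa using hb0), ← map_mul (algebraMap P L),
      ← map_mul (algebraMap P L)]
    congr 1
    rw [map_mul, map_mul, map_pow, map_pow, hra, hrb]
    ring
  · intro x y h
    exact ⟨1, by rw [hinj h]⟩

theorem isIntegrallyClosed [IsIntegrallyClosed P] (hrad : (Ideal.span {p}).IsRadical) :
    IsIntegrallyClosed R := by
  haveI : IsDomain R := hf.isDomain f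
  letI := ((algebraMap P (FractionRing P)).comp f).toAlgebra
  haveI : IsFractionRing R (FractionRing P) := isFractionRing f hf p hp hloc (FractionRing P)
  rw [isIntegrallyClosed_iff (FractionRing P)]
  intro x hx
  obtain ⟨q, hq, hqx⟩ := hx
  have hxP : IsIntegral P x := ⟨q.map f, hq.map f, by rw [Polynomial.eval₂_map]; exact hqx⟩
  obtain ⟨y, rfl⟩ := IsIntegrallyClosed.isIntegral_iff.mp hxP
  obtain ⟨k, r, hr⟩ := hloc y
  have hy : q.eval₂ f y = 0 := by
    apply IsFractionRing.injective P (FractionRing P)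
    rw [Polynomial.hom_eval₂, map_zero]; exact hqx
  suffices ∀ k (r : R), f r = f p ^ k * y → ∃ r₀, f r₀ = y by
    obtain ⟨r₀, hr₀⟩ := this k r hr
    exact ⟨r₀, by show algebraMap P (FractionRing P) (f r₀) = _; rw [hr₀]⟩
  intro k
  induction k with
  | zero => intro r hr; exact ⟨r, by simpa using hr⟩
  | succ k ih =>
    intro r hr
    have h1 : f ((q.scaleRoots (p ^ (k + 1))).eval r) = 0 := by
      rw [← Polynomial.eval₂_at_apply, hr, ← map_pow]
      rw [Polynomial.scaleRoots_eval₂_eq_zero f hy]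
    have h2 : (q.scaleRoots (p ^ (k + 1))).eval r = 0 := hf (by rw [h1, map_zero])
    have h3 : r ∈ Ideal.span {p} := by
      refine hrad ⟨q.natDegree, ?_⟩
      rw [Polynomial.eval_eq_sum_range, Polynomial.natDegree_scaleRoots, Finset.sum_range_succ,
        Polynomial.coeff_scaleRoots_natDegree, hq.leadingCoeff, one_mul] at h2
      rw [eq_neg_of_add_eq_zero_right h2]
      refine neg_mem (Submodule.sum_mem _ fun i hi => ?_)
      rw [Finset.mem_range] at hi
      refine Ideal.mul_mem_right _ _ ?_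
      rw [Polynomial.coeff_scaleRoots, ← pow_mul]
      refine Ideal.mul_mem_left _ _ (Ideal.mem_span_singleton.mpr (dvd_pow_self p ?_))
      exact (Nat.mul_pos (Nat.succ_pos k) (by omega : 0 < q.natDegree - i)).ne'
    obtain ⟨r', rfl⟩ := Ideal.mem_span_singleton.mp h3
    refine ih r' (mul_left_cancel₀ (show f p ≠ 0 from fun h => hp (hf (by rw [h, map_zero]))) ?_)
    rw [← map_mul, hr]; ring

theorem ufd [UniqueFactorizationMonoid P] [IsNoetherianRing R] (hprime : Prime p) (hX : Prime (f p)) :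
    UniqueFactorizationMonoid R := by
  haveI : IsDomain R := hf.isDomain f
  rw [UniqueFactorizationMonoid.iff_exists_prime_mem_of_isPrime]
  intro Q hQ0 hQ
  by_cases hpQ : p ∈ Q
  · exact ⟨p, hpQ, hprime⟩
  let Q' : Ideal P :=
    { carrier := {y | ∃ k, ∃ r ∈ Q, f r = f p ^ k * y}
      zero_mem' := ⟨0, 0, Q.zero_mem, by simp⟩
      add_mem' := by
        rintro a b ⟨k, r, hr, hra⟩ ⟨l, s, hs, hsb⟩
        exact ⟨k + l, p ^ l * r + p ^ k * s, Q.add_mem (Q.mul_mem_left _ hr) (Q.mul_mem_left _ hs), by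
          rw [map_add, map_mul, map_mul, map_pow, map_pow, hra, hsb]; ring⟩
      smul_mem' := by
        rintro c y ⟨k, r, hr, hry⟩
        obtain ⟨l, s, hs⟩ := hloc c
        exact ⟨k + l, s * r, Q.mul_mem_left _ hr, by rw [map_mul, hs, hry, smul_eq_mul]; ring⟩ }
  have hp0 : f p ≠ 0 := fun h => hp (hf (by rw [h, map_zero]))
  have hback : ∀ r : R, f r ∈ Q' → r ∈ Q := by
    rintro r ⟨k, s, hs, hsr⟩
    rw [← map_pow, ← map_mul] at hsr
    rw [hf hsr] at hs
    exact (hQ.mem_or_mem hs).resolve_left fun h => hpQ (hQ.mem_of_pow_mem k h)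
  have hQ'prime : Q'.IsPrime := by
    refine ⟨fun h => ?_, ?_⟩
    · have h1 : f 1 ∈ Q' := by rw [h]; trivial
      exact hQ.ne_top ((Ideal.eq_top_iff_one _).mpr (hback 1 h1))
    · intro a b hab
      obtain ⟨k, r, hr⟩ := hloc a
      obtain ⟨l, s, hs⟩ := hloc b
      have hmem : f (r * s) ∈ Q' := by
        rw [map_mul, hr, hs, show f p ^ k * a * (f p ^ l * b) = (f p ^ k * f p ^ l) * (a * b) by ring]
        exact Q'.mul_mem_left _ hab
      rcases hQ.mem_or_mem (hback _ hmem) with h | h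
      · exact Or.inl ⟨k, r, h, hr⟩
      · exact Or.inr ⟨l, s, h, hs⟩
  have hQ'0 : Q' ≠ ⊥ := by
    obtain ⟨r, hr, hr0⟩ := Submodule.exists_mem_ne_zero_of_ne_bot hQ0
    intro h
    have : f r ∈ Q' := ⟨0, r, hr, by simp⟩
    rw [h, Submodule.mem_bot] at this
    exact hr0 (hf (by rw [this, map_zero]))
  obtain ⟨π, hπ, hπp⟩ := Ideal.IsPrime.exists_mem_prime_of_ne_bot hQ'prime hQ'0
  have hXQ : f p ∉ Q' := fun h => hpQ (hback p h)
  have hπX : ¬ f p ∣ π := fun h => hXQ (Q'.mem_of_dvd (hX.irreducible.dvd_symm hπp.irreducible h) hπ)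
  classical
  have hex : ∃ k, ∃ r, f r = f p ^ k * π := hloc π
  obtain ⟨r, hr⟩ := Nat.find_spec hex
  set k := Nat.find hex
  have hrp : ¬ p ∣ r := by
    rintro ⟨r', rfl⟩
    rcases Nat.eq_zero_or_pos k with h0 | h0
    · rw [h0, pow_zero, one_mul, map_mul] at hr
      exact hπX ⟨_, hr.symm⟩
    · refine Nat.find_min hex (Nat.sub_lt h0 one_pos) ⟨r', mul_left_cancel₀ hp0 ?_⟩
      rw [← map_mul, hr, ← mul_assoc, ← pow_succ', show Nat.find hex - 1 + 1 = k by omega]
  have hrQ : r ∈ Q := hback r (by rw [hr]; exact Q'.mul_mem_left _ hπ)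
  refine ⟨r, hrQ, ⟨fun h => hπp.ne_zero ?_, fun h => hQ.ne_top (Q.eq_top_of_isUnit_mem hrQ h), ?_⟩⟩
  · rw [h, map_zero] at hr
    exact (mul_eq_zero.mp hr.symm).resolve_left (pow_ne_zero _ hp0)
  intro s t hst
  have key : ∀ s : R, π ∣ f s → r ∣ s := by
    rintro s ⟨y, hy⟩
    obtain ⟨j, v, hv⟩ := hloc y
    have heq : p ^ (k + j) * s = r * v := hf (by
      rw [map_mul, map_mul, map_pow, hy, hr, hv]; ring)
    obtain ⟨v', rfl⟩ : p ^ (k + j) ∣ v :=
      hprime.pow_dvd_of_dvd_mul_left (k + j) hrp ⟨s, heq.symm⟩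
    refine ⟨v', mul_left_cancel₀ (pow_ne_zero (k + j) hp) ?_⟩
    rw [heq]; ring
  have h1 : π ∣ f s * f t := by
    rw [← map_mul]
    obtain ⟨u, hu⟩ := hst
    rw [hu, map_mul, hr]
    exact Dvd.dvd.mul_right (Dvd.intro_left _ rfl) _
  exact (hπp.dvd_or_dvd h1).imp (key s) (key t)

end Groth.L14.Bir
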