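import Mathlib.RingTheory.MvPolynomial.Homogeneous
import Mathlib.RingTheory.Regular.RegularSequence
import Mathlib.Tactic.LinearCombination

/-!
Translating a regular sequence of linear forms modulo a homogeneous ideal.
-/

open MvPolynomial

namespace Groth.L14.Shift

universe u v

attribute [local instance] MvPolynomial.gradedAlgebra

variable {K : Type u} [CommRing K] {σ : Type v}

/-- Vanishing of all components in degrees `≥ N`. -/
def Below (x : MvPolynomial σ K) (N : ℕ) : Prop := ∀ k, N ≤ k → homogeneousComponent k x = 0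

theorem below_zero {x : MvPolynomial σ K} (h : Below x 0) : x = 0 := by
  rw [← sum_homogeneousComponent x]
  exact Finset.sum_eq_zero fun i _ => h i (Nat.zero_le i)

theorem below_totalDegree (x : MvPolynomial σ K) : Below x (x.totalDegree + 1) := fun k hk =>
  homogeneousComponent_eq_zero k x (by omega)

theorem comp_linear_mul_succ {θ : MvPolynomial σ K} (hθ : θ.IsHomogeneous 1) (z : MvPolynomial σ K) (k : ℕ) :
    homogeneousComponent (k + 1) (θ * z) = θ * homogeneousComponent k z := by
  conv_lhs => rw [← sum_homogeneousComponent z]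
  rw [Finset.mul_sum, map_sum]
  have h : ∀ i, homogeneousComponent (k + 1) (θ * homogeneousComponent i z) =
      if i = k then θ * homogeneousComponent k z else 0 := fun i => by
    rw [homogeneousComponent_of_mem ((hθ.mul (homogeneousComponent_isHomogeneous i z)))]
    by_cases hik : i = k
    · subst hik; rw [if_pos (add_comm _ _), if_pos rfl]
    · rw [if_neg (by omega), if_neg hik]
  simp only [h, Finset.sum_ite_eq', Finset.mem_range]
  split_ifs with hk
  · rfl
  · rw [homogeneousComponent_eq_zero k z (by omega), mul_zero]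

theorem comp_linear_mul_zero {θ : MvPolynomial σ K} (hθ : θ.IsHomogeneous 1) (z : MvPolynomial σ K) :
    homogeneousComponent 0 (θ * z) = 0 := by
  conv_lhs => rw [← sum_homogeneousComponent z]
  rw [Finset.mul_sum, map_sum]
  refine Finset.sum_eq_zero fun i _ => ?_
  rw [homogeneousComponent_of_mem (hθ.mul (homogeneousComponent_isHomogeneous i z)), if_neg (by omega)]

theorem comp_C_mul (a : K) (z : MvPolynomial σ K) (k : ℕ) :
    homogeneousComponent k (C a * z) = C a * homogeneousComponent k z :=
  homogeneousComponent_C_mul z k a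

/-- `I` degenerates to the homogeneous ideal `J`. -/
structure Rel (I J : Ideal (MvPolynomial σ K)) : Prop where
  hom : J.IsHomogeneous (homogeneousSubmodule σ K)
  top : ∀ x ∈ I, ∀ N, Below x (N + 1) → homogeneousComponent N x ∈ J
  lift : ∀ h ∈ J, ∀ N, h.IsHomogeneous N → ∃ y ∈ I, Below y (N + 1) ∧ homogeneousComponent N y = h

theorem rel_refl {J : Ideal (MvPolynomial σ K)} (hJ : J.IsHomogeneous (homogeneousSubmodule σ K)) :
    Rel J J where
  hom := hJ
  top := fun x hx N _ => homogeneousComponent_mem_of_mem hJ hx N
  lift := fun h hh N hN => ⟨h, hh, fun k hk => by rw [homogeneousComponent_of_mem hN, if_neg (by omega)],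
    by rw [homogeneousComponent_of_mem hN, if_pos rfl]⟩

variable {I J : Ideal (MvPolynomial σ K)} (hR : Rel I J) {θ : MvPolynomial σ K} (hθ : θ.IsHomogeneous 1)
  (hreg : ∀ z, θ * z ∈ J → z ∈ J) (a : K)

include hR hθ hreg

theorem regular_shift (z : MvPolynomial σ K) (hz : (θ - C a) * z ∈ I) : z ∈ I := by
  suffices ∀ N z, Below z N → (θ - C a) * z ∈ I → z ∈ I from this _ z (below_totalDegree z) hz
  intro N
  induction N with
  | zero => intro z hB _; rw [below_zero hB]; exact zero_mem _
  | succ N ih =>
    intro z hB hz
    have hB' : Below ((θ - C a) * z) (N + 1 + 1) := fun k hk => by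
      obtain ⟨k, rfl⟩ : ∃ k', k = k' + 1 := ⟨k - 1, by omega⟩
      rw [sub_mul, map_sub, comp_linear_mul_succ hθ, comp_C_mul, hB k (by omega), hB (k + 1) (by omega),
        mul_zero, mul_zero, sub_zero]
    have h1 := hR.top _ hz (N + 1) hB'
    rw [sub_mul, map_sub, comp_linear_mul_succ hθ, comp_C_mul, hB (N + 1) le_rfl, mul_zero, sub_zero] at h1
    obtain ⟨y, hy, hyB, hyN⟩ := hR.lift _ (hreg _ h1) N (homogeneousComponent_isHomogeneous N z)
    have h2 : z - y ∈ I := ih (z - y) (fun k hk => by
      rw [map_sub]
      rcases eq_or_lt_of_le hk with rfl | hk'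
      · rw [hyN, sub_self]
      · rw [hB k (by omega), hyB k (by omega), sub_zero]) (by
      rw [mul_sub]; exact sub_mem hz (Ideal.mul_mem_left _ _ hy))
    simpa using add_mem h2 hy

theorem rel_step : Rel (I ⊔ Ideal.span {θ - C a}) (J ⊔ Ideal.span {θ}) where
  hom := hR.hom.sup (Ideal.homogeneous_span _ _ (by rintro _ rfl; exact ⟨1, hθ⟩))
  top := by
    intro x hx N hxB
    obtain ⟨y, hy, w, hw, rfl⟩ := Submodule.mem_sup.mp hx
    obtain ⟨z, rfl⟩ := Ideal.mem_span_singleton'.mp hw
    suffices ∀ M y z, y ∈ I → Below z M → Below (y + z * (θ - C a)) (N + 1) →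
        homogeneousComponent N (y + z * (θ - C a)) ∈ J ⊔ Ideal.span {θ} from
      this _ y z hy (below_totalDegree z) hxB
    intro M
    induction M with
    | zero =>
      intro y z hy hz hB
      rw [below_zero hz, zero_mul, add_zero] at hB ⊢
      exact Ideal.mem_sup_left (hR.top y hy N hB)
    | succ M ih =>
      intro y z hy hz hB
      by_cases hMN : M + 1 ≤ N
      · have hyB : Below y (N + 1) := fun k hk => by
          have h := hB k hk
          obtain ⟨k, rfl⟩ : ∃ k', k = k' + 1 := ⟨k - 1, by omega⟩
          rw [mul_comm, sub_mul, map_add, map_sub, comp_linear_mul_succ hθ, comp_C_mul, hz k (by omega),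
            hz (k + 1) (by omega), mul_zero, mul_zero, sub_zero, add_zero] at h
          exact h
        obtain ⟨N', rfl⟩ : ∃ N', N = N' + 1 := ⟨N - 1, by omega⟩
        rw [mul_comm, sub_mul, map_add, map_sub, comp_linear_mul_succ hθ, comp_C_mul, hz (N' + 1) hMN, mul_zero,
          sub_zero]
        exact add_mem (Ideal.mem_sup_left (hR.top y hy _ hyB))
          (Ideal.mem_sup_right (Ideal.mem_span_singleton.mpr (dvd_mul_right θ _)))
      · have hyB : Below y (M + 1 + 1) := fun k hk => by
          have h := hB k (by omega)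
          obtain ⟨k, rfl⟩ : ∃ k', k = k' + 1 := ⟨k - 1, by omega⟩
          rw [mul_comm, sub_mul, map_add, map_sub, comp_linear_mul_succ hθ, comp_C_mul, hz k (by omega),
            hz (k + 1) (by omega), mul_zero, mul_zero, sub_zero, add_zero] at h
          exact h
        have h1 := hR.top y hy (M + 1) hyB
        have h2 := hB (M + 1) (by omega)
        rw [mul_comm, sub_mul, map_add, map_sub, comp_linear_mul_succ hθ, comp_C_mul, hz (M + 1) le_rfl, mul_zero,
          sub_zero] at h2
        rw [eq_neg_of_add_eq_zero_left h2, neg_mem_iff] at h1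
        obtain ⟨w, hw, hwB, hwM⟩ := hR.lift _ (hreg _ h1) M (homogeneousComponent_isHomogeneous M z)
        have h3 : y + z * (θ - C a) = (y + w * (θ - C a)) + (z - w) * (θ - C a) := by ring
        rw [h3] at hB ⊢
        refine ih _ _ (add_mem hy (Ideal.mul_mem_right _ _ hw)) (fun k hk => ?_) hB
        rw [map_sub]
        rcases eq_or_lt_of_le hk with rfl | hk'
        · rw [hwM, sub_self]
        · rw [hz k (by omega), hwB k (by omega), sub_zero]
  lift := by
    intro h hh N hN
    obtain ⟨j, hj, w, hw, rfl⟩ := Submodule.mem_sup.mp hh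
    obtain ⟨g, rfl⟩ := Ideal.mem_span_singleton'.mp hw
    have hcomp : j + g * θ = homogeneousComponent N j + homogeneousComponent N (θ * g) := by
      conv_lhs => rw [← show homogeneousComponent N (j + g * θ) = j + g * θ by
        rw [homogeneousComponent_of_mem hN, if_pos rfl]]
      rw [map_add, mul_comm g θ]
    obtain ⟨y, hy, hyB, hyN⟩ := hR.lift _ (homogeneousComponent_mem_of_mem hR.hom hj N) N
      (homogeneousComponent_isHomogeneous N j)
    rw [hcomp]
    rcases N with _ | N
    · refine ⟨y, Ideal.mem_sup_left hy, hyB, ?_⟩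
      rw [hyN, comp_linear_mul_zero hθ, add_zero]
    · have hg : ∀ k, homogeneousComponent k (homogeneousComponent N g) =
          if k = N then homogeneousComponent N g else 0 := fun k =>
        homogeneousComponent_of_mem (homogeneousComponent_isHomogeneous N g)
      refine ⟨y + (θ - C a) * homogeneousComponent N g, add_mem (Ideal.mem_sup_left hy)
        (Ideal.mem_sup_right (Ideal.mem_span_singleton.mpr (dvd_mul_right _ _))), fun k hk => ?_, ?_⟩
      · obtain ⟨k, rfl⟩ : ∃ k', k = k' + 1 := ⟨k - 1, by omega⟩
        rw [sub_mul, map_add, map_sub, comp_linear_mul_succ hθ, comp_C_mul, hyB (k + 1) hk, hg, hg,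
          if_neg (by omega), if_neg (by omega)]
        simp
      · rw [sub_mul, map_add, map_sub, comp_linear_mul_succ hθ, comp_C_mul, comp_linear_mul_succ hθ, hyN, hg, hg,
          if_pos rfl, if_neg (by omega)]
        simp

end Groth.L14.Shift
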