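import Groth.Prelude.Def_CAlg
import Groth.Agent.L14.SMT.LinearShift
import Groth.Agent.L04.CMLoc
import Groth.Agent.L04.DepthLoc
import Groth.Agent.L22.AffineDim
import Mathlib.Algebra.Module.Submodule.Union
import Mathlib.RingTheory.Nullstellensatz
import Mathlib.RingTheory.Ideal.AssociatedPrime.Finiteness
import Mathlib.RingTheory.GradedAlgebra.Radical
import Mathlib.RingTheory.MvPolynomial.Ideal

/-!
Cohen–Macaulayness of homogeneous quotients of polynomial rings from depth at the vertex.
-/

open MvPolynomial RingTheory.Sequence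
open scoped Pointwise

namespace Groth.L14.CMCrit

universe u

attribute [local instance] MvPolynomial.gradedAlgebra

open Groth.L04 in
/-- Depth `≥ dim` at all maximal ideals gives Cohen–Macaulay. -/
theorem isCohenMacaulayRing_of_forall_maximal (R : Type u) [CommRing R] [IsNoetherianRing R] (e : ℕ)
    (hdepth : ∀ m : Ideal R, m.IsMaximal → (e : ℕ∞) ≤ LocCoh.idealDepth m R)
    (hdim : ringKrullDim R ≤ (e : WithBot ℕ∞)) : LocCoh.IsCohenMacaulayRing R where
  isCohenMacaulayLocalRing_localization p hp := by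
    obtain ⟨m, hm, hpm⟩ := Ideal.exists_le_maximal p hp.ne_top
    haveI := hm.isPrime
    have h1 : (e : ℕ∞) ≤ LocCoh.depth (Localization.AtPrime m) (Localization.AtPrime m) := by
      refine (hdepth m hm).trans ?_
      rw [idealDepth_eq_iInf_depth, ← depth_localizedModule_self]
      exact iInf₂_le (⟨m, inferInstance⟩ : PrimeSpectrum R) le_rfl
    have hm' : LocCoh.IsCohenMacaulayLocalRing (Localization.AtPrime m) := by
      refine { supportDim_eq_depth := le_antisymm ?_ depth_le_supportDim }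
      rw [Module.supportDim_self_eq_ringKrullDim]
      refine le_trans ((ringKrullDim_le_of_localization R m).trans hdim) ?_
      exact_mod_cast h1
    have hCM := isCohenMacaulayRing_of_local (Localization.AtPrime m)
    have hdisj : Disjoint (m.primeCompl : Set R) (p : Set R) :=
      Set.disjoint_left.mpr fun x hx hxp => hx (hpm hxp)
    have hne : p.map (algebraMap R (Localization.AtPrime m)) ≠ ⊤ :=
      ((IsLocalization.isPrime_of_isPrime_disjoint m.primeCompl _ p hp hdisj)).ne_top
    have h2 := (isCohenMacaulayRing_iff_height.mp hCM) _ hne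
    rw [IsLocalization.height_map_of_disjoint m.primeCompl p hdisj] at h2
    refine { supportDim_eq_depth := le_antisymm ?_ depth_le_supportDim }
    rw [Module.supportDim_self_eq_ringKrullDim, IsLocalization.AtPrime.ringKrullDim_eq_height p]
    have h3 := idealDepth_localized_le_depth (M := R) hpm
    rw [depth_localizedModule_self, idealDepth_congr (localizedModuleSelfEquiv m), h2] at h3
    exact_mod_cast h3
where
  ringKrullDim_le_of_localization (R : Type u) [CommRing R] (m : Ideal R) [m.IsPrime] :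
      ringKrullDim (Localization.AtPrime m) ≤ ringKrullDim R := by
    rw [IsLocalization.AtPrime.ringKrullDim_eq_height m]
    exact Ideal.height_le_ringKrullDim_of_ne_top (Ideal.IsPrime.ne_top ‹_›)

variable {K : Type u} [Field K] {σ : Type}

/-- Multiplication by `x` is injective modulo `J`. -/
theorem isSMulRegular_quotient_iff (J : Ideal (MvPolynomial σ K)) (x : MvPolynomial σ K) :
    IsSMulRegular (MvPolynomial σ K ⧸ J) x ↔ ∀ z, x * z ∈ J → z ∈ J := by
  rw [isSMulRegular_iff_right_eq_zero_of_smul]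
  constructor
  · intro h z hz
    rw [← Ideal.Quotient.eq_zero_iff_mem]
    exact h _ (Ideal.Quotient.eq_zero_iff_mem.mpr hz)
  · intro h y hy
    obtain ⟨z, rfl⟩ := Ideal.Quotient.mk_surjective y
    exact Ideal.Quotient.eq_zero_iff_mem.mpr (h z (Ideal.Quotient.eq_zero_iff_mem.mp hy))

/-- Killing an element in a cyclic module. -/
noncomputable def quotSMulTopEquiv (J : Ideal (MvPolynomial σ K)) (x : MvPolynomial σ K) :
    QuotSMulTop x (MvPolynomial σ K ⧸ J) ≃ₗ[MvPolynomial σ K] MvPolynomial σ K ⧸ (J ⊔ Ideal.span {x}) :=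
  (Submodule.quotEquivOfEq _ (Submodule.map J.mkQ (J ⊔ Ideal.span {x})) (by
    refine le_antisymm ?_ ?_
    · intro y hy
      obtain ⟨w, -, rfl⟩ := (Submodule.mem_smul_pointwise_iff_exists _ _ _).1 hy
      obtain ⟨z, rfl⟩ := Ideal.Quotient.mk_surjective w
      exact Submodule.mem_map_of_mem (f := J.mkQ)
        (Ideal.mem_sup_right (Ideal.mem_span_singleton.mpr (dvd_mul_right x z)))
    · rw [Submodule.map_le_iff_le_comap, sup_le_iff]
      refine ⟨fun z hz => ?_, ?_⟩
      · rw [Submodule.mem_comap, show J.mkQ z = 0 from (Submodule.Quotient.mk_eq_zero J).mpr hz]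
        exact zero_mem _
      · rw [Ideal.span_singleton_le_iff_mem, Submodule.mem_comap]
        exact (Submodule.mem_smul_pointwise_iff_exists _ _ _).2
          ⟨J.mkQ 1, trivial, by rw [← map_smul, smul_eq_mul, mul_one]⟩)).trans
    (Submodule.quotientQuotientEquivQuotient J (J ⊔ Ideal.span {x}) le_sup_left)

/-- Regular sequences modulo an ideal. -/
noncomputable def RegSeq : Ideal (MvPolynomial σ K) → List (MvPolynomial σ K) → Prop
  | _, [] => True
  | J, x :: l => (∀ z, x * z ∈ J → z ∈ J) ∧ RegSeq (J ⊔ Ideal.span {x}) l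

theorem isWeaklyRegular_of_regSeq : ∀ (l : List (MvPolynomial σ K)) (J : Ideal (MvPolynomial σ K)),
    RegSeq J l → IsWeaklyRegular (MvPolynomial σ K ⧸ J) l
  | [], _, _ => IsWeaklyRegular.nil _ _
  | x :: l, J, ⟨h1, h2⟩ => (isWeaklyRegular_cons_iff _ _ _).mpr ⟨(isSMulRegular_quotient_iff J x).mpr h1,
      ((quotSMulTopEquiv J x).isWeaklyRegular_congr l).mpr (isWeaklyRegular_of_regSeq l _ h2)⟩

/-- The vertex. -/
noncomputable def vertex (K : Type u) [Field K] (σ : Type) : Ideal (MvPolynomial σ K) := Ideal.span (Set.range X)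

theorem isHomogeneous_vertex : (vertex K σ).IsHomogeneous (homogeneousSubmodule σ K) :=
  Ideal.homogeneous_span _ _ (by rintro _ ⟨i, rfl⟩; exact ⟨1, isHomogeneous_X K i⟩)

variable [Finite σ] [Infinite K]

theorem exists_linear_regular (J : Ideal (MvPolynomial σ K))
    (h : (1 : ℕ∞) ≤ LocCoh.idealDepth (vertex K σ) (MvPolynomial σ K ⧸ J)) :
    ∃ θ : MvPolynomial σ K, θ.IsHomogeneous 1 ∧ θ ∈ vertex K σ ∧ ∀ z, θ * z ∈ J → z ∈ J := by
  set M := MvPolynomial σ K ⧸ J
  set V := Submodule.span K (Set.range (X : σ → MvPolynomial σ K))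
  have hVle : V ≤ (vertex K σ).restrictScalars K := Submodule.span_le.mpr fun x hx => Ideal.subset_span hx
  haveI : Finite (associatedPrimes (MvPolynomial σ K) M) :=
    (associatedPrimes.finite (MvPolynomial σ K) M).to_subtype
  have hprop : ∀ P : associatedPrimes (MvPolynomial σ K) M,
      (P.1.restrictScalars K).comap V.subtype ≠ ⊤ := by
    rintro ⟨P, hP⟩ htop
    have hPp : P.IsPrime := IsAssociatedPrime.isPrime hP
    obtain ⟨z, hz⟩ := (isAssociatedPrime_iff.1 hP).2
    have hMP : vertex K σ ≤ P := Ideal.span_le.mpr (by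
      rintro _ ⟨i, rfl⟩
      have : (⟨X i, Submodule.subset_span ⟨i, rfl⟩⟩ : V) ∈ (P.restrictScalars K).comap V.subtype := by
        rw [htop]; trivial
      exact this)
    have hz0 : z = 0 := Groth.L04.hom_zero_of_one_le h fun a ha => by
      have := hMP ha
      rw [hz] at this
      simpa using this
    subst hz0
    apply hPp.ne_top
    rw [hz, eq_top_iff]
    intro a _
    simp
  obtain ⟨θ, hθ⟩ := Submodule.exists_forall_notMem_of_forall_ne_top _ hprop
  refine ⟨θ.1, ?_, hVle θ.2, (isSMulRegular_quotient_iff J θ.1).mp ?_⟩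
  · have hV : V ≤ homogeneousSubmodule σ K 1 :=
      Submodule.span_le.mpr (by rintro _ ⟨i, rfl⟩; exact isHomogeneous_X K i)
    exact hV θ.2
  · have h2 : θ.1 ∉ ⋃ P ∈ associatedPrimes (MvPolynomial σ K) M, (P : Set (MvPolynomial σ K)) := by
      simp only [Set.mem_iUnion, not_exists]
      intro P hP hmem
      exact hθ ⟨P, hP⟩ hmem
    rw [biUnion_associatedPrimes_eq_compl_regular] at h2
    exact not_not.mp h2

theorem exists_regSeq : ∀ (e : ℕ) (J : Ideal (MvPolynomial σ K)),
    (e : ℕ∞) ≤ LocCoh.idealDepth (vertex K σ) (MvPolynomial σ K ⧸ J) →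
    ∃ l : List (MvPolynomial σ K), l.length = e ∧ (∀ θ ∈ l, θ.IsHomogeneous 1) ∧ RegSeq J l
  | 0, J, _ => ⟨[], rfl, by simp, trivial⟩
  | e + 1, J, h => by
    obtain ⟨θ, hθ1, hθm, hreg⟩ := exists_linear_regular J (le_trans (by simp) h)
    have h2 := (Groth.L04.le_idealDepth_quotSMulTop_iff hθm ((isSMulRegular_quotient_iff J θ).mpr hreg) e).mpr h
    rw [Groth.L04.idealDepth_congr (quotSMulTopEquiv J θ)] at h2
    obtain ⟨l, hl, hlh, hlr⟩ := exists_regSeq e _ h2
    exact ⟨θ :: l, by simp [hl], List.forall_mem_cons.mpr ⟨hθ1, hlh⟩, hreg, hlr⟩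

omit [Finite σ] [Infinite K] in
theorem regSeq_shift (p : σ → K) : ∀ (l : List (MvPolynomial σ K)) (I J : Ideal (MvPolynomial σ K)),
    Shift.Rel I J → (∀ θ ∈ l, θ.IsHomogeneous 1) → RegSeq J l →
    RegSeq I (l.map fun θ => θ - C (MvPolynomial.eval p θ))
  | [], _I, _J, _, _, _ => trivial
  | θ :: l, I, J, hR, hl, ⟨h1, h2⟩ =>
    ⟨Shift.regular_shift hR (hl θ List.mem_cons_self) h1 _,
      regSeq_shift p l _ _ (Shift.rel_step hR (hl θ List.mem_cons_self) h1 _)
        (fun x hx => hl x (List.mem_cons_of_mem _ hx)) h2⟩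

theorem le_idealDepth_point {J : Ideal (MvPolynomial σ K)} (hJ : J.IsHomogeneous (homogeneousSubmodule σ K))
    {e : ℕ} (h : (e : ℕ∞) ≤ LocCoh.idealDepth (vertex K σ) (MvPolynomial σ K ⧸ J)) (p : σ → K) :
    (e : ℕ∞) ≤ LocCoh.idealDepth (vanishingIdeal K {p}) (MvPolynomial σ K ⧸ J) := by
  obtain ⟨l, rfl, hl, hreg⟩ := exists_regSeq e J h
  refine le_trans ?_ (Groth.L04.length_le_idealDepth
    (isWeaklyRegular_of_regSeq _ J (regSeq_shift p l J J (Shift.rel_refl hJ) hl hreg)) ?_)
  · rw [List.length_map]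
  · intro r hr
    obtain ⟨θ, -, rfl⟩ := List.mem_map.mp hr
    rw [mem_vanishingIdeal_singleton_iff]
    simp

omit [Infinite K] in
theorem idealDepth_quotient_eq (J : Ideal (MvPolynomial σ K)) (m : Ideal (MvPolynomial σ K ⧸ J)) :
    LocCoh.idealDepth m (MvPolynomial σ K ⧸ J) =
      LocCoh.idealDepth (m.comap (Ideal.Quotient.mk J)) (MvPolynomial σ K ⧸ J) := by
  rw [Groth.L04.idealDepth_eq_idealDepth_map_of_finite (R := MvPolynomial σ K) (B := MvPolynomial σ K ⧸ J)
    (m.comap (Ideal.Quotient.mk J)) (MvPolynomial σ K ⧸ J)]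
  rw [Ideal.Quotient.algebraMap_eq, Ideal.map_comap_of_surjective _ Ideal.Quotient.mk_surjective]

/-- Depth `≥ e ≥ dim` at the vertex gives Cohen–Macaulay. -/
theorem isCohenMacaulayRing_of_depth [IsAlgClosed K] {J : Ideal (MvPolynomial σ K)}
    (hJ : J.IsHomogeneous (homogeneousSubmodule σ K)) (e : ℕ)
    (h : (e : ℕ∞) ≤ LocCoh.idealDepth (vertex K σ) (MvPolynomial σ K ⧸ J))
    (hdim : ringKrullDim (MvPolynomial σ K ⧸ J) ≤ (e : WithBot ℕ∞)) :
    LocCoh.IsCohenMacaulayRing (MvPolynomial σ K ⧸ J) := by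
  refine isCohenMacaulayRing_of_forall_maximal _ e (fun m hm => ?_) hdim
  rw [idealDepth_quotient_eq]
  haveI := hm
  obtain ⟨p, hp⟩ := (isMaximal_iff_eq_vanishingIdeal_singleton (K := K)).mp
    (Ideal.comap_isMaximal_of_surjective (Ideal.Quotient.mk J) Ideal.Quotient.mk_surjective (K := m))
  rw [hp]
  exact le_idealDepth_point hJ h p

omit [Infinite K] in
/-- The dimension of a quotient by a homogeneous ideal is attained at the vertex. -/
theorem ringKrullDim_le_height_vertex {J : Ideal (MvPolynomial σ K)}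
    (hJ : J.IsHomogeneous (homogeneousSubmodule σ K)) :
    ringKrullDim (MvPolynomial σ K ⧸ J) ≤
      (((vertex K σ).map (Ideal.Quotient.mk J)).height : WithBot ℕ∞) := by
  rw [ringKrullDim_quotient]
  refine iSup_le fun l => ?_
  obtain ⟨P, ⟨hPmin, hPl⟩⟩ := Ideal.exists_minimalPrimes_le (J := l.head.1.asIdeal) l.head.2
  haveI : P.IsPrime := hPmin.1.1
  have hPhom : P.IsHomogeneous (homogeneousSubmodule σ K) := by
    have hle : J ≤ (P.homogeneousCore (homogeneousSubmodule σ K)).toIdeal := fun x hx => by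
      rw [← sum_homogeneousComponent x]
      exact Ideal.sum_mem _ fun i _ => Ideal.mem_homogeneousCore_of_homogeneous_of_mem
        ⟨i, homogeneousComponent_isHomogeneous i x⟩ (hPmin.1.2 (homogeneousComponent_mem_of_mem hJ hx i))
    have := hPmin.2 ⟨Ideal.IsPrime.homogeneousCore (I := P) inferInstance, hle⟩
      (Ideal.toIdeal_homogeneousCore_le _ P)
    rw [le_antisymm this (Ideal.toIdeal_homogeneousCore_le _ P)]
    exact (P.homogeneousCore (homogeneousSubmodule σ K)).isHomogeneous
  have hPv : P ≤ vertex K σ := fun x hx => by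
    by_contra hxv
    have h0 : homogeneousComponent 0 x ∉ vertex K σ := by
      intro h0
      apply hxv
      rw [← sum_homogeneousComponent x]
      refine Ideal.sum_mem _ fun i _ => ?_
      rcases i with _ | i
      · exact h0
      · have hi := (mem_homogeneousSubmodule _ _).mp (homogeneousComponent_isHomogeneous (i + 1) x)
        rw [vertex, ← Set.image_univ, mem_ideal_span_X_image]
        intro m hm
        have hdeg := hi (MvPolynomial.mem_support_iff.mp hm)
        obtain ⟨t, ht⟩ : ∃ t, m t ≠ 0 := by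
          by_contra hc
          push Not at hc
          rw [show m = 0 from Finsupp.ext hc] at hdeg
          simp at hdeg
        exact ⟨t, trivial, ht⟩
    have h1 := homogeneousComponent_mem_of_mem hPhom hx 0
    rw [homogeneousComponent_zero] at h0 h1
    by_cases hc : coeff 0 x = 0
    · rw [hc, map_zero] at h0; exact h0 (zero_mem _)
    · exact Ideal.IsPrime.ne_top ‹P.IsPrime› (Ideal.eq_top_of_isUnit_mem _ h1
        ((isUnit_iff_ne_zero.mpr hc).map C))
  haveI hMmax : (vertex K σ).IsMaximal := by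
    rw [show vertex K σ = RingHom.ker (constantCoeff : MvPolynomial σ K →+* K) from ?_]
    · exact RingHom.ker_isMaximal_of_surjective _ fun a => ⟨C a, constantCoeff_C σ a⟩
    · refine le_antisymm (Ideal.span_le.mpr (by rintro _ ⟨i, rfl⟩; simp)) fun x hx => ?_
      rw [vertex, ← Set.image_univ, mem_ideal_span_X_image]
      intro m hm
      obtain ⟨t, ht⟩ : ∃ t, m t ≠ 0 := by
        by_contra hc
        push Not at hc
        rw [show m = 0 from Finsupp.ext hc] at hm
        exact MvPolynomial.mem_support_iff.mp hm hx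
      exact ⟨t, trivial, ht⟩
  set A := MvPolynomial σ K ⧸ P
  let f : (MvPolynomial σ K ⧸ J) →+* A := Ideal.Quotient.factor hPmin.1.2
  have hA1 : (l.length : WithBot ℕ∞) ≤ ringKrullDim A := by
    rw [ringKrullDim_quotient]
    refine le_iSup_of_le ⟨l.length, fun i => ⟨(l i).1, fun x hx => ?_⟩, fun i => l.step i⟩ le_rfl
    exact (l.monotone (Fin.zero_le i) : l.head ≤ l i) (hPl hx)
  haveI : ((vertex K σ).map (Ideal.Quotient.mk P)).IsMaximal :=
    Ideal.IsMaximal.map_of_surjective_of_ker_le Ideal.Quotient.mk_surjective (by rwa [Ideal.mk_ker])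
  haveI : Algebra.FiniteType K A :=
    Algebra.FiniteType.of_surjective (Ideal.Quotient.mkₐ K P) Ideal.Quotient.mk_surjective
  have hA2 : (((vertex K σ).map (Ideal.Quotient.mk P)).height : WithBot ℕ∞) = ringKrullDim A :=
    Groth.L22.AffineDim.height_of_isMaximal K A _
  rw [← hA2] at hA1
  refine hA1.trans (WithBot.coe_le_coe.mpr ?_)
  have hJv : J ≤ vertex K σ := hPmin.1.2.trans hPv
  haveI : ((vertex K σ).map (Ideal.Quotient.mk J)).IsPrime :=
    (Ideal.IsMaximal.map_of_surjective_of_ker_le Ideal.Quotient.mk_surjective (by rwa [Ideal.mk_ker])).isPrime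
  let qP : PrimeSpectrum A := ⟨(vertex K σ).map (Ideal.Quotient.mk P), Ideal.IsMaximal.isPrime inferInstance⟩
  let qJ : PrimeSpectrum (MvPolynomial σ K ⧸ J) := ⟨(vertex K σ).map (Ideal.Quotient.mk J), inferInstance⟩
  show qP.asIdeal.height ≤ qJ.asIdeal.height
  rw [PrimeSpectrum.height_eq_orderHeight, PrimeSpectrum.height_eq_orderHeight]
  refine le_trans (Order.height_le_height_apply_of_strictMono (PrimeSpectrum.comap f)
    (fun a b hab => lt_of_le_of_ne (Ideal.comap_mono hab.le) fun h => hab.ne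
      (PrimeSpectrum.comap_injective_of_surjective f (Ideal.Quotient.factor_surjective _) h)) _) (le_of_eq ?_)
  congr 1
  refine PrimeSpectrum.ext ?_
  show Ideal.comap f ((vertex K σ).map (Ideal.Quotient.mk P)) = _
  refine Ideal.comap_injective_of_surjective _ (Ideal.Quotient.mk_surjective (I := J)) ?_
  rw [Ideal.comap_comap, Ideal.Quotient.factor_comp_mk, Ideal.comap_map_of_surjective _ Ideal.Quotient.mk_surjective,
    Ideal.comap_map_of_surjective _ Ideal.Quotient.mk_surjective, ← RingHom.ker_eq_comap_bot,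
    ← RingHom.ker_eq_comap_bot, Ideal.mk_ker, Ideal.mk_ker, sup_eq_left.mpr hPv, sup_eq_left.mpr hJv]

end Groth.L14.CMCrit
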