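import Groth.Agent.L14.SMT.Cell
import Groth.Agent.L14.SMT.Birational
import Groth.Agent.L22.AffineDim
import Mathlib.RingTheory.Polynomial.UniqueFactorization
import Mathlib.RingTheory.UniqueFactorizationDomain.GCDMonoid
import Mathlib.RingTheory.Polynomial.Basic
import Mathlib.RingTheory.FiniteType

open MvPolynomial W4bk4grassmannian Finset

namespace Groth.L14.SMT

universe u

variable {K : Type u} [Field K] [Infinite K] {d n : ℕ}

/-- The homogeneous coordinate ring of a Schubert variety. -/
abbrev SRing (K : Type u) [Field K] {d n : ℕ} (τ : Idx d n) : Type u := PlRing K d n ⧸ plIdeal K τ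

/-- The chart on the coordinate ring. -/
noncomputable def chartR (hd : 0 < d) (τ : Idx d n) : SRing K τ →ₐ[K] Polynomial (CellPoly K τ) :=
  Ideal.Quotient.liftₐ _ (chart τ) fun _ ha => plIdeal_le_ker hd τ ha

omit [Infinite K] in
theorem chartR_mk (hd : 0 < d) (τ : Idx d n) (f : PlRing K d n) :
    chartR hd τ (Ideal.Quotient.mk _ f) = chart τ f := rfl

theorem chartR_injective (hd : 0 < d) (hdn : d ≤ n) (τ : Idx d n) :
    Function.Injective (chartR (K := K) hd τ) := by
  rw [injective_iff_map_eq_zero]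
  intro x hx
  obtain ⟨f, rfl⟩ := Ideal.Quotient.mk_surjective x
  rw [chartR_mk] at hx
  rw [Ideal.Quotient.eq_zero_iff_mem, ← ker_chart hd hdn τ]
  exact hx

omit [Infinite K] in
theorem chartR_top (hd : 0 < d) (τ : Idx d n) :
    chartR (K := K) hd τ (Ideal.Quotient.mk _ (X τ)) = Polynomial.X := by
  rw [chartR_mk, chart_top]

omit [Infinite K] in
theorem chartR_loc (hd : 0 < d) (τ : Idx d n) (y : Polynomial (CellPoly K τ)) :
    ∃ k : ℕ, ∃ r : SRing K τ,
      (chartR hd τ).toRingHom r = (chartR hd τ).toRingHom (Ideal.Quotient.mk _ (X τ)) ^ k * y := by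
  obtain ⟨k, f, hf⟩ := exists_pow_mul hd τ y
  refine ⟨k, Ideal.Quotient.mk _ f, ?_⟩
  show chartR hd τ _ = chartR hd τ _ ^ k * y
  rw [chartR_top, chartR_mk, hf]

omit [Infinite K] in
theorem top_ne_zero (hd : 0 < d) (τ : Idx d n) : (Ideal.Quotient.mk (plIdeal K τ) (X τ) : SRing K τ) ≠ 0 := by
  intro h
  have := chartR_top (K := K) hd τ
  rw [h, map_zero] at this
  exact Polynomial.X_ne_zero this.symm

omit [Infinite K] in
theorem top_eq_bot {hdn : d ≤ n} {τ : Idx d n} (h : ¬ ∃ φ : Idx d n, φ < τ) : τ = botIdx hdn :=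
  (botIdx_le hdn τ).eq_or_lt.elim (fun e => e.symm) (fun e => absurd ⟨_, e⟩ h)

omit [Infinite K] in
theorem span_top_isRadical (hd : 0 < d) (hdn : d < n) (τ : Idx d n) :
    (Ideal.span {(Ideal.Quotient.mk (plIdeal K τ) (X τ) : SRing K τ)}).IsRadical := by
  rw [← Set.image_singleton, ← Ideal.map_span]
  intro x hx
  obtain ⟨m, hm⟩ := hx
  obtain ⟨f, rfl⟩ := Ideal.Quotient.mk_surjective x
  rw [← map_pow, Ideal.mem_quotient_iff_mem_sup] at hm
  rw [Ideal.mem_quotient_iff_mem_sup, sup_comm]
  rw [sup_comm] at hm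
  by_cases hτ : ∃ φ : Idx d n, φ < τ
  · rw [sup_span_top hd hdn.le τ hτ] at hm ⊢
    simp only [Submodule.mem_iInf] at hm ⊢
    exact fun φ hφ => (isPrime_plIdeal hd hdn.le φ).mem_of_pow_mem m (hm φ hφ)
  · have hb : τ = botIdx hdn.le := top_eq_bot hτ
    have hp : Prime (Ideal.Quotient.mk (plIdeal K τ) (X τ)) := by
      have := prime_bot (K := K) hd hdn τ
      subst hb
      exact this
    have hP : (Ideal.span {(Ideal.Quotient.mk (plIdeal K τ) (X τ) : SRing K τ)}).IsPrime :=
      (Ideal.span_singleton_prime hp.ne_zero).mpr hp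
    have h1 := hP.mem_of_pow_mem m (r := Ideal.Quotient.mk (plIdeal K τ) f) (by
      rw [← map_pow, ← Set.image_singleton, ← Ideal.map_span, Ideal.mem_quotient_iff_mem_sup, sup_comm]
      exact hm)
    rw [← Set.image_singleton, ← Ideal.map_span, Ideal.mem_quotient_iff_mem_sup, sup_comm] at h1
    exact h1

theorem normal (hd : 0 < d) (hdn : d < n) (τ : Idx d n) :
    IsDomain (SRing K τ) ∧ IsIntegrallyClosed (SRing K τ) :=
  ⟨(Ideal.Quotient.isDomain_iff_prime _).mpr (isPrime_plIdeal hd hdn.le τ),
    Bir.isIntegrallyClosed (chartR hd τ).toRingHom (chartR_injective hd hdn.le τ) _ (top_ne_zero hd τ)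
      (chartR_loc hd τ) (span_top_isRadical hd hdn τ)⟩

theorem dim (hd : 0 < d) (hdn : d < n) (τ : Idx d n) :
    ringKrullDim (SRing K τ) = ((codeg τ + 1 : ℕ) : WithBot ℕ∞) := by
  haveI : IsDomain (SRing K τ) := (normal hd hdn τ).1
  haveI : Algebra.FiniteType K (SRing K τ) :=
    Algebra.FiniteType.of_surjective (Ideal.Quotient.mkₐ K (plIdeal K τ)) Ideal.Quotient.mk_surjective
  haveI : Algebra.FiniteType K (Polynomial (CellPoly K τ)) := inferInstance
  have hP : ringKrullDim (Polynomial (CellPoly K τ)) = ((codeg τ + 1 : ℕ) : WithBot ℕ∞) := by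
    rw [Polynomial.ringKrullDim_of_isNoetherianRing, MvPolynomial.ringKrullDim_of_isNoetherianRing,
      ringKrullDim_eq_zero_of_field, zero_add, Nat.card_eq_fintype_card, card_cell]
    rfl
  obtain ⟨e, -, -, -, he, -⟩ := Groth.L22.AffineDim.exists_normalization K (SRing K τ)
  suffices ∀ (L : Type u) [Field L] [Algebra (Polynomial (CellPoly K τ)) L]
      [IsFractionRing (Polynomial (CellPoly K τ)) L] [Algebra K L]
      [IsScalarTower K (Polynomial (CellPoly K τ)) L], e = codeg τ + 1 by
    rw [he, this (FractionRing (Polynomial (CellPoly K τ)))]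
  intro L _ _ _ _ _
  letI : Algebra (SRing K τ) L :=
    ((algebraMap (Polynomial (CellPoly K τ)) L).comp (chartR hd τ).toRingHom).toAlgebra
  have hfr := Bir.isFractionRing (chartR (K := K) hd τ).toRingHom (chartR_injective hd hdn.le τ)
    (Ideal.Quotient.mk (plIdeal K τ) (X τ)) (top_ne_zero hd τ) (chartR_loc hd τ) L
  haveI : IsFractionRing (SRing K τ) L := hfr
  haveI : IsScalarTower K (SRing K τ) L := IsScalarTower.of_algebraMap_eq (R := K) (S := SRing K τ) (A := L) fun x => by
    show algebraMap K L x = algebraMap _ L (chartR hd τ (algebraMap K _ x))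
    rw [AlgHom.commutes, ← IsScalarTower.algebraMap_apply]
  have h1 := Groth.L22.AffineDim.trdeg_fractionRing K (SRing K τ) L he
  have h2 := Groth.L22.AffineDim.trdeg_fractionRing K (Polynomial (CellPoly K τ)) L hP
  exact_mod_cast h1.symm.trans h2

omit [Infinite K] in
theorem top_irreducible (hd : 0 < d) (τ : Idx d n) (hinj : Function.Injective (chartR (K := K) hd τ)) :
    Irreducible (Ideal.Quotient.mk (plIdeal K τ) (X τ) : SRing K τ) := by
  have key : ∀ x : SRing K τ, IsUnit (chartR hd τ x) → IsUnit x := by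
    intro x hx
    obtain ⟨f, rfl⟩ := Ideal.Quotient.mk_surjective x
    obtain ⟨c, hc, hcx⟩ := Polynomial.isUnit_iff.mp hx
    rw [chartR_mk] at hcx
    have hlow : chart τ f = Polynomial.C (cellMinors τ (homogeneousComponent 0 f)) := by
      rw [← hcx]
      congr 1
      have h1 := congrArg (fun q => Polynomial.coeff q 0) hcx
      conv at h1 => enter [2, 1]; rw [← MvPolynomial.sum_homogeneousComponent f]
      simp only [map_sum, chart_hom τ (homogeneousComponent_isHomogeneous _ f), Polynomial.finset_sum_coeff,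
        Polynomial.X_pow_mul_C, Polynomial.coeff_C_mul_X_pow, Polynomial.coeff_C_zero] at h1
      simpa using h1
    rw [homogeneousComponent_zero, algHom_C] at hlow
    have h4 : Ideal.Quotient.mk (plIdeal K τ) f = algebraMap K (SRing K τ) (coeff 0 f) := by
      refine hinj ?_
      rw [chartR_mk, hlow, AlgHom.commutes]
      rfl
    rw [h4]
    refine (isUnit_iff_ne_zero.mpr fun h0 => ?_).map _
    rw [h0, map_zero, map_zero] at hlow
    rw [hlow] at hcx
    exact hc.ne_zero (Polynomial.C_eq_zero.mp hcx)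
  constructor
  · intro hu
    have := hu.map (chartR hd τ)
    rw [chartR_top] at this
    exact Polynomial.not_isUnit_X this
  · intro a b hab
    have h := congrArg (chartR hd τ) hab
    rw [map_mul, chartR_top] at h
    exact (Polynomial.irreducible_X.isUnit_or_isUnit h).imp (key a) (key b)

theorem ufd_iff (hd : 0 < d) (hdn : d < n) (τ : Idx d n) :
    UniqueFactorizationMonoid (SRing K τ) ↔ Prime (Ideal.Quotient.mk (plIdeal K τ) (X τ) : SRing K τ) := by
  haveI : IsDomain (SRing K τ) := (normal hd hdn τ).1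
  refine ⟨fun h => ?_, fun h => ?_⟩
  · exact (UniqueFactorizationMonoid.irreducible_iff_prime.mp
      (top_irreducible hd τ (chartR_injective hd hdn.le τ)))
  · refine Bir.ufd (chartR hd τ).toRingHom (chartR_injective hd hdn.le τ) _ (top_ne_zero hd τ)
      (chartR_loc hd τ) h ?_
    show Prime (chartR hd τ _)
    rw [chartR_top]
    exact Polynomial.prime_X

omit [Infinite K] in
theorem divisor_eq_of_le {τ φ φ' : Idx d n} (h : φ ∈ divisors τ) (h' : φ' ∈ divisors τ) (hle : φ ≤ φ') :
    φ = φ' := by
  refine Subtype.ext (funext fun t => ?_)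
  have hs : codeg φ = codeg φ' := by have := h.2; have := h'.2; omega
  have := (Finset.sum_eq_sum_iff_of_le (s := univ) (f := fun t : Fin d => (φ.1 t).val - t.val)
    (g := fun t : Fin d => (φ'.1 t).val - t.val) (fun t _ => by
      have := Fin.le_def.mp (hle t); omega)).mp hs t (Finset.mem_univ t)
  have := val_le_idx φ t
  have := val_le_idx φ' t
  exact Fin.ext (by omega)

omit [Infinite K] in
theorem prime_iff (hd : 0 < d) (hdn : d < n) (τ : Idx d n) :
    Prime (Ideal.Quotient.mk (plIdeal K τ) (X τ) : SRing K τ) ↔ (divisors τ).Subsingleton := by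
  classical
  by_cases hτ : ∃ φ : Idx d n, φ < τ
  · have hQ := sup_span_top (K := K) hd hdn.le τ hτ
    constructor
    · intro hp φ hφ φ' hφ'
      have hP : (plIdeal K τ ⊔ Ideal.span {X τ}).IsPrime := by
        have := Ideal.comap_isPrime (Ideal.Quotient.mk (plIdeal K τ))
          (Ideal.span {(Ideal.Quotient.mk (plIdeal K τ) (X τ) : SRing K τ)})
          (H := (Ideal.span_singleton_prime hp.ne_zero).mpr hp)
        rwa [← Set.image_singleton, ← Ideal.map_span,
          Ideal.comap_map_of_surjective _ Ideal.Quotient.mk_surjective, ← RingHom.ker_eq_comap_bot,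
          Ideal.mk_ker, sup_comm] at this
      rw [hQ] at hP
      let s : Finset (Idx d n) := univ.filter fun ψ => ψ ∈ divisors τ
      have hinf : (⨅ ψ ∈ divisors τ, plIdeal K ψ) = s.inf (plIdeal K) := by
        rw [Finset.inf_eq_iInf]
        simp [s]
      rw [hinf] at hP
      obtain ⟨ψ, hψ, hle⟩ := (Ideal.IsPrime.inf_le' hP).mp (le_refl _)
      have hψ' : ψ ∈ divisors τ := (Finset.mem_filter.mp hψ).2
      have key : ∀ χ ∈ divisors τ, χ = ψ := by
        intro χ hχ
        have h1 : plIdeal K ψ ≤ plIdeal K χ :=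
          hle.trans (Finset.inf_le (Finset.mem_filter.mpr ⟨Finset.mem_univ _, hχ⟩))
        refine divisor_eq_of_le hχ hψ' (by_contra fun h2 => ?_)
        have h3 := h1 (X_mem_plIdeal (K := K) h2)
        rw [← ker_proj_bot hd hdn.le χ, RingHom.mem_ker] at h3
        exact minor_top_ne_zero (botIdx hdn.le) χ (botIdx_le hdn.le χ) ((proj_X _ _ _).symm.trans h3)
      rw [key φ hφ, key φ' hφ']
    · intro hs
      obtain ⟨u, hu⟩ := hτ
      obtain ⟨φ, hφ, -⟩ := exists_divisor hu
      rw [← Ideal.span_singleton_prime (top_ne_zero hd τ)]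
      have hQ' : (plIdeal K τ ⊔ Ideal.span {X τ}) = plIdeal K φ := by
        rw [hQ]
        exact le_antisymm (biInf_le _ hφ) (le_iInf₂ fun ψ hψ => (hs hφ hψ) ▸ le_rfl)
      have h := Ideal.map_isPrime_of_surjective (Ideal.Quotient.mk_surjective (I := plIdeal K τ))
        (H := hQ' ▸ isPrime_plIdeal hd hdn.le φ) (I := plIdeal K τ ⊔ Ideal.span {X τ})
        (hk := by rw [Ideal.mk_ker]; exact le_sup_left)
      rwa [Ideal.map_sup, Ideal.map_quotient_self, bot_sup_eq, Ideal.map_span, Set.image_singleton] at h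
  · have hb : τ = botIdx hdn.le := top_eq_bot hτ
    refine iff_of_true ?_ fun φ hφ => absurd ⟨φ, hφ.1⟩ hτ
    have := prime_bot (K := K) hd hdn τ
    subst hb
    exact this

omit [Infinite K] in
theorem shape_iff (τ : Idx d n) :
    (divisors τ).Subsingleton ↔
      ∃ s : ℕ, (∀ t : Fin d, t.val < s → (τ.1 t).val = t.val) ∧
        ∀ t t' : Fin d, s ≤ t.val → t.val + 1 = t'.val → (τ.1 t).val + 1 = (τ.1 t').val := by
  classical
  -- decrements
  have mk : ∀ r : Fin d, r.val < (τ.1 r).val →
      (∀ a : Fin d, a.val + 1 = r.val → (τ.1 a).val + 1 < (τ.1 r).val) →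
      ∃ φ ∈ divisors τ, (φ.1 r).val + 1 = (τ.1 r).val := by
    intro r hr hpred
    let f : Fin d → Fin n := Function.update τ.1 r ⟨(τ.1 r).val - 1, by omega⟩
    have hf : StrictMono f := by
      intro a b hab
      have hτ := τ.2 hab
      simp only [f, Function.update_apply]
      split_ifs with ha hb hb
      · exact absurd (ha.trans hb.symm) hab.ne
      · subst ha; rw [Fin.lt_def] at hτ ⊢; simp only; omega
      · subst hb
        rw [Fin.lt_def]; simp only
        rw [Fin.lt_def] at hab hτ
        have h1 : (τ.1 a).val ≤ (τ.1 ⟨b.val - 1, by omega⟩).val :=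
          τ.2.monotone (show a.val ≤ b.val - 1 by omega)
        have h2 := hpred ⟨b.val - 1, by omega⟩ (by simp only; omega)
        omega
      · exact hτ
    let φ : Idx d n := ⟨f, hf⟩
    have hval : (φ.1 r).val + 1 = (τ.1 r).val := by simp [φ, f]; omega
    refine ⟨φ, ⟨lt_of_le_of_ne (fun t => ?_) (fun he => by rw [he] at hval; omega), ?_⟩, hval⟩
    · show f t ≤ τ.1 t
      simp only [f, Function.update_apply]
      split_ifs with ht
      · subst ht; rw [Fin.le_def]; simp only; omega
      · exact le_rfl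
    · rw [codeg, codeg, ← Finset.add_sum_erase _ _ (Finset.mem_univ r),
        ← Finset.add_sum_erase _ _ (Finset.mem_univ r)]
      have hs : ∑ t ∈ univ.erase r, ((φ.1 t).val - t.val) = ∑ t ∈ univ.erase r, ((τ.1 t).val - t.val) :=
        Finset.sum_congr rfl fun t ht => by
          rw [show φ.1 t = τ.1 t from Function.update_of_ne (Finset.mem_erase.mp ht).1 _ _]
      rw [hs]
      omega
  have single : ∀ φ ∈ divisors τ, ∀ a b : Fin d, φ.1 a ≠ τ.1 a → φ.1 b ≠ τ.1 b → a = b := by
    intro φ hφ a b ha hb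
    by_contra hab
    have hle : ∀ t, (φ.1 t).val ≤ (τ.1 t).val := fun t => hφ.1.le t
    have hlt : ∀ t, φ.1 t ≠ τ.1 t → (φ.1 t).val + 1 ≤ (τ.1 t).val := fun t ht =>
      lt_of_le_of_ne (hle t) (fun h => ht (Fin.ext h))
    have h : ∑ t : Fin d, (((φ.1 t).val - t.val) + ((if t = a then 1 else 0) + (if t = b then 1 else 0))) ≤
        ∑ t : Fin d, ((τ.1 t).val - t.val) := Finset.sum_le_sum fun t _ => by
      have := val_le_idx φ t
      by_cases h1 : t = a
      · subst h1
        rw [if_pos rfl, if_neg hab]; have := hlt _ ha; omega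
      · by_cases h2 : t = b
        · subst h2; rw [if_neg h1, if_pos rfl]; have := hlt _ hb; omega
        · rw [if_neg h1, if_neg h2]; have := hle t; omega
    rw [Finset.sum_add_distrib, Finset.sum_add_distrib] at h
    simp only [Finset.sum_ite_eq', Finset.mem_univ, if_true] at h
    have := hφ.2
    rw [codeg, codeg] at this
    omega
  constructor
  · intro hs
    by_cases hall : ∀ t : Fin d, (τ.1 t).val = t.val
    · exact ⟨d, fun t _ => hall t, fun t t' h => absurd t.isLt (by omega)⟩
    push Not at hall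
    obtain ⟨r, hr, hmin⟩ := Finset.exists_min_image ((univ : Finset (Fin d)).filter fun t => (τ.1 t).val ≠ t.val)
      id (by obtain ⟨t, ht⟩ := hall; exact ⟨t, by simp [ht]⟩)
    have hr' : r.val < (τ.1 r).val :=
      lt_of_le_of_ne (val_le_idx τ r) (Ne.symm (Finset.mem_filter.mp hr).2)
    have hbefore : ∀ t : Fin d, t.val < r.val → (τ.1 t).val = t.val := fun t ht => by
      by_contra hc
      exact absurd (hmin t (Finset.mem_filter.mpr ⟨Finset.mem_univ _, hc⟩)) (not_le.mpr ht)
    refine ⟨r.val, hbefore, fun t t' ht htt' => ?_⟩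
    by_contra hc
    have h1 : (τ.1 t).val < (τ.1 t').val := τ.2 (show t.val < t'.val by omega)
    obtain ⟨φ, hφ, hφv⟩ := mk r hr' (fun a ha => by rw [hbefore a (by omega)]; omega)
    obtain ⟨φ', hφ', hφv'⟩ := mk t' (by have := val_le_idx τ t; omega) (fun a ha => by
      have : a = t := Fin.ext (by omega)
      subst this; omega)
    obtain rfl := hs hφ hφ'
    have := single φ hφ r t' (fun h => by rw [h] at hφv; omega) (fun h => by rw [h] at hφv'; omega)
    subst this
    omega
  · rintro ⟨s, hs1, hs2⟩ φ hφ φ' hφ'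
    have pos : ∀ χ ∈ divisors τ, ∀ t : Fin d, χ.1 t ≠ τ.1 t → t.val = s ∧ (χ.1 t).val + 1 = (τ.1 t).val := by
      intro χ hχ t ht
      have hlt : (χ.1 t).val < (τ.1 t).val := lt_of_le_of_ne (hχ.1.le t) fun h => ht (Fin.ext h)
      have h1 : s ≤ t.val := by
        by_contra hc
        have := hs1 t (not_le.mp hc)
        have := val_le_idx χ t
        omega
      have heq : t.val = s := by
        by_contra hc
        let a : Fin d := ⟨t.val - 1, by omega⟩
        have hae := hs2 a t (by simp only [a]; omega) (by simp only [a]; omega)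
        have hχa : χ.1 a = τ.1 a := by
          by_contra hh
          have := single χ hχ a t hh ht
          have := congrArg Fin.val this
          simp only [a] at this
          omega
        have h2 : (χ.1 a).val < (χ.1 t).val := χ.2 (show a.val < t.val by simp only [a]; omega)
        rw [hχa] at h2
        omega
      refine ⟨heq, ?_⟩
      have hc := hχ.2
      rw [codeg, codeg, ← Finset.add_sum_erase _ _ (Finset.mem_univ t),
        ← Finset.add_sum_erase _ _ (Finset.mem_univ t)] at hc
      have hs : ∑ x ∈ univ.erase t, ((χ.1 x).val - x.val) = ∑ x ∈ univ.erase t, ((τ.1 x).val - x.val) :=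
        Finset.sum_congr rfl fun x hx => by
          by_cases hh : χ.1 x = τ.1 x
          · rw [hh]
          · exact absurd (single χ hχ x t hh ht) (Finset.mem_erase.mp hx).1
      have := val_le_idx χ t
      omega
    have hne : ∀ χ ∈ divisors τ, ∃ t : Fin d, χ.1 t ≠ τ.1 t := fun χ hχ => by
      by_contra hc
      push Not at hc
      exact hχ.1.ne (Subtype.ext (funext hc))
    refine Subtype.ext (funext fun t => ?_)
    obtain ⟨a, ha⟩ := hne φ hφ
    obtain ⟨b, hb⟩ := hne φ' hφ'
    have hab : a = b := Fin.ext ((pos φ hφ a ha).1.trans (pos φ' hφ' b hb).1.symm)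
    subst hab
    by_cases ht : t = a
    · subst ht
      exact Fin.ext (by have := (pos φ hφ t ha).2; have := (pos φ' hφ' t hb).2; omega)
    · rw [show φ.1 t = τ.1 t from by_contra fun h => ht (single φ hφ t a h ha),
        show φ'.1 t = τ.1 t from by_contra fun h => ht (single φ' hφ' t a h hb)]

end Groth.L14.SMT
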