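import Groth.Agent.L14.SMT.CMCriterion
import Groth.Agent.L14.SMT.Props

/-!
Schubert varieties and unions of their divisors are arithmetically Cohen–Macaulay.
-/

open MvPolynomial W4bk4grassmannian Finset

namespace Groth.L14.SMT

universe u

attribute [local instance] MvPolynomial.gradedAlgebra

variable {K : Type u} [Field K] {d n : ℕ}

theorem codeg_mono {a b : Idx d n} (h : a ≤ b) : codeg a ≤ codeg b :=
  Finset.sum_le_sum fun t _ => by
    have := Fin.le_def.mp (h t)
    omega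

theorem eq_of_codeg {a b : Idx d n} (h : a ≤ b) (hc : codeg b ≤ codeg a) : a = b := by
  refine Subtype.ext (_root_.funext fun t => ?_)
  have := (Finset.sum_eq_sum_iff_of_le (s := univ) (f := fun t : Fin d => (a.1 t).val - t.val)
    (g := fun t : Fin d => (b.1 t).val - t.val) (fun t _ => by
      have := Fin.le_def.mp (h t); omega)).mp (le_antisymm (codeg_mono h) hc) t (Finset.mem_univ t)
  have := val_le_idx a t
  have := val_le_idx b t
  exact Fin.ext (by omega)

theorem codeg_sup_add_inf (a b : Idx d n) :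
    codeg (W4bk4grassmannian.sup a b) + codeg (W4bk4grassmannian.inf a b) = codeg a + codeg b := by
  simp only [codeg, ← Finset.sum_add_distrib]
  refine Finset.sum_congr rfl fun t _ => ?_
  have := val_le_idx a t
  have := val_le_idx b t
  show ((max (a.1 t) (b.1 t)).val - t.val) + ((min (a.1 t) (b.1 t)).val - t.val) = _
  rcases le_total (a.1 t) (b.1 t) with h | h
  · rw [max_eq_right h, min_eq_left h, add_comm]
  · rw [max_eq_left h, min_eq_right h]

theorem inf_mem_divisors {τ φ ψ : Idx d n} (hφ : φ ∈ divisors τ) (hψ : ψ ∈ divisors τ) (hne : φ ≠ ψ) :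
    W4bk4grassmannian.inf φ ψ ∈ divisors φ := by
  have hinf : W4bk4grassmannian.inf φ ψ ≤ φ := fun t => min_le_left _ _
  have hφsup : φ ≤ W4bk4grassmannian.sup φ ψ := fun t => le_max_left _ _
  have hsupτ : W4bk4grassmannian.sup φ ψ ≤ τ := fun t => max_le (hφ.1.le t) (hψ.1.le t)
  have hnot : ¬ ψ ≤ φ := fun h => hne (divisor_eq_of_le hψ hφ h).symm
  have h1 : codeg φ < codeg (W4bk4grassmannian.sup φ ψ) := by
    by_contra hc
    refine hnot ?_
    have := eq_of_codeg hφsup (not_lt.mp hc)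
    intro t
    rw [this]
    exact le_max_right _ _
  have h2 := codeg_mono hsupτ
  have h3 := codeg_sup_add_inf φ ψ
  have h4 := hφ.2
  have h5 := hψ.2
  refine ⟨lt_of_le_of_ne hinf fun h => ?_, by omega⟩
  rw [h] at h3
  omega

theorem plIdeal_sup_iInf (hd : 0 < d) (hdn : d ≤ n) (φ : Idx d n) (T : Finset (Idx d n)) :
    plIdeal K φ ⊔ (⨅ ψ ∈ T, plIdeal K ψ) = ⨅ ψ ∈ T.image (W4bk4grassmannian.inf φ), plIdeal K ψ := by
  classical
  refine le_antisymm (le_iInf₂ fun χ hχ => ?_) fun f hf => ?_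
  · obtain ⟨ψ, hψ, rfl⟩ := Finset.mem_image.mp hχ
    rw [← sup_plIdeal]
    exact sup_le_sup_left (iInf₂_le ψ hψ) _
  · simp only [Submodule.mem_iInf] at hf
    obtain ⟨a, ha⟩ := expand_univ (K := K) hdn f
    set L := Finsupp.linearCombination K (fun c : AllC hdn => chainMon K c.2.1)
    set good : AllC (d := d) hdn → Prop := fun c => (∀ k, c.2.1 k ≤ φ) ∧ ∃ ψ ∈ T, ∀ k, c.2.1 k ≤ ψ
    have hbad : ∀ c : AllC (d := d) hdn, ¬ good c →
        chainMon K c.2.1 ∈ plIdeal K φ ⊔ (⨅ ψ ∈ T, plIdeal K ψ) := by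
      intro c hc
      by_cases h1 : ∀ k, c.2.1 k ≤ φ
      · refine Ideal.mem_sup_right ?_
        simp only [Submodule.mem_iInf]
        intro ψ hψ
        refine chainMon_mem_plIdeal _ ?_
        by_contra h2
        push Not at h2
        exact hc ⟨h1, ψ, hψ, h2⟩
      · push Not at h1
        exact Ideal.mem_sup_left (chainMon_mem_plIdeal _ h1)
    have hbad' : L (a.filter fun c => ¬ good c) ∈ plIdeal K φ ⊔ (⨅ ψ ∈ T, plIdeal K ψ) := by
      rw [Finsupp.linearCombination_apply]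
      refine Submodule.sum_mem _ fun c hc => ?_
      rw [Finsupp.support_filter, Finset.mem_filter] at hc
      show (a.filter fun c => ¬ good c) c • chainMon K c.2.1 ∈ _
      rw [MvPolynomial.smul_eq_C_mul]
      exact Ideal.mul_mem_left _ _ (hbad c hc.2)
    have hsplit : L a = L (a.filter good) + L (a.filter fun c => ¬ good c) := by
      rw [← map_add, Finsupp.filter_add_filter_not]
    have hgood : a.filter good = 0 := by
      refine linearCombination_eq_zero hd hdn (↑(T.image (W4bk4grassmannian.inf φ))) _ (fun c hc => ?_)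
        (fun χ hχ => ?_)
      · rw [Finsupp.support_filter, Finset.mem_filter] at hc
        obtain ⟨h1, ψ, hψ, h2⟩ := hc.2
        exact ⟨W4bk4grassmannian.inf φ ψ, Finset.mem_coe.mpr (Finset.mem_image_of_mem _ hψ),
          fun k t => le_min (h1 k t) (h2 k t)⟩
      · have h1 : L a ∈ plIdeal K χ := by
          have := (plIdeal K χ).sub_mem (hf χ hχ) (plIdealTop_le χ ha)
          rwa [sub_sub_cancel] at this
        have h2 : plIdeal K φ ⊔ (⨅ ψ ∈ T, plIdeal K ψ) ≤ plIdeal K χ := by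
          obtain ⟨ψ, hψ, rfl⟩ := Finset.mem_image.mp hχ
          rw [← sup_plIdeal]
          exact sup_le_sup_left (iInf₂_le ψ hψ) _
        have := (plIdeal K χ).sub_mem h1 (h2 hbad')
        rwa [hsplit, add_sub_cancel_right] at this
    have hLa : L a ∈ plIdeal K φ ⊔ (⨅ ψ ∈ T, plIdeal K ψ) := by
      rw [hsplit, hgood, map_zero, zero_add]; exact hbad'
    have := add_mem (Ideal.mem_sup_left (T := ⨅ ψ ∈ T, plIdeal K ψ) (plIdealTop_le φ ha)) hLa
    rwa [sub_add_cancel] at this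

section depth

variable {S : Type u} [CommRing S] [IsNoetherianRing S] {M A B : Ideal S}

/-- Depth of a union from the parts and the intersection. -/
theorem le_idealDepth_inf {e : ℕ} (hA : ((e + 1 : ℕ) : ℕ∞) ≤ LocCoh.idealDepth M (S ⧸ A))
    (hB : ((e + 1 : ℕ) : ℕ∞) ≤ LocCoh.idealDepth M (S ⧸ B)) (hAB : (e : ℕ∞) ≤ LocCoh.idealDepth M (S ⧸ (A ⊔ B))) :
    ((e + 1 : ℕ) : ℕ∞) ≤ LocCoh.idealDepth M (S ⧸ (A ⊓ B)) := by
  have hmid : ((e + 1 : ℕ) : ℕ∞) ≤ LocCoh.idealDepth M ((S ⧸ A) × (S ⧸ B)) :=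
    Groth.L04.le_idealDepth_mid (f := LinearMap.inl S (S ⧸ A) (S ⧸ B)) (g := LinearMap.snd S (S ⧸ A) (S ⧸ B))
      LinearMap.inl_injective LinearMap.snd_surjective Function.Exact.inl_snd hA hB
  let f : S ⧸ (A ⊓ B) →ₗ[S] (S ⧸ A) × (S ⧸ B) :=
    LinearMap.prod (Submodule.factor inf_le_left) (Submodule.factor inf_le_right)
  let g : (S ⧸ A) × (S ⧸ B) →ₗ[S] S ⧸ (A ⊔ B) :=
    (Submodule.factor (le_sup_left : A ≤ A ⊔ B)).coprod (-(Submodule.factor (le_sup_right : B ≤ A ⊔ B)))
  refine Groth.L04.le_idealDepth_left (f := f) (g := g) ?_ ?_ ?_ hmid hAB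
  · rw [injective_iff_map_eq_zero]
    intro x hx
    obtain ⟨z, rfl⟩ := Ideal.Quotient.mk_surjective x
    have hx' : ((Ideal.Quotient.mk A z : S ⧸ A), (Ideal.Quotient.mk B z : S ⧸ B)) = 0 := hx
    rw [Prod.mk_eq_zero, Ideal.Quotient.eq_zero_iff_mem, Ideal.Quotient.eq_zero_iff_mem] at hx'
    exact Ideal.Quotient.eq_zero_iff_mem.mpr hx'
  · intro y
    obtain ⟨z, rfl⟩ := Ideal.Quotient.mk_surjective y
    refine ⟨(Ideal.Quotient.mk A z, 0), ?_⟩
    simp only [g, LinearMap.coprod_apply, map_zero, add_zero]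
    rfl
  · intro x
    obtain ⟨a, b⟩ := x
    obtain ⟨a, rfl⟩ := Ideal.Quotient.mk_surjective a
    obtain ⟨b, rfl⟩ := Ideal.Quotient.mk_surjective b
    have hg : g (Ideal.Quotient.mk A a, Ideal.Quotient.mk B b) = Ideal.Quotient.mk (A ⊔ B) (a - b) := by
      simp only [g, LinearMap.coprod_apply, LinearMap.neg_apply]
      rw [map_sub, sub_eq_add_neg]
      rfl
    rw [hg, Ideal.Quotient.eq_zero_iff_mem]
    constructor
    · intro h
      obtain ⟨u, hu, v, hv, huv⟩ := Submodule.mem_sup.mp h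
      refine ⟨Ideal.Quotient.mk _ (a - u), Prod.ext ?_ ?_⟩
      · show Ideal.Quotient.mk A (a - u) = _
        rw [Ideal.Quotient.eq]; simpa using neg_mem hu
      · show Ideal.Quotient.mk B (a - u) = _
        rw [Ideal.Quotient.eq, show a - u - b = v by linear_combination -huv]
        exact hv
    · rintro ⟨y, hy⟩
      obtain ⟨y, rfl⟩ := Ideal.Quotient.mk_surjective y
      have hy' : ((Ideal.Quotient.mk A y : S ⧸ A), (Ideal.Quotient.mk B y : S ⧸ B)) =
          (Ideal.Quotient.mk A a, Ideal.Quotient.mk B b) := hy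
      rw [Prod.mk.injEq, Ideal.Quotient.eq, Ideal.Quotient.eq] at hy'
      rw [show a - b = (y - b) - (y - a) by ring]
      exact sub_mem (Ideal.mem_sup_right hy'.2) (Ideal.mem_sup_left hy'.1)

omit [IsNoetherianRing S] in
theorem idealDepth_quotient_top : LocCoh.idealDepth M (S ⧸ (⊤ : Ideal S)) = ⊤ :=
  Groth.L04.idealDepth_eq_top (Subsingleton.elim _ _)

end depth

open Groth.L14.CMCrit in
theorem depth_plIdeal [Infinite K] (hd : 0 < d) (hdn : d ≤ n) : ∀ (e : ℕ) (τ : Idx d n), codeg τ = e →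
    ((e + 1 : ℕ) : ℕ∞) ≤ LocCoh.idealDepth (vertex K (Idx d n)) (PlRing K d n ⧸ plIdeal K τ) ∧
    ∀ T : Finset (Idx d n), ↑T ⊆ divisors τ →
      (e : ℕ∞) ≤ LocCoh.idealDepth (vertex K (Idx d n)) (PlRing K d n ⧸ (⨅ ψ ∈ T, plIdeal K ψ)) := by
  classical
  intro e
  induction e with
  | zero =>
    intro τ hτ
    refine ⟨?_, fun T _ => by simp⟩
    have hreg : IsSMulRegular (PlRing K d n ⧸ plIdeal K τ) (X τ : PlRing K d n) := by
      rw [isSMulRegular_quotient_iff]
      intro z hz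
      refine ((isPrime_plIdeal hd hdn τ).mem_or_mem hz).resolve_left ?_
      intro h
      exact top_ne_zero (K := K) hd τ (Ideal.Quotient.eq_zero_iff_mem.mpr h)
    exact (Groth.L04.le_idealDepth_quotSMulTop_iff (I := vertex K (Idx d n)) (Ideal.subset_span ⟨τ, rfl⟩) hreg 0).mp (by simp)
  | succ e ih =>
    intro τ hτ
    have hQ : ∀ T : Finset (Idx d n), ↑T ⊆ divisors τ → ((e + 1 : ℕ) : ℕ∞) ≤
        LocCoh.idealDepth (vertex K (Idx d n)) (PlRing K d n ⧸ (⨅ ψ ∈ T, plIdeal K ψ)) := by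
      intro T
      induction T using Finset.induction_on with
      | empty =>
        intro _
        rw [show (⨅ ψ ∈ (∅ : Finset (Idx d n)), plIdeal K ψ) = ⊤ by simp, idealDepth_quotient_top]
        exact le_top
      | insert φ T hφT ihT =>
        intro hT
        rw [Finset.coe_insert, Set.insert_subset_iff] at hT
        have hφc : codeg φ = e := by have := hT.1.2; omega
        rw [Finset.iInf_insert]
        refine le_idealDepth_inf (ih φ hφc).1 (ihT hT.2) ?_
        rw [plIdeal_sup_iInf hd hdn]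
        refine (ih φ hφc).2 _ fun χ hχ => ?_
        obtain ⟨ψ, hψ, rfl⟩ := Finset.mem_image.mp (Finset.mem_coe.mp hχ)
        exact inf_mem_divisors hT.1 (hT.2 hψ) fun h => hφT (h ▸ hψ)
    refine ⟨?_, hQ⟩
    have hlt : ∃ φ : Idx d n, φ < τ := by
      refine ⟨botIdx hdn, lt_of_le_of_ne (botIdx_le hdn τ) fun h => ?_⟩
      rw [← h] at hτ
      simp [codeg, botIdx] at hτ
    have hreg : IsSMulRegular (PlRing K d n ⧸ plIdeal K τ) (X τ : PlRing K d n) := by
      rw [isSMulRegular_quotient_iff]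
      intro z hz
      refine ((isPrime_plIdeal hd hdn τ).mem_or_mem hz).resolve_left ?_
      intro h
      exact top_ne_zero (K := K) hd τ (Ideal.Quotient.eq_zero_iff_mem.mpr h)
    refine (Groth.L04.le_idealDepth_quotSMulTop_iff (I := vertex K (Idx d n)) (Ideal.subset_span ⟨τ, rfl⟩) hreg (e + 1)).mp ?_
    rw [Groth.L04.idealDepth_congr (quotSMulTopEquiv (plIdeal K τ) (X τ)), sup_span_top hd hdn τ hlt]
    rw [show (⨅ φ ∈ divisors τ, plIdeal K φ) =
        ⨅ φ ∈ (univ : Finset (Idx d n)).filter (fun φ => φ ∈ divisors τ), plIdeal K φ by simp]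
    exact hQ _ (by intro x hx; simpa using hx)

theorem isHomogeneous_plIdeal (τ : Idx d n) :
    (plIdeal K τ).IsHomogeneous (homogeneousSubmodule (Idx d n) K) := by
  refine Ideal.homogeneous_span _ _ ?_
  rintro _ (⟨i, j, r, -, rfl⟩ | ⟨φ, -, rfl⟩)
  · refine ⟨2, IsHomogeneous.sum _ _ _ fun A _ => ?_⟩
    have hc : ∀ a : Fin d → Fin n, (coord K d n a).IsHomogeneous 1 := fun a => by
      rw [coord]
      split_ifs
      · have := (((isHomogeneous_one (σ := Idx d n) (R := K)).neg).pow (invCount d n a)).mul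
          (isHomogeneous_X K (sortIdx d n a ‹_›))
        rwa [zero_mul, zero_add] at this
      · exact isHomogeneous_zero _ _ _
    rw [shuffleTerm]
    split_ifs with hA
    · have := ((((isHomogeneous_one (σ := Idx d n) (R := K)).neg).pow (shuffleSign r A)).mul
        (hc (shuffleI i j r A hA))).mul (hc (shuffleJ i j r A hA))
      rwa [zero_mul, zero_add] at this
    · exact isHomogeneous_zero _ _ _
  · exact ⟨1, isHomogeneous_X K φ⟩

theorem cm_schubert [IsAlgClosed K] (hd : 0 < d) (hdn : d < n) (τ : Idx d n) :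
    LocCoh.IsCohenMacaulayRing (PlRing K d n ⧸ plIdeal K τ) :=
  CMCrit.isCohenMacaulayRing_of_depth (isHomogeneous_plIdeal τ) (codeg τ + 1)
    (depth_plIdeal hd hdn.le _ τ rfl).1 (dim hd hdn τ).le

theorem cm_union [IsAlgClosed K] (hd : 0 < d) (hdn : d < n) (τ : Idx d n) (T : Finset (Idx d n))
    (hT : ↑T ⊆ divisors τ) :
    LocCoh.IsCohenMacaulayRing (PlRing K d n ⧸ (⨅ φ ∈ T, plIdeal K φ)) := by
  refine CMCrit.isCohenMacaulayRing_of_depth (Ideal.IsHomogeneous.iInf₂ fun φ _ => isHomogeneous_plIdeal φ)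
    (codeg τ) ((depth_plIdeal hd hdn.le _ τ rfl).2 T hT) ?_
  rw [ringKrullDim_quotient]
  refine iSup_le fun l => ?_
  have hhead : (T.inf fun φ => plIdeal K φ) ≤ l.head.1.asIdeal := by
    rw [Finset.inf_eq_iInf]; exact l.head.2
  obtain ⟨φ, hφ, hφl⟩ := (Ideal.IsPrime.inf_le' l.head.1.isPrime).mp hhead
  have hd' := dim (K := K) hd hdn φ
  have hle : (l.length : WithBot ℕ∞) ≤ ringKrullDim (SRing K φ) := by
    rw [ringKrullDim_quotient]
    exact le_iSup_of_le ⟨l.length, fun i => ⟨(l i).1, fun x hx =>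
      (l.monotone (Fin.zero_le i) : l.head ≤ l i) (hφl hx)⟩, fun i => l.step i⟩ le_rfl
  rw [hd'] at hle
  refine hle.trans ?_
  have := (hT hφ).2
  exact_mod_cast this.le

end Groth.L14.SMT
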