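import Groth.Agent.L14.SMT.Conseq
import Groth.Agent.L14.QRegRegular
import Mathlib.Algebra.Polynomial.Basic
import Mathlib.Algebra.Polynomial.Coeff
import Mathlib.LinearAlgebra.Matrix.Adjugate
import Mathlib.LinearAlgebra.Matrix.NonsingularInverse

open MvPolynomial W4bk4grassmannian Finset

namespace Groth.L14.SMT

universe u

variable {K : Type u} [CommRing K] {d n : ℕ}

/-- Positions of the free entries of a normalised matrix in the cell of `τ`. -/
abbrev Cell (τ : Idx d n) : Type := {p : Fin n × Fin d // p.1 < τ.1 p.2 ∧ ∀ s, p.1 ≠ τ.1 s}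

/-- Functions on the cell. -/
abbrev CellPoly (K : Type u) [CommRing K] {d n : ℕ} (τ : Idx d n) : Type u := MvPolynomial (Cell τ) K

/-- The normalised generic matrix of the cell. -/
noncomputable def nmat (τ : Idx d n) : Matrix (Fin n) (Fin d) (CellPoly K τ) :=
  Matrix.of fun i t => if i = τ.1 t then 1
    else if h : i < τ.1 t ∧ ∀ s, i ≠ τ.1 s then X ⟨(i, t), h⟩ else 0

theorem nmat_eq_zero (τ : Idx d n) {i : Fin n} {t : Fin d} (h : τ.1 t < i) : nmat (K := K) τ i t = 0 := by
  show (if i = τ.1 t then _ else _) = _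
  rw [if_neg h.ne', dif_neg fun h' => absurd h'.1 h.not_gt]

theorem nmat_row (τ : Idx d n) (s t : Fin d) :
    nmat (K := K) τ (τ.1 s) t = (1 : Matrix (Fin d) (Fin d) (CellPoly K τ)) s t := by
  show (if τ.1 s = τ.1 t then _ else _) = _
  rw [Matrix.one_apply]
  by_cases h : s = t
  · rw [if_pos (by rw [h]), if_pos h]
  · rw [if_neg (fun h' => h (τ.2.injective h')), dif_neg (fun h' => h'.2 s rfl), if_neg h]

theorem nmat_cell (τ : Idx d n) (z : Cell τ) : nmat (K := K) τ z.1.1 z.1.2 = X z := by
  show (if z.1.1 = τ.1 z.1.2 then _ else _) = _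
  rw [if_neg (z.2.2 _), dif_pos z.2]

theorem det_one_updateRow {S : Type*} [CommRing S] (t : Fin d) (v : Fin d → S) :
    ((1 : Matrix (Fin d) (Fin d) S).updateRow t v).det = v t := by
  have h := Matrix.det_updateRow_sum (1 : Matrix (Fin d) (Fin d) S) t v
  have hv : (∑ k, v k • (1 : Matrix (Fin d) (Fin d) S) k) = v := by
    funext c
    simp [Matrix.one_apply]
  rw [hv] at h
  rw [h]; simp

theorem det_update_of_id {S : Type*} [CommRing S] {τ : Idx d n} (B : Matrix (Fin n) (Fin d) S)
    (hB : B.submatrix τ.1 id = 1) (t : Fin d) (i : Fin n) :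
    (B.submatrix (Function.update τ.1 t i) id).det = B i t := by
  have : B.submatrix (Function.update τ.1 t i) id = (1 : Matrix (Fin d) (Fin d) S).updateRow t (B i) := by
    ext s c
    rw [Matrix.updateRow_apply, ← hB]
    simp only [Matrix.submatrix_apply, id_eq, Function.update_apply]
    split_ifs <;> rfl
  rw [this, det_one_updateRow]

/-- Evaluation at the minors of the normalised matrix. -/
noncomputable def cellMinors (τ : Idx d n) : PlRing K d n →ₐ[K] CellPoly K τ :=
  MvPolynomial.aeval fun θ => ((nmat τ).submatrix θ.1 id).det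

/-- The graded chart `θ ↦ q · minor_θ`. -/
noncomputable def chart (τ : Idx d n) : PlRing K d n →ₐ[K] Polynomial (CellPoly K τ) :=
  MvPolynomial.aeval fun θ => Polynomial.X * Polynomial.C ((nmat (K := K) τ).submatrix θ.1 id).det

theorem chart_hom (τ : Idx d n) {m : ℕ} {f : PlRing K d n} (hf : f.IsHomogeneous m) :
    chart τ f = Polynomial.X ^ m * Polynomial.C (cellMinors τ f) := by
  rw [chart, QRR.aeval_mul_hom _ _ hf]
  congr 1
  have h : MvPolynomial.aeval (fun θ : Idx d n => Polynomial.C ((nmat (K := K) τ).submatrix θ.1 id).det) =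
      ((Polynomial.CAlgHom : CellPoly K τ →ₐ[CellPoly K τ] Polynomial (CellPoly K τ)).restrictScalars K).comp
        (cellMinors τ) := by
    refine MvPolynomial.algHom_ext fun θ => ?_
    rw [aeval_X, AlgHom.comp_apply, cellMinors, aeval_X]
    rfl
  exact congrArg (fun g => g f) h

theorem cellMinors_component (τ : Idx d n) {f : PlRing K d n} (h : chart τ f = 0) (m : ℕ) :
    cellMinors τ (homogeneousComponent m f) = 0 := by
  by_cases hm : m < f.totalDegree + 1
  · have h1 := congrArg (fun q => Polynomial.coeff q m) h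
    conv at h1 => enter [1, 1]; rw [← MvPolynomial.sum_homogeneousComponent f]
    simp only [map_sum, chart_hom τ (homogeneousComponent_isHomogeneous _ f), Polynomial.finset_sum_coeff,
      Polynomial.coeff_zero, Polynomial.X_pow_mul_C, Polynomial.coeff_C_mul_X_pow] at h1
    simpa [hm] using h1
  · rw [homogeneousComponent_eq_zero _ _ (by omega), map_zero]

/-- The chart as a substitution into one matrix. -/
noncomputable def chartMat (hd : 0 < d) (τ : Idx d n) : Matrix (Fin n) (Fin d) (Polynomial (CellPoly K τ)) :=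
  Matrix.of fun i t => (if t = ⟨0, hd⟩ then Polynomial.X else 1) * Polynomial.C (nmat τ i t)

theorem det_chartMat (hd : 0 < d) (τ : Idx d n) (a : Fin d → Fin n) :
    ((chartMat (K := K) hd τ).submatrix a id).det =
      Polynomial.X * Polynomial.C ((nmat (K := K) τ).submatrix a id).det := by
  have h := Matrix.det_mul_row (fun t : Fin d => if t = ⟨0, hd⟩ then (Polynomial.X : Polynomial (CellPoly K τ)) else 1)
    (((nmat (K := K) τ).submatrix a id).map Polynomial.C)
  rw [Fintype.prod_ite_eq'] at h
  rw [show (((nmat (K := K) τ).submatrix a id).map Polynomial.C).det =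
    Polynomial.C ((nmat (K := K) τ).submatrix a id).det from (RingHom.map_det _ _).symm] at h
  exact h

theorem chart_X (τ θ : Idx d n) :
    chart (K := K) τ (X θ) = Polynomial.X * Polynomial.C ((nmat (K := K) τ).submatrix θ.1 id).det :=
  aeval_X _ _

theorem chart_coord (hd : 0 < d) (τ : Idx d n) (a : Fin d → Fin n) :
    chart τ (coord K d n a) = Polynomial.X * Polynomial.C ((nmat (K := K) τ).submatrix a id).det := by
  rw [map_coord (chart τ) (chartMat hd τ) (fun θ => by rw [chart_X, det_chartMat]), det_chartMat]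

theorem chart_top (τ : Idx d n) : chart (K := K) τ (X τ) = Polynomial.X := by
  rw [chart_X]
  have : (nmat (K := K) τ).submatrix τ.1 id = 1 := Matrix.ext fun s t => nmat_row (K := K) τ s t
  rw [this, Matrix.det_one, map_one, mul_one]

theorem nmat_minor_eq_zero (τ φ : Idx d n) (h : ¬ φ ≤ τ) :
    ((nmat (K := K) τ).submatrix φ.1 id).det = 0 := by
  obtain ⟨t, ht⟩ : ∃ t, τ.1 t < φ.1 t := by
    by_contra hc; push Not at hc; exact h hc
  refine det_zero_block _ (Ici t) (Iic t) ?_ fun r hr c hc => nmat_eq_zero τ ?_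
  · rw [Fin.card_Iic, Fin.card_Ici]; omega
  · calc τ.1 c ≤ τ.1 t := τ.2.monotone (Finset.mem_Iic.mp hc)
      _ < φ.1 t := ht
      _ ≤ φ.1 r := φ.2.monotone (Finset.mem_Ici.mp hr)

theorem plIdeal_le_ker (hd : 0 < d) (τ : Idx d n) :
    plIdeal K τ ≤ RingHom.ker (chart (K := K) τ).toRingHom := by
  rw [plIdeal, Ideal.span_le]
  rintro _ (⟨i, j, r, -, rfl⟩ | ⟨φ, hφ, rfl⟩)
  · exact map_shuffleRel i j r (chart τ) (chartMat hd τ) (fun θ => by rw [chart_X, det_chartMat])
  · show chart τ (X φ) = 0
    rw [chart_X, nmat_minor_eq_zero τ φ hφ, map_zero, mul_zero]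

theorem sort_not_le (τ : Idx d n) {t : Fin d} {i : Fin n} (hi : τ.1 t < i) (hne : ∀ s, i ≠ τ.1 s)
    (h : (univ.image (Function.update τ.1 t i)).card = d) :
    ¬ sortIdx d n (Function.update τ.1 t i) h ≤ τ := by
  intro hle
  set a := Function.update τ.1 t i
  set φ := sortIdx d n a h
  have hS : insert i ((Ioi t).image τ.1) ⊆ (Ioi t).image φ.1 := by
    have hmem : ∀ x ∈ insert i ((Ioi t).image τ.1), τ.1 t < x ∧ x ∈ univ.image a := by
      intro x hx
      rcases Finset.mem_insert.mp hx with rfl | hx
      · exact ⟨hi, Finset.mem_image.mpr ⟨t, Finset.mem_univ _, by simp [a]⟩⟩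
      · obtain ⟨s, hs, rfl⟩ := Finset.mem_image.mp hx
        rw [Finset.mem_Ioi] at hs
        exact ⟨τ.2 hs, Finset.mem_image.mpr ⟨s, Finset.mem_univ _, by simp [a, hs.ne']⟩⟩
    intro x hx
    obtain ⟨h1, h2⟩ := hmem x hx
    obtain ⟨k, hk⟩ : x ∈ Set.range φ.1 := by
      rw [← Finset.mem_coe, ← Finset.range_orderEmbOfFin _ h] at h2
      exact h2
    subst hk
    refine Finset.mem_image.mpr ⟨k, Finset.mem_Ioi.mpr ?_, rfl⟩
    by_contra hk
    rw [not_lt] at hk
    exact absurd ((hle k).trans (τ.2.monotone hk)) (not_le.mpr h1)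
  have := Finset.card_le_card hS
  rw [Finset.card_insert_of_notMem (by
      intro hmem
      obtain ⟨s, -, hs⟩ := Finset.mem_image.mp hmem
      exact hne s hs.symm), Finset.card_image_of_injective _ τ.2.injective] at this
  have := this.trans Finset.card_image_le
  omega

section field

variable {F : Type u} [Field F] [Infinite F]

theorem ker_chart (hd : 0 < d) (hdn : d ≤ n) (τ : Idx d n) :
    RingHom.ker (chart (K := F) τ).toRingHom = plIdeal F τ := by
  refine le_antisymm (fun f hf => ?_) (plIdeal_le_ker hd τ)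
  have key : ∀ m, homogeneousComponent m f * X τ ∈ schubertVanishing F d n τ := by
    intro m
    have h0 := cellMinors_component τ (f := f) hf m
    rw [schubertVanishing]
    simp only [Submodule.mem_iInf]
    intro A hA
    show evalMinors F d n A _ = 0
    rw [map_mul, show evalMinors F d n A (X τ) = (A.submatrix τ.1 id).det from aeval_X _ _]
    by_cases hg : (A.submatrix τ.1 id).det = 0
    · rw [hg, mul_zero]
    set g := A.submatrix τ.1 id with hgdef
    let B := A * g⁻¹
    have hB : B.submatrix τ.1 id = 1 := by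
      rw [show B.submatrix τ.1 id = g * g⁻¹ from rfl]
      exact Matrix.mul_nonsing_inv g (isUnit_iff_ne_zero.mpr hg)
    have hmin : ∀ a : Fin d → Fin n, (B.submatrix a id).det = g.det⁻¹ * (A.submatrix a id).det := by
      intro a
      rw [show B.submatrix a id = A.submatrix a id * g⁻¹ from rfl, Matrix.det_mul, Matrix.det_nonsing_inv,
        Ring.inverse_eq_inv', mul_comm]
    have hBzero : ∀ i t, τ.1 t < i → B i t = 0 := by
      intro i t hit
      by_cases hne : ∀ s, i ≠ τ.1 s
      · rw [← det_update_of_id B hB t i, hmin]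
        have hinj : Function.Injective (Function.update τ.1 t i) := by
          intro p q hpq
          rw [Function.update_apply, Function.update_apply] at hpq
          split_ifs at hpq with hp hq hq
          · rw [hp, hq]
          · exact absurd hpq (hne q)
          · exact absurd hpq.symm (hne p)
          · exact τ.2.injective hpq
        have hcard := (card_image_iff _).mpr hinj
        obtain ⟨σ, hσ⟩ := exists_perm _ hcard
        rw [hσ, ← Function.comp_id id, ← Matrix.submatrix_submatrix, Matrix.det_permute,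
          hA _ (sort_not_le τ hit hne hcard), mul_zero, mul_zero]
      · push Not at hne
        obtain ⟨s, rfl⟩ := hne
        rw [show B (τ.1 s) t = (B.submatrix τ.1 id) s t from rfl, hB, Matrix.one_apply_ne]
        rintro rfl
        exact absurd hit (lt_irrefl _)
    let z : Cell τ → F := fun p => B p.1.1 p.1.2
    have hBeq : (nmat (K := F) τ).map (MvPolynomial.eval z) = B := by
      ext i t
      show MvPolynomial.eval z (nmat τ i t) = B i t
      by_cases hc : ∃ s, i = τ.1 s
      · obtain ⟨s, rfl⟩ := hc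
        rw [nmat_row, show B (τ.1 s) t = (B.submatrix τ.1 id) s t from rfl, hB, Matrix.one_apply,
          Matrix.one_apply]
        split_ifs <;> simp
      · push Not at hc
        rcases lt_or_ge (τ.1 t) i with h | h
        · rw [nmat_eq_zero τ h, map_zero, hBzero i t h]
        · rw [show nmat (K := F) τ i t = X ⟨(i, t), lt_of_le_of_ne h (hc t), hc⟩ from
            nmat_cell τ ⟨(i, t), lt_of_le_of_ne h (hc t), hc⟩, eval_X]
    have hev : MvPolynomial.aeval (fun θ : Idx d n => (B.submatrix θ.1 id).det) =
        ((MvPolynomial.aeval z).restrictScalars F).comp (cellMinors (K := F) τ) := by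
      refine MvPolynomial.algHom_ext fun θ => ?_
      rw [aeval_X, AlgHom.comp_apply, cellMinors, aeval_X, ← hBeq]
      show _ = MvPolynomial.eval z _
      rw [RingHom.map_det]
      rfl
    have hA' : (fun θ : Idx d n => (A.submatrix θ.1 id).det) =
        fun θ : Idx d n => g.det * (B.submatrix θ.1 id).det := funext fun θ => by
      rw [hmin, ← mul_assoc, mul_inv_cancel₀ hg, one_mul]
    rw [evalMinors, hA', QRR.aeval_mul_hom _ _ (homogeneousComponent_isHomogeneous m f), hev, AlgHom.comp_apply,
      h0, map_zero, mul_zero, zero_mul]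
  rw [← MvPolynomial.sum_homogeneousComponent f]
  refine Submodule.sum_mem _ fun m _ => ?_
  have h1 := key m
  rw [schubertVanishing_eq hd hdn τ] at h1
  refine ((isPrime_plIdeal hd hdn τ).mem_or_mem h1).resolve_right fun h2 => ?_
  rw [← ker_proj_bot hd hdn τ, RingHom.mem_ker] at h2
  exact minor_top_ne_zero (botIdx hdn) τ (botIdx_le hdn τ) ((proj_X _ _ _).symm.trans h2)

theorem exists_pow_mul (hd : 0 < d) (τ : Idx d n) (y : Polynomial (CellPoly K τ)) :
    ∃ k : ℕ, ∃ f : PlRing K d n, chart τ f = Polynomial.X ^ k * y := by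
  have hadd : ∀ y z, (∃ k : ℕ, ∃ f : PlRing K d n, chart τ f = Polynomial.X ^ k * y) →
      (∃ k : ℕ, ∃ f : PlRing K d n, chart τ f = Polynomial.X ^ k * z) →
      ∃ k : ℕ, ∃ f : PlRing K d n, chart τ f = Polynomial.X ^ k * (y + z) := by
    rintro y z ⟨k, f, hf⟩ ⟨l, g, hg⟩
    refine ⟨k + l, X τ ^ l * f + X τ ^ k * g, ?_⟩
    rw [map_add, map_mul, map_mul, map_pow, map_pow, chart_top, hf, hg]
    ring
  have hC : ∀ c : CellPoly K τ, ∃ k : ℕ, ∃ f : PlRing K d n, chart τ f = Polynomial.X ^ k * Polynomial.C c := by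
    intro c
    induction c using MvPolynomial.induction_on with
    | C a => exact ⟨0, C a, by rw [algHom_C]; simp [Polynomial.algebraMap_apply, MvPolynomial.algebraMap_eq]⟩
    | add p q hp hq => rw [map_add]; exact hadd _ _ hp hq
    | mul_X p z hp =>
      obtain ⟨k, f, hf⟩ := hp
      refine ⟨k + 1, f * coord K d n (Function.update τ.1 z.1.2 z.1.1), ?_⟩
      rw [map_mul, hf, chart_coord hd, det_update_of_id (nmat (K := K) τ) (Matrix.ext fun s t =>
        nmat_row (K := K) τ s t), nmat_cell, map_mul]
      ring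
  induction y using Polynomial.induction_on' with
  | add p q hp hq => exact hadd p q hp hq
  | monomial e c =>
    obtain ⟨k, f, hf⟩ := hC c
    exact ⟨k, f * X τ ^ e, by rw [map_mul, hf, map_pow, chart_top, ← Polynomial.C_mul_X_pow_eq_monomial]; ring⟩

end field

theorem card_cell (τ : Idx d n) : Fintype.card (Cell τ) = codeg τ := by
  classical
  have h : ∀ t : Fin d, ((univ : Finset (Fin n)).filter fun i => i < τ.1 t ∧ ∀ s, i ≠ τ.1 s).card =
      (τ.1 t).val - t.val := by
    intro t
    have he : ((univ : Finset (Fin n)).filter fun i => i < τ.1 t ∧ ∀ s, i ≠ τ.1 s) =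
        Iio (τ.1 t) \ (Iio t).image τ.1 := by
      ext i
      simp only [mem_filter, mem_univ, true_and, mem_sdiff, mem_Iio, mem_image, not_exists, not_and]
      refine and_congr_right fun hi => ⟨fun h s _ hs => h s hs.symm, fun h s hs => ?_⟩
      exact h s (τ.2.lt_iff_lt.mp (hs ▸ hi)) hs.symm
    rw [he, Finset.card_sdiff_of_subset, Fin.card_Iio, Finset.card_image_of_injective _ τ.2.injective, Fin.card_Iio]
    intro x hx
    obtain ⟨s, hs, rfl⟩ := Finset.mem_image.mp hx
    exact Finset.mem_Iio.mpr (τ.2 (Finset.mem_Iio.mp hs))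
  rw [codeg, ← Finset.sum_congr rfl fun t _ => h t, Fintype.card_subtype]
  simp only [Finset.card_filter]
  rw [Fintype.sum_prod_type_right]

end Groth.L14.SMT
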