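import Groth.Agent.L14.SMT.Fam
import Groth.Prelude.Def_CAlgX
import Mathlib.LinearAlgebra.Matrix.Block

/-!
The dictionary between Plücker indices and minors of the big cell.
-/

open MvPolynomial W4bk4grassmannian Finset

namespace Groth.L14.SMT

universe u

section order

variable {D : ℕ}

theorem lt_iff_lt_count {a : ℕ} (f : Fin a → Fin D) (hf : StrictMono f) (i : Fin a) (x : ℕ) :
    (f i).val < x ↔ i.val < (univ.filter fun j => (f j).val < x).card := by
  constructor
  · intro h
    have : Iic i ⊆ univ.filter fun j => (f j).val < x := fun j hj =>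
      mem_filter.mpr ⟨mem_univ _, lt_of_le_of_lt (Fin.le_def.mp (hf.monotone (mem_Iic.mp hj))) h⟩
    have := Finset.card_le_card this
    rw [Fin.card_Iic] at this
    omega
  · intro h
    by_contra hc
    have : (univ.filter fun j => (f j).val < x) ⊆ Iio i := fun j hj => mem_Iio.mpr (by
      by_contra hji
      exact hc (lt_of_le_of_lt (Fin.le_def.mp (hf.monotone (not_lt.mp hji))) (mem_filter.mp hj).2))
    have := Finset.card_le_card this
    rw [Fin.card_Iio] at this
    omega

theorem count_compl {a b : ℕ} (f : Fin a → Fin D) (g : Fin b → Fin D) (hf : Function.Injective f)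
    (hg : Function.Injective g) (hne : ∀ i j, f i ≠ g j) (hab : a + b = D) (x : ℕ) :
    (univ.filter fun j => (f j).val < x).card + (univ.filter fun j => (g j).val < x).card =
      (univ.filter fun j : Fin D => j.val < x).card := by
  classical
  rw [← Finset.card_image_of_injective _ hf, ← Finset.card_image_of_injective _ hg, ← Finset.card_union_of_disjoint]
  · congr 1
    have hU : univ.image f ∪ univ.image g = (univ : Finset (Fin D)) := by
      refine Finset.eq_univ_of_card _ ?_
      rw [Finset.card_union_of_disjoint, Finset.card_image_of_injective _ hf, Finset.card_image_of_injective _ hg,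
        Finset.card_fin, Finset.card_fin, Fintype.card_fin, hab]
      simp only [Finset.disjoint_left, mem_image, mem_univ, true_and]
      rintro _ ⟨i, rfl⟩ ⟨j, hj⟩
      exact hne i j hj.symm
    ext y
    simp only [mem_union, mem_image, mem_filter, mem_univ, true_and]
    constructor
    · rintro (⟨i, hi, rfl⟩ | ⟨i, hi, rfl⟩) <;> exact hi
    · intro hy
      have := Finset.mem_univ y
      rw [← hU, mem_union] at this
      simp only [mem_image, mem_univ, true_and] at this
      rcases this with ⟨i, rfl⟩ | ⟨i, rfl⟩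
      · exact Or.inl ⟨i, hy, rfl⟩
      · exact Or.inr ⟨i, hy, rfl⟩
  · simp only [Finset.disjoint_left, mem_image, mem_filter, mem_univ, true_and]
    rintro _ ⟨i, -, rfl⟩ ⟨j, -, hj⟩
    exact hne i j hj.symm

theorem compl_le {a b a' b' : ℕ} (B : Fin a → Fin D) (C : Fin b → Fin D) (B' : Fin a' → Fin D) (C' : Fin b' → Fin D)
    (hB : StrictMono B) (hC : StrictMono C) (hB' : StrictMono B') (hC' : StrictMono C')
    (h : ∀ i j, B i ≠ C j) (h' : ∀ i j, B' i ≠ C' j) (hab : a + b = D) (hab' : a' + b' = D) (hs : a ≤ a')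
    (hle : ∀ (i : Fin a) (i' : Fin a'), i.val = i'.val → B' i' ≤ B i)
    (j : Fin b) (j' : Fin b') (hj : j.val = j'.val) : C j ≤ C' j' := by
  have h1 : (univ.filter fun i => (B i).val < (C' j').val + 1).card ≤
      (univ.filter fun i => (B' i).val < (C' j').val + 1).card := by
    rcases Nat.eq_zero_or_pos (univ.filter fun i => (B i).val < (C' j').val + 1).card with h0 | hpos
    · omega
    have hlt : (univ.filter fun i => (B i).val < (C' j').val + 1).card - 1 < a := by
      have := Finset.card_filter_le (univ : Finset (Fin a)) fun i => (B i).val < (C' j').val + 1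
      rw [Finset.card_fin] at this
      omega
    have e1 := (lt_iff_lt_count B hB ⟨_, hlt⟩ ((C' j').val + 1)).mpr (by show _ - 1 < _; omega)
    have e2 := (lt_iff_lt_count B' hB' ⟨_, lt_of_lt_of_le hlt hs⟩ ((C' j').val + 1)).mp
      (lt_of_le_of_lt (Fin.le_def.mp (hle ⟨_, hlt⟩ ⟨_, lt_of_lt_of_le hlt hs⟩ rfl)) e1)
    simp only at e2
    omega
  have e1 := count_compl B C hB.injective hC.injective h hab ((C' j').val + 1)
  have e2 := count_compl B' C' hB'.injective hC'.injective h' hab' ((C' j').val + 1)
  have e3 := (lt_iff_lt_count C' hC' j' ((C' j').val + 1)).mp (Nat.lt_succ_self _)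
  have e4 := (lt_iff_lt_count C hC j ((C' j').val + 1)).mpr (by omega)
  exact Fin.le_def.mpr (by omega)

end order

variable {d r : ℕ}

/-- Row count of a minor index is bounded. -/
theorem minor_size (M : MinorIdx r d) : M.1 + 1 ≤ r ∧ M.1 + 1 ≤ d := by
  constructor
  · simpa using Fintype.card_le_of_injective _ M.2.1.2.injective
  · simpa using Fintype.card_le_of_injective _ M.2.2.2.injective

theorem compl_card (M : MinorIdx r d) : (univ.image M.2.2.1)ᶜ.card = d - (M.1 + 1) := by
  rw [Finset.card_compl, Finset.card_image_of_injective _ M.2.2.2.injective, Finset.card_fin, Fintype.card_fin]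

/-- The complementary column tuple. -/
def complCols (M : MinorIdx r d) : Fin (d - (M.1 + 1)) → Fin d :=
  Finset.orderEmbOfFin _ (compl_card M)

theorem complCols_strictMono (M : MinorIdx r d) : StrictMono (complCols M) :=
  (Finset.orderEmbOfFin _ _).strictMono

theorem complCols_ne (M : MinorIdx r d) (i : Fin (M.1 + 1)) (j : Fin (d - (M.1 + 1))) :
    M.2.2.1 i ≠ complCols M j := by
  intro h
  have := Finset.orderEmbOfFin_mem _ (compl_card M) j
  rw [Finset.mem_compl, Finset.mem_image] at this
  exact this ⟨i, Finset.mem_univ _, h⟩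

/-- The Plücker index of a minor. -/
def minorToIdx (M : MinorIdx r d) : Idx d (d + r) :=
  ⟨fun i => if h : i.val < d - (M.1 + 1) then ⟨(complCols M ⟨i.val, h⟩).val, by omega⟩
      else ⟨d + (r - 1 - (M.2.1.1 ⟨d - 1 - i.val, by omega⟩).val), by omega⟩,
    fun i j hij => by
      have hij' : i.val < j.val := hij
      dsimp only
      split_ifs with hi hj hj
      · exact complCols_strictMono M (show (⟨i.val, hi⟩ : Fin _) < ⟨j.val, hj⟩ from hij')
      · show (complCols M _).val < _
        have := (complCols M ⟨i.val, hi⟩).isLt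
        simp only
        omega
      · omega
      · show d + _ < d + _
        have h1 := M.2.1.2 (show (⟨d - 1 - j.val, by omega⟩ : Fin (M.1 + 1)) < ⟨d - 1 - i.val, by omega⟩ by
          show d - 1 - j.val < d - 1 - i.val
          omega)
        have h2 := (M.2.1.1 ⟨d - 1 - i.val, by omega⟩).isLt
        rw [Fin.lt_def] at h1
        omega⟩

theorem minorToIdx_low (M : MinorIdx r d) (i : Fin d) (h : i.val < d - (M.1 + 1)) :
    ((minorToIdx M).1 i).val = (complCols M ⟨i.val, h⟩).val := by
  simp only [minorToIdx]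
  rw [dif_pos h]

theorem minorToIdx_high (M : MinorIdx r d) (i : Fin d) (h : ¬ i.val < d - (M.1 + 1)) :
    ((minorToIdx M).1 i).val = d + (r - 1 - (M.2.1.1 ⟨d - 1 - i.val, by omega⟩).val) := by
  simp only [minorToIdx]
  rw [dif_neg h]

theorem minorGE_iff (M M' : MinorIdx r d) : MinorGE M M' ↔ minorToIdx M ≤ minorToIdx M' := by
  have hM := minor_size M
  have hM' := minor_size M'
  constructor
  · rintro ⟨hs, hle⟩ i
    rw [Fin.le_def]
    by_cases h' : i.val < d - (M'.1 + 1)
    · have h : i.val < d - (M.1 + 1) := by omega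
      rw [minorToIdx_low M i h, minorToIdx_low M' i h']
      exact Fin.le_def.mp (compl_le M.2.2.1 (complCols M) M'.2.2.1 (complCols M') M.2.2.2 (complCols_strictMono M)
        M'.2.2.2 (complCols_strictMono M') (complCols_ne M) (complCols_ne M') (by omega) (by omega) (by omega)
        (fun a a' ha => (hle a a' ha).2) _ _ rfl)
    by_cases h : i.val < d - (M.1 + 1)
    · rw [minorToIdx_low M i h, minorToIdx_high M' i h']
      have := (complCols M ⟨i.val, h⟩).isLt
      omega
    · rw [minorToIdx_high M i h, minorToIdx_high M' i h']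
      have := Fin.le_def.mp (hle ⟨d - 1 - i.val, by omega⟩ ⟨d - 1 - i.val, by omega⟩ rfl).1
      omega
  · intro hle
    have hs : M.1 ≤ M'.1 := by
      by_contra hc
      have := Fin.le_def.mp (hle ⟨d - (M.1 + 1), by omega⟩)
      rw [minorToIdx_high M _ (lt_irrefl _), minorToIdx_low M' _ (by show d - (M.1 + 1) < _; omega)] at this
      have h2 := (complCols M' ⟨d - (M.1 + 1), by omega⟩).isLt
      simp only at this
      omega
    refine ⟨hs, fun j j' hj => ⟨?_, ?_⟩⟩
    · have := Fin.le_def.mp (hle ⟨d - 1 - j.val, by omega⟩)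
      rw [minorToIdx_high M _ (by show ¬ d - 1 - j.val < _; omega),
        minorToIdx_high M' _ (by show ¬ d - 1 - j.val < _; omega)] at this
      have e1 : (⟨d - 1 - (d - 1 - j.val), by omega⟩ : Fin (M.1 + 1)) = j := Fin.ext (by simp only; omega)
      have e2 : (⟨d - 1 - (d - 1 - j.val), by omega⟩ : Fin (M'.1 + 1)) = j' := Fin.ext (by simp only; omega)
      simp only [e1, e2] at this
      have h1 := (M.2.1.1 j).isLt
      have h2 := (M'.2.1.1 j').isLt
      rw [Fin.le_def]
      omega
    · refine compl_le (complCols M') M'.2.2.1 (complCols M) M.2.2.1 (complCols_strictMono M') M'.2.2.2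
        (complCols_strictMono M) M.2.2.2 (fun a b => (complCols_ne M' b a).symm)
        (fun a b => (complCols_ne M b a).symm) (by omega) (by omega) (by omega) (fun a a' ha => ?_) j' j hj.symm
      have := Fin.le_def.mp (hle ⟨a.val, by omega⟩)
      rw [minorToIdx_low M _ (by show a.val < _; omega), minorToIdx_low M' _ (by show a.val < _; omega)] at this
      rw [Fin.le_def]
      convert this using 3
      exact Fin.ext ha.symm

theorem minorToIdx_injective : Function.Injective (minorToIdx (r := r) (d := d)) := by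
  intro M M' h
  have h1 := (minorGE_iff M M').mpr h.le
  have h2 := (minorGE_iff M' M).mpr h.ge
  obtain ⟨s, A, B⟩ := M
  obtain ⟨s', A', B'⟩ := M'
  obtain rfl : s = s' := le_antisymm h1.1 h2.1
  have hA : A = A' := Subtype.ext (funext fun j => le_antisymm (h2.2 j j rfl).1 (h1.2 j j rfl).1)
  have hB : B = B' := Subtype.ext (funext fun j => le_antisymm (h2.2 j j rfl).2 (h1.2 j j rfl).2)
  subst hA hB
  rfl

theorem minorToIdx_ne_bot (M : MinorIdx r d) : minorToIdx M ≠ botIdx (Nat.le_add_right d r) := by
  intro h
  have hM := minor_size M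
  have := congrArg (fun θ : Idx d (d + r) => (θ.1 ⟨d - 1, by omega⟩).val) h
  rw [minorToIdx_high M _ (by show ¬ d - 1 < _; omega)] at this
  change _ = d - 1 at this
  omega

theorem exists_minor_of_ne_bot (θ : Idx d (d + r)) (h : θ ≠ botIdx (Nat.le_add_right d r)) :
    ∃ M : MinorIdx r d, minorToIdx M = θ := by
  classical
  let k := (univ.filter fun i : Fin d => (θ.1 i).val < d).card
  have hk : ∀ i : Fin d, (θ.1 i).val < d ↔ i.val < k := fun i => lt_iff_lt_count θ.1 θ.2 i d
  have hkd : k < d := by
    by_contra hc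
    refine h (Subtype.ext (funext fun i => Fin.ext ?_))
    show (θ.1 i).val = i.val
    have h1 := val_le_idx θ i
    let g : Fin d → Fin d := fun j => ⟨(θ.1 j).val, (hk j).mpr (by omega)⟩
    have hg : StrictMono g := fun a b hab => θ.2 hab
    have h2 := idx_le_val le_rfl (⟨g, hg⟩ : Idx d d) i
    have h3 : (g i).val = (θ.1 i).val := rfl
    simp only at h2
    omega
  let S : Finset (Fin d) := (univ : Finset (Fin k)).image fun j => ⟨(θ.1 ⟨j.val, by omega⟩).val, (hk _).mpr j.isLt⟩
  have hS : Sᶜ.card = d - k := by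
    rw [Finset.card_compl, Fintype.card_fin, Finset.card_image_of_injective, Finset.card_fin]
    intro a b hab
    simp only [Fin.ext_iff] at hab
    have := θ.2.injective (Fin.ext hab)
    simp only [Fin.ext_iff] at this
    exact Fin.ext this
  let s := d - k - 1
  have hs : s + 1 = d - k := by omega
  let A : Idx (s + 1) r := ⟨fun j => ⟨r - 1 - ((θ.1 ⟨d - 1 - j.val, by omega⟩).val - d), by
      have h1 := (θ.1 ⟨d - 1 - j.val, by omega⟩).isLt
      have h2 : ¬ (θ.1 ⟨d - 1 - j.val, by omega⟩).val < d := fun hh => by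
        have := (hk _).mp hh
        simp only at this
        omega
      omega⟩, fun a b hab => by
    have hab' : a.val < b.val := hab
    show r - 1 - _ < r - 1 - _
    have h1 := θ.2 (show (⟨d - 1 - b.val, by omega⟩ : Fin d) < ⟨d - 1 - a.val, by omega⟩ by
      show d - 1 - b.val < d - 1 - a.val
      omega)
    have h2 := (θ.1 ⟨d - 1 - a.val, by omega⟩).isLt
    have h3 : ¬ (θ.1 ⟨d - 1 - b.val, by omega⟩).val < d := fun hh => by
      have := (hk _).mp hh
      simp only at this
      omega
    rw [Fin.lt_def] at h1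
    omega⟩
  let B : Idx (s + 1) d := ⟨fun j => Finset.orderEmbOfFin _ hS (Fin.cast hs j),
    fun a b hab => (Finset.orderEmbOfFin _ hS).strictMono hab⟩
  let M : MinorIdx r d := ⟨s, A, B⟩
  refine ⟨M, Subtype.ext (funext fun i => Fin.ext ?_)⟩
  by_cases hi : i.val < d - (M.1 + 1)
  · rw [minorToIdx_low M i hi]
    have hi' : i.val < k := by simp only [M] at hi; omega
    let g : Fin (d - (M.1 + 1)) → Fin d := fun j =>
      ⟨(θ.1 ⟨j.val, by omega⟩).val, (hk _).mpr (by have := j.isLt; simp only [M] at this; simp only; omega)⟩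
    have hg : StrictMono g := fun a b hab => θ.2 (show (⟨a.val, _⟩ : Fin d) < ⟨b.val, _⟩ from hab)
    have : g = complCols M := by
      refine Finset.orderEmbOfFin_unique (compl_card M) (fun j => ?_) hg
      rw [Finset.mem_compl, Finset.mem_image]
      rintro ⟨t, -, ht⟩
      have h1 := Finset.orderEmbOfFin_mem _ hS (Fin.cast hs t)
      rw [show Sᶜ.orderEmbOfFin hS (Fin.cast hs t) = g j from ht, Finset.mem_compl, Finset.mem_image] at h1
      exact h1 ⟨⟨j.val, by have := j.isLt; simp only [M] at this; omega⟩, Finset.mem_univ _, rfl⟩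
    rw [← this]
  · rw [minorToIdx_high M i hi]
    have hi' : ¬ i.val < k := by simp only [M] at hi; omega
    show d + (r - 1 - (r - 1 - ((θ.1 ⟨d - 1 - (d - 1 - i.val), _⟩).val - d))) = _
    have he : (⟨d - 1 - (d - 1 - i.val), by omega⟩ : Fin d) = i := Fin.ext (by simp only; omega)
    rw [he]
    have h1 := (θ.1 i).isLt
    have h2 : ¬ (θ.1 i).val < d := fun hh => hi' ((hk i).mp hh)
    omega

/-- The largest index whose minors have size at most `s`. -/
def rankIdx {s : ℕ} (_hsd : s ≤ d) (hsr : s ≤ r) : Idx d (d + r) :=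
  ⟨fun i => ⟨if i.val < d - s then i.val + s else r + i.val, by split_ifs <;> omega⟩, fun i j hij => by
    have hij' : i.val < j.val := hij
    show (if i.val < d - s then i.val + s else r + i.val) < (if j.val < d - s then j.val + s else r + j.val)
    split_ifs <;> omega⟩

theorem le_rankIdx_iff {s : ℕ} (hsd : s ≤ d) (hsr : s ≤ r) (θ : Idx d (d + r)) :
    θ ≤ rankIdx hsd hsr ↔ ∀ i : Fin d, i.val < d - s → (θ.1 i).val < d := by
  constructor
  · intro h i hi
    have := Fin.le_def.mp (h i)
    simp only [rankIdx, if_pos hi] at this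
    omega
  · intro h i
    rw [Fin.le_def]
    simp only [rankIdx]
    split_ifs with hi
    · let g : Fin (d - s) → Fin d := fun j => ⟨(θ.1 ⟨j.val, by omega⟩).val, h _ j.isLt⟩
      have hg : StrictMono g := fun a b hab => θ.2 (show (⟨a.val, _⟩ : Fin d) < ⟨b.val, _⟩ from hab)
      have h2 := idx_le_val (Nat.sub_le d s) (⟨g, hg⟩ : Idx (d - s) d) ⟨i.val, hi⟩
      have h3 : (g ⟨i.val, hi⟩).val = (θ.1 i).val := rfl
      simp only at h2
      omega
    · have := idx_le_val (Nat.le_add_right d r) θ i
      omega

theorem minorToIdx_le_rankIdx_iff {s : ℕ} (hsd : s ≤ d) (hsr : s ≤ r) (M : MinorIdx r d) :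
    minorToIdx M ≤ rankIdx hsd hsr ↔ M.1 + 1 ≤ s := by
  have hM := minor_size M
  rw [le_rankIdx_iff]
  constructor
  · intro h
    by_contra hc
    have := h ⟨d - (M.1 + 1), by omega⟩ (by show d - (M.1 + 1) < d - s; omega)
    rw [minorToIdx_high M _ (lt_irrefl _)] at this
    omega
  · intro h i hi
    rw [minorToIdx_low M i (by omega)]
    exact Fin.isLt _

end Groth.L14.SMT
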