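import Groth.Agent.L14.SMT.BigCell

open MvPolynomial W4bk4grassmannian Finset

namespace Groth.L14.SMT

universe u

variable (K : Type u) [CommRing K] (d r : ℕ)

/-- Reversal of the rows of the cell. -/
noncomputable def revCell : CellRing K d r →ₐ[K] CellRing K d r :=
  rename fun p => (Fin.rev p.1, p.2)

theorem cellMinor_eq_revCell (θ : Idx d (d + r)) : cellMinor K d r θ = revCell K d r (bigMap (X θ)) := by
  rw [bigMap_X, cellMinor, AlgHom.map_det]
  congr 1
  refine Matrix.ext fun i j => ?_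
  simp only [AlgHom.mapMatrix_apply, Matrix.map_apply, Matrix.submatrix_apply, id_eq, cellMatrix, bigMat,
    Matrix.of_apply]
  split_ifs with h h2
  · simp
  · simp
  · rw [revCell, rename_X]
    congr 2
    refine Fin.ext ?_
    simp only [Fin.val_rev]
    have := (θ.1 i).isLt
    omega

theorem revCell_minor {k : ℕ} (f : Fin k → Fin r) (g : Fin k → Fin d) :
    revCell K d r ((genMatrix K r d).submatrix f g).det =
      ((genMatrix K r d).submatrix (Fin.rev ∘ f) g).det := by
  rw [AlgHom.map_det]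
  congr 1
  refine Matrix.ext fun i j => ?_
  simp [revCell, genMatrix]

theorem map_minorIdeal_revCell (t : ℕ) :
    (CAlgX.minorIdeal (genMatrix K r d) t).map (revCell K d r) = CAlgX.minorIdeal (genMatrix K r d) t := by
  rw [CAlgX.minorIdeal, Ideal.map_span]
  congr 1
  ext x
  constructor
  · rintro ⟨_, ⟨⟨f, g⟩, rfl⟩, rfl⟩
    exact ⟨(Fin.rev ∘ f, g), (revCell_minor K d r f g).symm⟩
  · rintro ⟨⟨f, g⟩, rfl⟩
    refine ⟨_, ⟨(Fin.rev ∘ f, g), rfl⟩, ?_⟩
    rw [revCell_minor]
    congr 2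
    funext i
    simp

theorem span_cellMinor (t : ℕ) (hd : 0 < d) (ht : 0 < t) (htd : t ≤ d) :
    Ideal.span {f : CellRing K d r | ∃ θ : Idx d (d + r),
        d ≤ (θ.1 ⟨d - t, Nat.sub_lt hd ht⟩).val ∧ f = cellMinor K d r θ} =
      CAlgX.minorIdeal (genMatrix K r d) t := by
  conv_rhs => rw [← map_minorIdeal_revCell K d r t, minorIdeal_eq_span t ht, Ideal.map_span]
  congr 1
  ext x
  constructor
  · rintro ⟨θ, hθ, rfl⟩
    have hne : θ ≠ botIdx (Nat.le_add_right d r) := by
      intro h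
      subst h
      change d ≤ d - t at hθ
      omega
    obtain ⟨M, rfl⟩ := exists_minor_of_ne_bot θ hne
    exact ⟨_, ⟨M, (minorToIdx_high_iff ht htd M).mp hθ, rfl⟩, (cellMinor_eq_revCell K d r _).symm⟩
  · rintro ⟨_, ⟨M, hM, rfl⟩, rfl⟩
    exact ⟨minorToIdx M, (minorToIdx_high_iff ht htd M).mpr hM, (cellMinor_eq_revCell K d r _).symm⟩

end Groth.L14.SMT
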