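import Groth.Agent.L14.SMT.Interval
import Mathlib.RingTheory.Ideal.Operations
import Mathlib.RingTheory.Ideal.Quotient.Operations

open MvPolynomial W4bk4grassmannian Finset

namespace Groth.L14.SMT

universe u

variable {K : Type u} [CommRing K] {d n : ℕ}

theorem idx_le_val (hdn : d ≤ n) (θ : Idx d n) (t : Fin d) : (θ.1 t).val + (d - t.val) ≤ n := by
  have h := Finset.card_le_card (show (Ici t).map ⟨θ.1, θ.2.injective⟩ ⊆ Ici (θ.1 t) from fun x hx => by
    obtain ⟨y, hy, rfl⟩ := Finset.mem_map.mp hx
    exact Finset.mem_Ici.mpr (θ.2.monotone (Finset.mem_Ici.mp hy)))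
  rw [Finset.card_map, Fin.card_Ici, Fin.card_Ici] at h
  have := (θ.1 t).isLt
  omega

/-- The largest index. -/
def topIdx (hdn : d ≤ n) : Idx d n :=
  ⟨fun t => ⟨n - d + t.val, by have := t.isLt; omega⟩, fun a b h => by
    simp only [Fin.lt_def] at h ⊢; omega⟩

theorem le_topIdx (hdn : d ≤ n) (θ : Idx d n) : θ ≤ topIdx hdn := fun t => by
  have := idx_le_val hdn θ t
  have := t.isLt
  show (θ.1 t).val ≤ n - d + t.val
  omega

theorem outIdeal_univ (hdn : d ≤ n) : outIdeal (K := K) (botIdx hdn) (topIdx hdn) = plIdealTop K := by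
  rw [outIdeal_bot, plIdeal, plIdealTop]
  congr 1
  ext f
  simp [le_topIdx hdn]

theorem plIdealTop_le (w : Idx d n) : plIdealTop K ≤ plIdeal K w :=
  Ideal.span_mono Set.subset_union_left

theorem plIdeal_mono {w w' : Idx d n} (h : w' ≤ w) : plIdeal K w ≤ plIdeal K w' :=
  Ideal.span_mono (Set.union_subset_union_right _ (by
    rintro _ ⟨φ, hφ, rfl⟩; exact ⟨φ, fun h' => hφ (h'.trans h), rfl⟩))

theorem X_mem_plIdeal {w φ : Idx d n} (h : ¬ φ ≤ w) : (X φ : PlRing K d n) ∈ plIdeal K w :=
  Ideal.subset_span (Or.inr ⟨φ, h, rfl⟩)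

theorem chainMon_mem_plIdeal {w : Idx d n} {m : ℕ} (c : Fin m → Idx d n) (h : ∃ k, ¬ c k ≤ w) :
    chainMon K c ∈ plIdeal K w := by
  obtain ⟨k, hk⟩ := h
  rw [chainMon, ← Finset.mul_prod_erase _ _ (Finset.mem_univ k)]
  exact Ideal.mul_mem_right _ _ (X_mem_plIdeal hk)

theorem sup_plIdeal (w₁ w₂ : Idx d n) :
    plIdeal K w₁ ⊔ plIdeal K w₂ = plIdeal K (W4bk4grassmannian.inf w₁ w₂) := by
  apply le_antisymm
  · exact sup_le (plIdeal_mono fun t => min_le_left _ _) (plIdeal_mono fun t => min_le_right _ _)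
  · rw [plIdeal, Ideal.span_le]
    rintro f (hf | ⟨φ, hφ, rfl⟩)
    · exact Ideal.mem_sup_left (Ideal.subset_span (Or.inl hf))
    · by_cases h1 : φ ≤ w₁
      · exact Ideal.mem_sup_right (X_mem_plIdeal fun h2 => hφ fun t => le_min (h1 t) (h2 t))
      · exact Ideal.mem_sup_left (X_mem_plIdeal h1)

theorem isPrime_plIdeal [IsDomain K] (hd : 0 < d) (hdn : d ≤ n) (w : Idx d n) : (plIdeal K w).IsPrime := by
  rw [← outIdeal_bot hdn w]
  exact isPrime_outIdeal hd _ _ (botIdx_le hdn w)

/-- All standard monomials. -/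
abbrev AllC (hdn : d ≤ n) : Type := Σ m, Chains (botIdx hdn) (topIdx hdn) m

theorem expand_univ (hdn : d ≤ n) (f : PlRing K d n) :
    ∃ a : AllC (d := d) hdn →₀ K,
      f - Finsupp.linearCombination K (fun c : AllC hdn => chainMon K c.2.1) a ∈ plIdealTop K := by
  obtain ⟨a, ha⟩ := exists_expansion (K := K) (botIdx hdn) (topIdx hdn) f
  exact ⟨a, by rwa [outIdeal_univ] at ha⟩

theorem linearCombination_eq_zero [IsDomain K] (hd : 0 < d) (hdn : d ≤ n) (S : Set (Idx d n))
    (a : AllC (d := d) hdn →₀ K) (hsupp : ∀ c ∈ a.support, ∃ τ ∈ S, ∀ k, c.2.1 k ≤ τ)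
    (h : ∀ τ ∈ S, Finsupp.linearCombination K (fun c : AllC hdn => chainMon K c.2.1) a ∈ plIdeal K τ) :
    a = 0 := by
  classical
  ext c
  rw [Finsupp.zero_apply]
  by_contra hc
  obtain ⟨τ, hτ, hcτ⟩ := hsupp c (Finsupp.mem_support_iff.mpr hc)
  have h0 := h τ hτ
  rw [← ker_proj_bot hd hdn τ] at h0
  replace h0 : proj (botIdx hdn) τ (Finsupp.linearCombination K (fun c : AllC hdn => chainMon K c.2.1) a) = 0 := h0
  rw [Finsupp.linearCombination_apply, map_finsuppSum, Finsupp.sum] at h0
  simp only [map_smul] at h0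
  let e : (Σ m, Chains (botIdx hdn) τ m) → AllC (d := d) hdn :=
    fun x => ⟨x.1, x.2.1, x.2.2.1, fun k => ⟨botIdx_le hdn _, le_topIdx hdn _⟩⟩
  have he : Function.Injective e := by
    rintro ⟨m, x⟩ ⟨m', x'⟩ hxx
    obtain rfl : m = m' := congrArg Sigma.fst hxx
    simp only [e, Sigma.mk.injEq, heq_eq_eq, true_and, Subtype.mk.injEq] at hxx
    rw [Subtype.ext hxx]
  rw [← Finset.sum_preimage e a.support he.injOn _ (fun x _ hx => by
    rw [proj_chain_eq_zero _ _ _ ?_, smul_zero]
    by_contra hcon
    push Not at hcon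
    exact hx ⟨⟨x.1, x.2.1, x.2.2.1, fun k => hcon k⟩, rfl⟩)] at h0
  have hli := linearIndependent_iff'.mp (indep (K := K) hd (botIdx hdn) τ (botIdx_le hdn τ))
    (a.support.preimage e he.injOn) (fun x => a (e x)) h0
    ⟨c.1, c.2.1, c.2.2.1, fun k => ⟨botIdx_le hdn _, hcτ k⟩⟩
    (by rw [Finset.mem_preimage]; simpa [e] using hc)
  exact hc (by simpa [e] using hli)

theorem exists_divisor {u τ : Idx d n} (h : u < τ) : ∃ φ ∈ divisors τ, u ≤ φ := by
  classical
  have hle : u ≤ τ := h.le
  have hex : ((univ : Finset (Fin d)).filter fun t => u.1 t < τ.1 t).Nonempty := by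
    by_contra hc
    rw [Finset.not_nonempty_iff_eq_empty, Finset.filter_eq_empty_iff] at hc
    exact h.not_ge fun t => not_lt.mp (hc (Finset.mem_univ t))
  obtain ⟨r, hr, hmin⟩ := Finset.exists_min_image _ id hex
  have hr' : (u.1 r).val < (τ.1 r).val := (Finset.mem_filter.mp hr).2
  have hbefore : ∀ t, t < r → u.1 t = τ.1 t := fun t ht => le_antisymm (hle t) (by
    by_contra hc
    exact absurd (hmin t (Finset.mem_filter.mpr ⟨Finset.mem_univ _, not_le.mp hc⟩)) (not_le.mpr ht))
  let f : Fin d → Fin n := Function.update τ.1 r ⟨(τ.1 r).val - 1, by omega⟩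
  have hf : StrictMono f := by
    intro a b hab
    have hτ := τ.2 hab
    simp only [f, Function.update_apply]
    split_ifs with ha hb hb
    · exact absurd (ha.trans hb.symm) hab.ne
    · subst ha; rw [Fin.lt_def] at hτ ⊢; simp only; omega
    · subst hb
      have h1 : (u.1 a).val < (u.1 b).val := u.2 hab
      rw [hbefore a hab] at h1
      rw [Fin.lt_def]; simp only; omega
    · exact hτ
  let φ : Idx d n := ⟨f, hf⟩
  have hφle : φ ≤ τ := by
    intro t
    show f t ≤ τ.1 t
    simp only [f, Function.update_apply]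
    split_ifs with ht
    · subst ht; rw [Fin.le_def]; simp only; omega
    · exact le_rfl
  have huφ : u ≤ φ := by
    intro t
    show u.1 t ≤ f t
    simp only [f, Function.update_apply]
    split_ifs with ht
    · subst ht; rw [Fin.le_def]; simp only; omega
    · exact hle t
  refine ⟨φ, ⟨lt_of_le_of_ne hφle fun he => ?_, ?_⟩, huφ⟩
  · have := congrArg (fun x : Idx d n => (x.1 r).val) he
    simp [φ, f] at this
    omega
  · rw [codeg, codeg, ← Finset.add_sum_erase _ _ (Finset.mem_univ r),
      ← Finset.add_sum_erase _ _ (Finset.mem_univ r)]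
    have hs : ∑ t ∈ univ.erase r, ((φ.1 t).val - t.val) = ∑ t ∈ univ.erase r, ((τ.1 t).val - t.val) :=
      Finset.sum_congr rfl fun t ht => by
        rw [show φ.1 t = τ.1 t from Function.update_of_ne (Finset.mem_erase.mp ht).1 _ _]
    rw [hs]
    have : (φ.1 r).val = (τ.1 r).val - 1 := by simp [φ, f]
    have := val_le_idx u r
    omega

theorem sup_span_top [IsDomain K] (hd : 0 < d) (hdn : d ≤ n) (τ : Idx d n) (hτ : ∃ φ : Idx d n, φ < τ) :
    plIdeal K τ ⊔ Ideal.span {X τ} = ⨅ φ ∈ divisors τ, plIdeal K φ := by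
  classical
  apply le_antisymm
  · refine le_iInf fun φ => le_iInf fun hφ => sup_le (plIdeal_mono hφ.1.le) ?_
    rw [Ideal.span_singleton_le_iff_mem]
    exact X_mem_plIdeal hφ.1.not_ge
  · intro f hf
    simp only [Submodule.mem_iInf] at hf
    obtain ⟨a, ha⟩ := expand_univ (K := K) hdn f
    set good : AllC (d := d) hdn → Prop := fun c => ∀ k, c.2.1 k < τ
    set L := Finsupp.linearCombination K (fun c : AllC hdn => chainMon K c.2.1)
    have hbad : ∀ c : AllC (d := d) hdn, ¬ good c → chainMon K c.2.1 ∈ plIdeal K τ ⊔ Ideal.span {X τ} := by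
      intro c hc
      simp only [good, not_forall] at hc
      obtain ⟨k, hk⟩ := hc
      by_cases hle : c.2.1 k ≤ τ
      · have he : c.2.1 k = τ := eq_of_le_of_not_lt hle hk
        refine Ideal.mem_sup_right (Ideal.mem_span_singleton.mpr ?_)
        rw [← he, chainMon]
        exact Finset.dvd_prod_of_mem (fun k => (X (c.2.1 k) : PlRing K d n)) (Finset.mem_univ k)
      · exact Ideal.mem_sup_left (chainMon_mem_plIdeal _ ⟨k, hle⟩)
    have hbad' : L (a.filter fun c => ¬ good c) ∈ plIdeal K τ ⊔ Ideal.span {X τ} := by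
      rw [Finsupp.linearCombination_apply]
      refine Submodule.sum_mem _ fun c hc => ?_
      rw [Finsupp.support_filter, Finset.mem_filter] at hc
      show (a.filter fun c => ¬ good c) c • chainMon K c.2.1 ∈ _
      rw [MvPolynomial.smul_eq_C_mul]
      exact Ideal.mul_mem_left _ _ (hbad c hc.2)
    have hsplit : L a = L (a.filter good) + L (a.filter fun c => ¬ good c) := by
      rw [← map_add, Finsupp.filter_pos_add_filter_neg]
    have hgood : a.filter good = 0 := by
      refine linearCombination_eq_zero hd hdn (divisors τ) _ (fun c hc => ?_) (fun φ hφ => ?_)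
      · rw [Finsupp.support_filter, Finset.mem_filter] at hc
        obtain ⟨m, c⟩ := c
        rcases m with _ | m
        · obtain ⟨u, hu⟩ := hτ
          obtain ⟨φ, hφ, -⟩ := exists_divisor hu
          exact ⟨φ, hφ, fun k => k.elim0⟩
        · obtain ⟨φ, hφ, hle⟩ := exists_divisor (hc.2 0)
          exact ⟨φ, hφ, fun k => (c.2.1 (Fin.zero_le k)).trans hle⟩
      · have h1 : L a ∈ plIdeal K φ := by
          have := (plIdeal K φ).sub_mem (hf φ hφ) (plIdealTop_le φ ha)
          rwa [sub_sub_cancel] at this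
        have h2 : plIdeal K τ ⊔ Ideal.span {X τ} ≤ plIdeal K φ := sup_le (plIdeal_mono hφ.1.le) (by
          rw [Ideal.span_singleton_le_iff_mem]; exact X_mem_plIdeal hφ.1.not_ge)
        have := (plIdeal K φ).sub_mem h1 (h2 hbad')
        rwa [hsplit, add_sub_cancel_right] at this
    have hLa : L a ∈ plIdeal K τ ⊔ Ideal.span {X τ} := by
      rw [hsplit, hgood, map_zero, zero_add]; exact hbad'
    have := add_mem (Ideal.mem_sup_left (T := Ideal.span {X τ}) (plIdealTop_le τ ha)) hLa
    rwa [sub_add_cancel] at this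

theorem union_basis [IsDomain K] (hd : 0 < d) (hdn : d ≤ n) {ι : Type*} (τs : ι → Idx d n) :
    LinearIndependent K (fun c : (Σ m : ℕ, {c : Fin m → Idx d n // Antitone c ∧ ∃ i, ∀ k, c k ≤ τs i}) =>
        Ideal.Quotient.mk (⨅ i, plIdeal K (τs i)) (chainMon K c.2.1)) ∧
      Submodule.span K (Set.range fun c : (Σ m : ℕ, {c : Fin m → Idx d n // Antitone c ∧ ∃ i, ∀ k, c k ≤ τs i}) =>
        Ideal.Quotient.mk (⨅ i, plIdeal K (τs i)) (chainMon K c.2.1)) = ⊤ := by
  classical
  set J := ⨅ i, plIdeal K (τs i)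
  let e : (Σ m : ℕ, {c : Fin m → Idx d n // Antitone c ∧ ∃ i, ∀ k, c k ≤ τs i}) → AllC (d := d) hdn :=
    fun x => ⟨x.1, x.2.1, x.2.2.1, fun k => ⟨botIdx_le hdn _, le_topIdx hdn _⟩⟩
  have he : Function.Injective e := by
    rintro ⟨m, x⟩ ⟨m', x'⟩ hxx
    obtain rfl : m = m' := congrArg Sigma.fst hxx
    simp only [e, Sigma.mk.injEq, heq_eq_eq, true_and, Subtype.mk.injEq] at hxx
    rw [Subtype.ext hxx]
  constructor
  · rw [linearIndependent_iff]
    intro l hl
    have h1 : Finsupp.linearCombination K (fun c => chainMon K (e c).2.1) l ∈ J := by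
      rw [← Ideal.Quotient.eq_zero_iff_mem, ← hl, ← Ideal.Quotient.mkₐ_eq_mk K, ← AlgHom.toLinearMap_apply,
        Finsupp.apply_linearCombination]
      rfl
    have h2 : l.mapDomain e = 0 := by
      refine linearCombination_eq_zero hd hdn (Set.range τs) _ (fun c hc => ?_) (fun τ hτ => ?_)
      · obtain ⟨x, -, rfl⟩ := Finset.mem_image.mp (Finsupp.mapDomain_support hc)
        obtain ⟨i, hi⟩ := x.2.2.2
        exact ⟨τs i, ⟨i, rfl⟩, hi⟩
      · obtain ⟨i, rfl⟩ := hτ
        rw [Finsupp.linearCombination_mapDomain]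
        exact (Submodule.mem_iInf _).mp h1 i
    exact Finsupp.mapDomain_injective he (h2.trans Finsupp.mapDomain_zero.symm)
  · rw [eq_top_iff]
    rintro q -
    obtain ⟨f, rfl⟩ := Ideal.Quotient.mk_surjective q
    obtain ⟨a, ha⟩ := expand_univ (K := K) hdn f
    have hJ : f - Finsupp.linearCombination K (fun c : AllC hdn => chainMon K c.2.1) a ∈ J :=
      (Submodule.mem_iInf _).mpr fun i => plIdealTop_le _ ha
    rw [Ideal.Quotient.eq.mpr hJ, Finsupp.linearCombination_apply, Finsupp.sum, map_sum]
    refine Submodule.sum_mem _ fun c _ => ?_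
    rw [← Ideal.Quotient.mkₐ_eq_mk K, map_smul]
    refine Submodule.smul_mem _ _ ?_
    by_cases hc : ∃ i, ∀ k, c.2.1 k ≤ τs i
    · exact Submodule.subset_span ⟨⟨c.1, c.2.1, c.2.2.1, hc⟩, rfl⟩
    · rw [show Ideal.Quotient.mkₐ K J (chainMon K c.2.1) = 0 from
        Ideal.Quotient.eq_zero_iff_mem.mpr ((Submodule.mem_iInf _).mpr fun i =>
          chainMon_mem_plIdeal _ (by push Not at hc; exact hc i))]
      exact Submodule.zero_mem _

theorem span_all (d n : ℕ) :
    Submodule.span K (Set.range fun c : (Σ m : ℕ, {c : Fin m → Idx d n // Antitone c}) =>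
        Ideal.Quotient.mk (plIdealTop (d := d) (n := n) K) (chainMon K c.2.1)) = ⊤ := by
  rw [eq_top_iff]
  rintro q -
  obtain ⟨f, rfl⟩ := Ideal.Quotient.mk_surjective q
  rw [← Ideal.Quotient.mkₐ_eq_mk K]
  by_cases hdn : d ≤ n
  · obtain ⟨a, ha⟩ := expand_univ (K := K) hdn f
    rw [Ideal.Quotient.mkₐ_eq_mk, Ideal.Quotient.eq.mpr ha, Finsupp.linearCombination_apply, Finsupp.sum,
      map_sum]
    refine Submodule.sum_mem _ fun c _ => ?_
    rw [← Ideal.Quotient.mkₐ_eq_mk K, map_smul]
    exact Submodule.smul_mem _ _ (Submodule.subset_span ⟨⟨c.1, c.2.1, c.2.2.1⟩, rfl⟩)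
  · haveI : IsEmpty (Idx d n) := ⟨fun θ => hdn (by
      simpa using Fintype.card_le_of_injective _ θ.2.injective)⟩
    rw [MvPolynomial.eq_C_of_isEmpty f, ← mul_one (C _), ← smul_eq_C_mul, map_smul]
    refine Submodule.smul_mem _ _ (Submodule.subset_span ⟨⟨0, Fin.elim0, fun a => a.elim0⟩, ?_⟩)
    simp [chainMon]

theorem prime_bot [IsDomain K] (hd : 0 < d) (hdn : d < n) (w : Idx d n) :
    Prime (Ideal.Quotient.mk (plIdeal K w) (X (botIdx hdn.le))) := by
  classical
  set b := botIdx (d := d) hdn.le
  have hne : Ideal.Quotient.mk (plIdeal K w) (X b) ≠ 0 := by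
    rw [Ne, Ideal.Quotient.eq_zero_iff_mem, ← ker_proj_bot hd hdn.le w, RingHom.mem_ker]
    have hbw : b ≤ w := botIdx_le hdn.le w
    show proj b w (X b) ≠ 0
    rw [proj_X]
    exact minor_bot_ne_zero b w hbw
  have hP : (plIdeal K w ⊔ Ideal.span {X b}).IsPrime := by
    by_cases hwb : w = b
    · have : plIdeal K w ⊔ Ideal.span {X b} = RingHom.ker (constantCoeff : PlRing K d n →+* K) := by
        have hc : ∀ a : Fin d → Fin n, constantCoeff (coord K d n a) = 0 := fun a => by
          rcases coord_cases (K := K) a with h | ⟨h, c, h'⟩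
          · rw [h, map_zero]
          · rw [h', map_mul, constantCoeff_X, mul_zero]
        apply le_antisymm
        · refine sup_le ?_ ?_
          · rw [plIdeal, Ideal.span_le]
            rintro _ (⟨i, j, r, -, rfl⟩ | ⟨φ, -, rfl⟩)
            · show constantCoeff (shuffleRel K i j r) = 0
              rw [shuffleRel, map_sum]
              refine Finset.sum_eq_zero fun A _ => ?_
              unfold shuffleTerm
              split_ifs
              · rw [map_mul, hc, mul_zero]
              · exact map_zero _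
            · exact constantCoeff_X _ _
          · rw [Ideal.span_singleton_le_iff_mem]; exact constantCoeff_X _ _
        · intro p hp
          have : p - C (constantCoeff p) ∈ plIdeal K w ⊔ Ideal.span {X b} := by
            clear hp
            induction p using MvPolynomial.induction_on with
            | C a => simp
            | add p q hp hq =>
              rw [map_add, map_add, add_sub_add_comm]; exact add_mem hp hq
            | mul_X p φ _ =>
              rw [map_mul, constantCoeff_X, mul_zero, map_zero, sub_zero]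
              refine Ideal.mul_mem_left _ _ ?_
              by_cases hφ : φ = b
              · subst hφ; exact Ideal.mem_sup_right (Ideal.mem_span_singleton_self _)
              · refine Ideal.mem_sup_left (X_mem_plIdeal ?_)
                rw [hwb]; exact fun h => hφ (le_antisymm h (botIdx_le hdn.le φ))
          rw [RingHom.mem_ker] at hp
          rwa [hp, map_zero, sub_zero] at this
      rw [this]
      exact RingHom.ker_isPrime _
    · let l : Fin d := ⟨d - 1, by omega⟩
      let v : Idx d n := ⟨fun t => if t = l then ⟨d, hdn⟩ else ⟨t.val, t.isLt.trans hdn⟩, fun p q hpq => by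
        have := q.isLt
        have hpl : p ≠ l := fun h => by
          subst h; simp only [l, Fin.lt_def] at hpq; omega
        simp only [hpl, if_false]
        rw [Fin.lt_def] at hpq ⊢
        split_ifs <;> simp only <;> omega⟩
      have hv : ∀ θ : Idx d n, θ ≠ b → v ≤ θ := by
        intro θ hθ t
        show (if t = l then (⟨d, hdn⟩ : Fin n) else ⟨t.val, t.isLt.trans hdn⟩) ≤ θ.1 t
        split_ifs with ht
        · subst ht
          by_contra hc
          apply hθ
          rw [Fin.le_def, not_le] at hc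
          refine le_antisymm (fun s => ?_) (botIdx_le hdn.le θ)
          have h1 : (θ.1 s).val + (l.val - s.val) ≤ (θ.1 l).val := by
            have hs : s.val ≤ l.val := by have := s.isLt; show s.val ≤ d - 1; omega
            have h2 := Finset.card_le_card (show (Icc s l).map ⟨θ.1, θ.2.injective⟩ ⊆ Icc (θ.1 s) (θ.1 l) from
              fun x hx => by
                obtain ⟨y, hy, rfl⟩ := Finset.mem_map.mp hx
                rw [Finset.mem_Icc] at hy ⊢
                exact ⟨θ.2.monotone hy.1, θ.2.monotone hy.2⟩)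
            rw [Finset.card_map, Fin.card_Icc, Fin.card_Icc] at h2
            omega
          show (θ.1 s).val ≤ s.val
          have := s.isLt
          simp only [l] at hc h1
          omega
        · exact val_le_idx θ t
      have hvb : ¬ v ≤ b := fun h => by
        have := h l
        simp [v, b, botIdx, l, Fin.le_def] at this
        omega
      have he : plIdeal K w ⊔ Ideal.span {X b} = outIdeal (K := K) v w := by
        apply le_antisymm
        · refine sup_le ?_ ?_
          · rw [plIdeal, Ideal.span_le]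
            rintro _ (hf | ⟨φ, hφ, rfl⟩)
            · exact Ideal.mem_sup_left (Ideal.subset_span hf)
            · exact Ideal.mem_sup_right (Ideal.subset_span ⟨φ, fun h => hφ h.2, rfl⟩)
          · rw [Ideal.span_singleton_le_iff_mem]
            exact Ideal.mem_sup_right (Ideal.subset_span ⟨b, fun h => hvb h.1, rfl⟩)
        · refine sup_le ((plIdealTop_le w).trans le_sup_left) (Ideal.span_le.mpr ?_)
          rintro _ ⟨φ, hφ, rfl⟩
          by_cases hφb : φ = b
          · subst hφb; exact Ideal.mem_sup_right (Ideal.mem_span_singleton_self _)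
          · exact Ideal.mem_sup_left (X_mem_plIdeal fun h => hφ ⟨hv φ hφb, h⟩)
      rw [he]
      exact isPrime_outIdeal hd v w (hv w hwb)
  rw [← Ideal.span_singleton_prime hne]
  have h := Ideal.map_isPrime_of_surjective (Ideal.Quotient.mk_surjective (I := plIdeal K w))
    (H := hP) (hk := by rw [Ideal.mk_ker]; exact le_sup_left)
  rwa [Ideal.map_sup, Ideal.map_quotient_self, bot_sup_eq, Ideal.map_span, Set.image_singleton] at h

end Groth.L14.SMT
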