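import Groth.Prelude.Def_W4bk4grassmannianPl
import Mathlib.LinearAlgebra.Alternating.DomCoprod
import Mathlib.GroupTheory.Perm.Fin
import Mathlib.Data.Fintype.Sort
import Mathlib.LinearAlgebra.Matrix.Determinant.Basic
import Mathlib.LinearAlgebra.StdBasis
import Mathlib.Tactic

open MvPolynomial W4bk4grassmannian Finset

namespace Groth.L14.SMT

universe u v

theorem sign_eq_pow_inv {m : ℕ} (σ : Equiv.Perm (Fin m)) :
    Equiv.Perm.sign σ = (-1) ^ ∑ p, ((univ : Finset (Fin m)).filter fun q => p < q ∧ σ q < σ p).card := by
  rw [Equiv.Perm.sign_eq_prod_prod_Ioi, ← Finset.prod_pow_eq_pow_sum]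
  refine Finset.prod_congr rfl fun p _ => ?_
  rw [Finset.prod_ite, Finset.prod_const_one, one_mul, Finset.prod_const]
  congr 2
  ext q
  simp only [mem_filter, mem_Ioi, mem_univ, true_and]
  constructor
  · rintro ⟨h1, h2⟩
    exact ⟨h1, lt_of_le_of_ne (le_of_not_gt h2) (σ.injective.ne h1.ne')⟩
  · rintro ⟨h1, h2⟩
    exact ⟨h1, h2.le.not_gt⟩

variable {K : Type u} [CommRing K] {d n : ℕ}

theorem invCount_eq_sum (a : Fin d → Fin n) :
    invCount d n a = ∑ p, ((univ : Finset (Fin d)).filter fun q => p < q ∧ a q < a p).card := by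
  rw [invCount]
  simp only [Finset.card_filter]
  exact Fintype.sum_prod_type _

theorem card_image_iff (a : Fin d → Fin n) : (univ.image a).card = d ↔ Function.Injective a := by
  constructor
  · intro h p q hpq
    exact Finset.injOn_of_card_image_eq (by simpa using h) (Finset.mem_univ p) (Finset.mem_univ q) hpq
  · intro h; rw [Finset.card_image_of_injective _ h, Finset.card_fin]

theorem exists_perm (a : Fin d → Fin n) (h : (univ.image a).card = d) :
    ∃ σ : Equiv.Perm (Fin d), a = (sortIdx d n a h).1 ∘ σ := by
  let f : Fin d → Fin d := fun t =>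
    ((univ.image a).orderIsoOfFin h).symm ⟨a t, Finset.mem_image_of_mem a (Finset.mem_univ t)⟩
  have hf : ∀ t, (sortIdx d n a h).1 (f t) = a t := fun t => by
    show (((univ.image a).orderIsoOfFin h) (f t) : Fin n) = a t
    simp only [f, OrderIso.apply_symm_apply]
  have hinj : Function.Injective f := fun p q hpq => (card_image_iff a).mp h (by rw [← hf p, ← hf q, hpq])
  exact ⟨Equiv.ofBijective f (Finite.injective_iff_bijective.mp hinj), funext fun t => (hf t).symm⟩

/-- The value of a signed coordinate at the minors of a matrix. -/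
theorem map_coord {S : Type v} [CommRing S] [Algebra K S] (φ : PlRing K d n →ₐ[K] S)
    (A : Matrix (Fin n) (Fin d) S) (hφ : ∀ θ, φ (X θ) = (A.submatrix θ.1 id).det) (a : Fin d → Fin n) :
    φ (coord K d n a) = (A.submatrix a id).det := by
  rw [coord]
  split_ifs with h
  · obtain ⟨σ, hσ⟩ := exists_perm a h
    have hsign : Equiv.Perm.sign σ = (-1) ^ invCount d n a := by
      rw [sign_eq_pow_inv, invCount_eq_sum]
      congr 1
      refine Finset.sum_congr rfl fun p _ => ?_
      congr 1
      ext q
      simp only [mem_filter, mem_univ, true_and]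
      rw [hσ]
      exact and_congr_right fun _ => ((sortIdx d n a h).2.lt_iff_lt).symm
    rw [map_mul, map_pow, map_neg, map_one, hφ]
    conv_rhs => rw [hσ, ← Function.comp_id id, ← Matrix.submatrix_submatrix, Matrix.det_permute, hsign]
    simp
  · rw [map_zero]
    rw [card_image_iff] at h
    obtain ⟨p, q, hpq, hne⟩ := Function.not_injective_iff.mp h
    exact (Matrix.det_zero_of_row_eq hne (by ext t; simp [hpq])).symm

/-- Determinant as an alternating function of some of the rows. -/
noncomputable def partialDet {S : Type v} [CommRing S] {κ ι : Type*} [Fintype ι] [DecidableEq ι]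
    (e : κ ↪ ι) (base : ι → ι → S) : (ι → S) [⋀^κ]→ₗ[S] S where
  toFun v := Matrix.detRowAlternating (Function.extend e v base)
  map_update_add' := by
    intro inst v k x y
    have h : ∀ z, Function.extend e (Function.update v k z) base =
        Function.update (Function.extend e v base) (e k) z := by
      intro z
      funext t
      by_cases ht : ∃ k', e k' = t
      · obtain ⟨k', rfl⟩ := ht
        rw [e.injective.extend_apply]
        by_cases hk : k' = k
        · subst hk; simp
        · rw [Function.update_of_ne hk, Function.update_of_ne (e.injective.ne hk), e.injective.extend_apply]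
      · rw [Function.extend_apply' _ _ _ ht, Function.update_of_ne (fun hc => ht ⟨k, hc.symm⟩),
          Function.extend_apply' _ _ _ ht]
    simp only [h]
    exact Matrix.detRowAlternating.map_update_add _ _ _ _
  map_update_smul' := by
    intro inst v k c x
    have h : ∀ z, Function.extend e (Function.update v k z) base =
        Function.update (Function.extend e v base) (e k) z := by
      intro z
      funext t
      by_cases ht : ∃ k', e k' = t
      · obtain ⟨k', rfl⟩ := ht
        rw [e.injective.extend_apply]
        by_cases hk : k' = k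
        · subst hk; simp
        · rw [Function.update_of_ne hk, Function.update_of_ne (e.injective.ne hk), e.injective.extend_apply]
      · rw [Function.extend_apply' _ _ _ ht, Function.update_of_ne (fun hc => ht ⟨k, hc.symm⟩),
          Function.extend_apply' _ _ _ ht]
    simp only [h]
    exact Matrix.detRowAlternating.map_update_smul _ _ _ _
  map_eq_zero_of_eq' := by
    intro v p q hpq hne
    refine AlternatingMap.map_eq_zero_of_eq _ _ (i := e p) (j := e q) ?_ (e.injective.ne hne)
    rw [e.injective.extend_apply, e.injective.extend_apply, hpq]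

theorem partialDet_apply {S : Type v} [CommRing S] {κ ι : Type*} [Fintype ι] [DecidableEq ι]
    (e : κ ↪ ι) (base : ι → ι → S) (v : κ → ι → S) :
    partialDet e base v = Matrix.det (Matrix.of (Function.extend e v base)) := rfl

section shuffle

variable (i j : Idx d n) (r : Fin d)

theorem card_compl_of {A : Finset (Fin (d + 1))} (hA : A.card = r.val + 1) : Aᶜ.card = d - r.val := by
  rw [Finset.card_compl, hA, Fintype.card_fin]; omega

/-- The standard splitting. -/
def splitEquiv : Fin (r.val + 1) ⊕ Fin (d - r.val) ≃ Fin (d + 1) :=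
  finSumFinEquiv.trans (finCongr (by have := r.isLt; omega))

/-- The shuffle permutation attached to `A`. -/
noncomputable def shufflePerm (A : {A : Finset (Fin (d + 1)) // A.card = r.val + 1}) :
    Equiv.Perm (Fin (d + 1)) :=
  (splitEquiv r).symm.trans (finSumEquivOfFinset A.2 (card_compl_of r A.2))

theorem sign_shufflePerm (A : {A : Finset (Fin (d + 1)) // A.card = r.val + 1}) :
    Equiv.Perm.sign (shufflePerm r A) = (-1) ^ shuffleSign r A.1 := by
  set π := shufflePerm r A with hπ
  rw [sign_eq_pow_inv]
  congr 1
  have hl : ∀ p, π (splitEquiv r (Sum.inl p)) = A.1.orderEmbOfFin A.2 p := fun p => by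
    simp [hπ, shufflePerm]
  have hr : ∀ p, π (splitEquiv r (Sum.inr p)) = A.1ᶜ.orderEmbOfFin (card_compl_of r A.2) p := fun p => by
    simp [hπ, shufflePerm]
  have vl : ∀ p, (splitEquiv r (Sum.inl p)).val = p.val := fun p => by simp [splitEquiv]
  have vr : ∀ p, (splitEquiv r (Sum.inr p)).val = r.val + 1 + p.val := fun p => by simp [splitEquiv]
  let N : Fin (d + 1) → ℕ := fun p => ((univ : Finset (Fin (d + 1))).filter fun q => p < q ∧ π q < π p).card
  have hN0 : ∀ p, N (splitEquiv r (Sum.inr p)) = 0 := by
    intro p
    rw [Finset.card_eq_zero, Finset.filter_eq_empty_iff]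
    intro q _
    obtain ⟨q, rfl⟩ := (splitEquiv r).surjective q
    rintro ⟨h1, h2⟩
    rcases q with q | q
    · rw [Fin.lt_def, vl, vr] at h1; have := q.isLt; omega
    · rw [Fin.lt_def, vr, vr] at h1
      rw [hr, hr, OrderEmbedding.lt_iff_lt, Fin.lt_def] at h2
      omega
  have hN1 : ∀ p, N (splitEquiv r (Sum.inl p)) + p.val = (A.1.orderEmbOfFin A.2 p).val := by
    intro p
    set P := splitEquiv r (Sum.inl p) with hP
    have hlow : (univ : Finset (Fin (d + 1))).filter (fun q => q < P ∧ π q < π P) = Iio P := by
      ext q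
      simp only [mem_filter, mem_univ, true_and, mem_Iio, and_iff_left_iff_imp]
      intro hq
      obtain ⟨q, rfl⟩ := (splitEquiv r).surjective q
      rcases q with q | q
      · rw [hl, hl, OrderEmbedding.lt_iff_lt]
        rw [hP, Fin.lt_def, vl, vl] at hq
        exact hq
      · rw [hP, Fin.lt_def, vl, vr] at hq; have := p.isLt; omega
    have htot : ((univ : Finset (Fin (d + 1))).filter fun q => π q < π P).card = (π P).val := by
      rw [show ((univ : Finset (Fin (d + 1))).filter fun q => π q < π P) = (Iio (π P)).map π.symm.toEmbedding by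
        ext q; simp [Finset.mem_map_equiv], Finset.card_map, Fin.card_Iio]
    have hsplit : ((univ : Finset (Fin (d + 1))).filter fun q => π q < π P) =
        ((univ : Finset (Fin (d + 1))).filter fun q => P < q ∧ π q < π P) ∪
        ((univ : Finset (Fin (d + 1))).filter fun q => q < P ∧ π q < π P) := by
      ext q
      simp only [mem_filter, mem_univ, true_and, mem_union]
      constructor
      · intro h
        rcases lt_trichotomy q P with h' | h' | h'
        · exact Or.inr ⟨h', h⟩
        · subst h'; exact absurd h (lt_irrefl _)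
        · exact Or.inl ⟨h', h⟩
      · rintro (h | h) <;> exact h.2
    rw [← hl, ← hP, ← htot, hsplit, Finset.card_union_of_disjoint, hlow, Fin.card_Iio, hP, vl]
    rw [Finset.disjoint_left]
    intro q h1 h2
    simp only [mem_filter] at h1 h2
    exact lt_asymm h1.2.1 h2.2.1
  show ∑ p, N p = _
  rw [← (splitEquiv r).sum_comp, Fintype.sum_sum_type, Finset.sum_eq_zero (fun p _ => hN0 p), add_zero, shuffleSign]
  have h2 : A.1.sum (fun a => a.val) = ∑ p, (A.1.orderEmbOfFin A.2 p).val := by
    conv_lhs => rw [← Finset.image_orderEmbOfFin_univ A.1 A.2]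
    rw [Finset.sum_image fun p _ q _ h => (A.1.orderEmbOfFin A.2).injective h]
  have h3 : ∑ p : Fin (r.val + 1), p.val = r.val * (r.val + 1) / 2 := by
    rw [Fin.sum_univ_eq_sum_range fun x => x, Finset.sum_range_id, Nat.add_sub_cancel, Nat.mul_comm]
  rw [h2, ← h3, ← Finset.sum_congr rfl fun p _ => hN1 p, Finset.sum_add_distrib, Nat.add_sub_cancel]

theorem movingRows_split_inl (p : Fin (r.val + 1)) :
    movingRows i j r (splitEquiv r (Sum.inl p)) = i.1 ⟨p.val, by have := r.isLt; have := p.isLt; omega⟩ := by
  have h : (splitEquiv r (Sum.inl p)).val ≤ r.val := by simp [splitEquiv]; omega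
  rw [movingRows, dif_pos h]
  congr 1

/-- Shuffle relations vanish on the minors of every matrix. -/
theorem map_shuffleRel {S : Type v} [CommRing S] [Algebra K S] (φ : PlRing K d n →ₐ[K] S)
    (M : Matrix (Fin n) (Fin d) S) (hφ : ∀ θ, φ (X θ) = (M.submatrix θ.1 id).det) :
    φ (shuffleRel K i j r) = 0 := by
  classical
  let e1 : Fin (r.val + 1) ↪ Fin d :=
    ⟨Fin.castLE (Nat.succ_le_of_lt r.isLt), Fin.castLE_injective _⟩
  let e2 : Fin (d - r.val) ↪ Fin d :=
    ⟨fun s => ⟨r.val + s.val, by have := s.isLt; omega⟩, fun s s' h => by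
      simp only [Fin.mk.injEq] at h; exact Fin.ext (by omega)⟩
  let D1 := partialDet (S := S) e1 (fun t => M (i.1 t))
  let D2 := partialDet (S := S) e2 (fun t => M (j.1 t))
  let Ω := (LinearMap.mul' S S).compAlternatingMap (D1.domCoprod D2)
  have hΩ : Ω = 0 := by
    refine Module.Basis.ext_alternating (Pi.basisFun S (Fin d)) fun v hv => ?_
    exfalso
    have := Fintype.card_le_of_injective v hv
    simp only [Fintype.card_sum, Fintype.card_fin] at this
    omega
  let W : Fin (r.val + 1) ⊕ Fin (d - r.val) → (Fin d → S) := fun x => M (movingRows i j r (splitEquiv r x))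
  have h0 : Ω W = 0 := by rw [hΩ]; rfl
  let σA : {A : Finset (Fin (d + 1)) // A.card = r.val + 1} → Equiv.Perm (Fin (r.val + 1) ⊕ Fin (d - r.val)) :=
    fun A => (finSumEquivOfFinset A.2 (card_compl_of r A.2)).trans (splitEquiv r).symm
  have hbij : Function.Bijective
      (fun A => (Quotient.mk'' (σA A) : Equiv.Perm.ModSumCongr (Fin (r.val + 1)) (Fin (d - r.val)))) := by
    constructor
    · intro A B hAB
      obtain ⟨⟨sl, sr⟩, hh⟩ := QuotientGroup.leftRel_apply.mp (Quotient.exact' hAB)
      replace hh := inv_mul_eq_iff_eq_mul.mp hh.symm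
      refine Subtype.ext (Finset.eq_of_subset_of_card_le (fun x hx => ?_) (by rw [A.2, B.2])).symm
      obtain ⟨p, rfl⟩ : x ∈ Set.range (B.1.orderEmbOfFin B.2) := by rwa [Finset.range_orderEmbOfFin]
      have h1 := congrArg (splitEquiv r) (Equiv.congr_fun hh (Sum.inl p))
      simp [σA] at h1
      rw [h1]
      exact Finset.orderEmbOfFin_mem _ _ _
    · intro q
      induction q using Quotient.inductionOn' with | _ σ
      let s : Finset (Fin (d + 1)) := univ.image fun p => splitEquiv r (σ (Sum.inl p))
      have hs : s.card = r.val + 1 := by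
        rw [Finset.card_image_of_injective _ fun p q h =>
          Sum.inl_injective (σ.injective ((splitEquiv r).injective h)), Finset.card_fin]
      refine ⟨⟨s, hs⟩, Quotient.sound' (QuotientGroup.leftRel_apply.mpr ?_)⟩
      apply Equiv.Perm.mem_sumCongrHom_range_of_perm_mapsTo_inl
      rintro _ ⟨p, rfl⟩
      have hmem : splitEquiv r (σ (Sum.inl p)) ∈ Set.range (s.orderEmbOfFin hs) := by
        rw [Finset.range_orderEmbOfFin]; exact Finset.mem_image_of_mem _ (Finset.mem_univ p)
      obtain ⟨p', hp'⟩ := hmem
      refine ⟨p', ?_⟩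
      rw [Equiv.Perm.mul_apply, eq_comm, Equiv.Perm.inv_eq_iff_eq]
      simp [σA, hp']
  have hsum : Ω W = ∑ A : {A : Finset (Fin (d + 1)) // A.card = r.val + 1},
      Equiv.Perm.sign (σA A) • (D1 (fun p => W (σA A (Sum.inl p))) * D2 (fun p => W (σA A (Sum.inr p)))) := by
    show LinearMap.mul' S S (D1.domCoprod D2 W) = _
    rw [AlternatingMap.domCoprod_apply, MultilinearMap.sum_apply, map_sum]
    refine (Fintype.sum_bijective _ hbij _ _ fun A => ?_).symm
    rw [AlternatingMap.domCoprod.summand_mk'']
    simp
  rw [shuffleRel, map_sum]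
  refine Eq.trans ?_ h0
  rw [hsum]
  rw [← Finset.sum_filter_add_sum_filter_not univ (fun A : Finset (Fin (d + 1)) => A.card = r.val + 1)]
  rw [Finset.sum_eq_zero (s := univ.filter fun A : Finset (Fin (d + 1)) => ¬ A.card = r.val + 1)
    (fun A hA => by rw [shuffleTerm, dif_neg (Finset.mem_filter.mp hA).2, map_zero]), add_zero]
  rw [Finset.sum_subtype (F := inferInstance) (univ.filter fun A : Finset (Fin (d + 1)) => A.card = r.val + 1)
    (p := fun A => A.card = r.val + 1) (by simp)]
  refine Finset.sum_congr rfl fun A _ => ?_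
  rw [shuffleTerm, dif_pos A.2, map_mul, map_mul, map_coord φ M hφ, map_coord φ M hφ, map_pow, map_neg,
    map_one]
  have hs : Equiv.Perm.sign (σA A) = (-1) ^ shuffleSign r A.1 := by
    rw [← sign_shufflePerm r A, ← Equiv.Perm.sign_permCongr (splitEquiv r) (σA A)]
    congr 1
    ext p
    simp [σA, shufflePerm]
  rw [hs, mul_assoc]
  have hI : D1 (fun p => W (σA A (Sum.inl p))) = (M.submatrix (shuffleI i j r A.1 A.2) id).det := by
    rw [partialDet_apply]
    congr 1
    ext t c
    show Function.extend e1 (fun p => W (σA A (Sum.inl p))) (fun t => M (i.1 t)) t c =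
      M (shuffleI i j r A.1 A.2 t) c
    by_cases ht : t.val ≤ r.val
    · have : t = e1 ⟨t.val, by omega⟩ := rfl
      conv_lhs => rw [this, e1.injective.extend_apply]
      rw [shuffleI, dif_pos ht]
      simp [W, σA]
    · rw [Function.extend_apply' _ _ _ (by
        rintro ⟨p, hp⟩; have := p.isLt; rw [← hp] at ht; simp [e1] at ht; omega), shuffleI, dif_neg ht]
  have hJ : D2 (fun p => W (σA A (Sum.inr p))) = (M.submatrix (shuffleJ i j r A.1 A.2) id).det := by
    rw [partialDet_apply]
    congr 1
    ext t c
    show Function.extend e2 (fun p => W (σA A (Sum.inr p))) (fun t => M (j.1 t)) t c =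
      M (shuffleJ i j r A.1 A.2 t) c
    by_cases ht : t.val < r.val
    · rw [Function.extend_apply' _ _ _ (by
        rintro ⟨p, hp⟩; rw [← hp] at ht; simp [e2] at ht)]
      simp only [shuffleJ, dif_pos ht]
    · have : t = e2 ⟨t.val - r.val, by have := t.isLt; omega⟩ := Fin.ext (by simp [e2]; omega)
      conv_lhs => rw [this, e2.injective.extend_apply]
      simp only [shuffleJ, dif_neg ht]
      simp [W, σA]
  rw [hI, hJ, Units.smul_def]
  simp

end shuffle

end Groth.L14.SMT
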