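import Groth.Agent.L14.SMT.Fam
import Mathlib.LinearAlgebra.FreeModule.Basic

/-!
Flat degenerations of Schubert coordinate rings.
-/

open MvPolynomial W4bk4grassmannian Finset
open scoped LaurentPolynomial

namespace Groth.L14.SMT

universe u

variable {K : Type u} [Field K] {d n : ℕ} (w : Idx d n) (e : Below w → ℤ)

/-- Leading parts of straightening laws. -/
def IsLead (f : MvPolynomial (Below w) K) : Prop :=
  ∃ (a b : Below w) (s : Finset (Below w × Below w)) (co : Below w × Below w → K),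
    X a.1 * X b.1 - ∑ p ∈ s, co p • (X p.1.1 * X p.2.1) ∈ plIdeal K w ∧
    (∀ p ∈ s, e p.1 + e p.2 ≤ e a + e b) ∧
    f = (X a * X b : MvPolynomial (Below w) K) -
      ∑ p ∈ s.filter (fun p => e p.1 + e p.2 = e a + e b), co p • (X p.1 * X p.2 : MvPolynomial (Below w) K)

/-- A degeneration datum. -/
structure Law (K : Type u) [Field K] {d n : ℕ} (w : Idx d n) (e : Below w → ℤ)
    (L : Ideal (MvPolynomial (Below w) K)) : Prop where
  straighten : ∀ a b : Below w, ¬ a ≤ b → ¬ b ≤ a →
    ∃ (s : Finset (Below w × Below w)) (co : Below w × Below w → K),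
      X a.1 * X b.1 - ∑ p ∈ s, co p • (X p.1.1 * X p.2.1) ∈ plIdeal K w ∧
      (∀ p ∈ s, wt a.1 < wt p.1.1 ∧ wt b.1 < wt p.1.1 ∧ e p.1 + e p.2 ≤ e a + e b) ∧
      (X a * X b : MvPolynomial (Below w) K) -
        ∑ p ∈ s.filter (fun p => e p.1 + e p.2 = e a + e b),
          co p • (X p.1 * X p.2 : MvPolynomial (Below w) K) ∈ L
  gen : L ≤ Ideal.span {f | IsLead (K := K) w e f}

variable {w e} {L : Ideal (MvPolynomial (Below w) K)}

theorem fam_span (hL : Law K w e L) (x : Fam K w e) :
    x ∈ Submodule.span (Polynomial K) (Set.range fun c : BChain w => ∏ k, famGen (K := K) w e (c.2.1 k)) := by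
  refine mem_span_generic w (famGen (K := K) w e) (fam_adjoin w e) (fun a b hab hba => ?_) x
  obtain ⟨s, co, hrel, hs, -⟩ := hL.straighten a b hab hba
  rw [fam_rel w e a b s co hrel (fun p hp => (hs p hp).2.2)]
  exact Submodule.sum_mem _ fun p hp => Submodule.smul_mem _ _
    (Submodule.subset_span ⟨p.1, p.2, (hs p hp).1, (hs p hp).2.1, rfl⟩)

/-- The chain basis of the family. -/
noncomputable def famBasis [Infinite K] (hd : 0 < d) (hdn : d ≤ n) (hL : Law K w e L) :
    Module.Basis (BChain w) (Polynomial K) (Fam K w e) :=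
  Module.Basis.mk (fam_li (K := K) w e hd hdn) (fun x _ => fam_span hL x)

theorem famBasis_apply [Infinite K] (hd : 0 < d) (hdn : d ≤ n) (hL : Law K w e L) (c : BChain w) :
    famBasis hd hdn hL c = ∏ k, famGen (K := K) w e (c.2.1 k) :=
  Module.Basis.mk_apply _ _ c

section fibre

variable (w e)

/-- Evaluation of Laurent polynomials at a nonzero scalar. -/
noncomputable def evalAt (c : K) (hc : c ≠ 0) :
    LaurentPolynomial (PlRing K d n ⧸ plIdeal K w) →+* PlRing K d n ⧸ plIdeal K w :=
  LaurentPolynomial.eval₂ (RingHom.id _)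
    (Units.map (algebraMap K (PlRing K d n ⧸ plIdeal K w)).toMonoidHom (Units.mk0 c hc))

theorem evalAt_C (c : K) (hc : c ≠ 0) (a : PlRing K d n ⧸ plIdeal K w) :
    evalAt w c hc (LaurentPolynomial.C a) = a :=
  LaurentPolynomial.eval₂_C _ _ a

theorem evalAt_C_mul_T (c : K) (hc : c ≠ 0) (a : PlRing K d n ⧸ plIdeal K w) (i : ℤ) :
    evalAt w c hc (LaurentPolynomial.C a * LaurentPolynomial.T i) =
      a * algebraMap K (PlRing K d n ⧸ plIdeal K w) (c ^ i) := by
  rw [evalAt, LaurentPolynomial.eval₂_C_mul_T, RingHom.id_apply, ← map_zpow, Units.coe_map,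
    Units.val_zpow_eq_zpow_val]
  rfl

/-- Specialization of the family at a nonzero parameter. -/
noncomputable def specialize (c : K) (hc : c ≠ 0) :
    Fam K w e →ₐ[K] PlRing K d n ⧸ plIdeal K w :=
  Ideal.Quotient.liftₐ (famIdeal K w e)
    ({ (evalAt w c hc).comp (famMap (K := K) w e).toRingHom with
      commutes' := fun r => by
        show evalAt w c hc (famMap (K := K) w e (algebraMap K _ r)) = _
        rw [(famMap (K := K) w e).commutes]
        exact evalAt_C w c hc _ } :
      MvPolynomial (Below w) (Polynomial K) →ₐ[K] PlRing K d n ⧸ plIdeal K w)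
    (fun x hx => by
      show evalAt w c hc (famMap (K := K) w e x) = 0
      rw [(mem_famIdeal w e).mp hx, map_zero])

theorem specialize_mk (c : K) (hc : c ≠ 0) (x : MvPolynomial (Below w) (Polynomial K)) :
    specialize w e c hc (famMk w e x) = evalAt w c hc (famMap (K := K) w e x) := rfl

theorem specialize_gen (c : K) (hc : c ≠ 0) (θ : Below w) :
    specialize w e c hc (famGen w e θ) = Ideal.Quotient.mk (plIdeal K w) (X θ.1) *
      algebraMap K (PlRing K d n ⧸ plIdeal K w) (c ^ e θ) := by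
  rw [famGen, specialize_mk, famMap_X, evalAt_C_mul_T]

theorem smulPoly (r : Polynomial K) (z : Fam K w e) :
    r • z = algebraMap (Polynomial K) (Fam K w e) r * z :=
  Algebra.smul_def r z

theorem smulBase (r : K) (z : PlRing K d n ⧸ plIdeal K w) :
    r • z = algebraMap K (PlRing K d n ⧸ plIdeal K w) r * z :=
  Algebra.smul_def r z

theorem smulFibre (r : K) (z : Fam K w e ⧸ Ideal.span {algebraMap (Polynomial K) (Fam K w e) Polynomial.X}) :
    r • z = Ideal.Quotient.mk _ (algebraMap (Polynomial K) (Fam K w e) (Polynomial.C r)) * z :=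
  Algebra.smul_def r z

theorem specialize_smul (c : K) (hc : c ≠ 0) (p : Polynomial K) (z : Fam K w e) :
    specialize w e c hc (p • z) = p.eval c • specialize w e c hc z := by
  obtain ⟨x, rfl⟩ := famMk_surjective w e z
  rw [smulPoly, map_mul, smulBase]
  congr 1
  rw [show algebraMap (Polynomial K) (Fam K w e) p = famMk w e (C p) from ((famMk w e).commutes p).symm,
    specialize_mk]
  induction p using Polynomial.induction_on' with
  | add p q hp hq => simp only [map_add, Polynomial.eval_add, hp, hq]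
  | monomial i a =>
    rw [← Polynomial.C_mul_X_pow_eq_monomial, map_mul, map_mul, map_pow, map_pow, famMap_t,
      show famMap (K := K) w e (C (Polynomial.C a)) =
        LaurentPolynomial.C (algebraMap K (PlRing K d n ⧸ plIdeal K w) a) from (famMap w e).commutes a,
      LaurentPolynomial.T_pow, mul_one, evalAt_C_mul_T, zpow_natCast,
      Polynomial.eval_mul, Polynomial.eval_C, Polynomial.eval_pow, Polynomial.eval_X,
      map_mul]

theorem specialize_surjective (c : K) (hc : c ≠ 0) : Function.Surjective (specialize w e c hc) := by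
  intro y
  obtain ⟨f, rfl⟩ := Ideal.Quotient.mk_surjective y
  induction f using MvPolynomial.induction_on with
  | C a => exact ⟨algebraMap K _ a, (specialize w e c hc).commutes a⟩
  | add p q hp hq =>
    obtain ⟨x, hx⟩ := hp
    obtain ⟨y, hy⟩ := hq
    exact ⟨x + y, by rw [map_add, map_add, hx, hy]⟩
  | mul_X p θ hp =>
    obtain ⟨x, hx⟩ := hp
    by_cases hθ : θ ≤ w
    · refine ⟨x * ((c ^ (-e ⟨θ, hθ⟩)) • famGen w e ⟨θ, hθ⟩), ?_⟩
      rw [map_mul, map_mul, hx, map_smul, specialize_gen, smulBase]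
      rw [mul_left_comm (algebraMap K (PlRing K d n ⧸ plIdeal K w) _), ← map_mul, ← zpow_add₀ hc, neg_add_cancel,
        zpow_zero, map_one, mul_one]
    · refine ⟨0, ?_⟩
      rw [map_zero, map_mul, Ideal.Quotient.eq_zero_iff_mem.mpr (X_mem_plIdeal hθ), mul_zero]

variable {w e}

theorem ker_specialize [Infinite K] (hd : 0 < d) (hdn : d ≤ n) (hL : Law K w e L) (c : K) (hc : c ≠ 0) :
    RingHom.ker (specialize w e c hc) =
      Ideal.span {algebraMap (Polynomial K) (Fam K w e) (Polynomial.X - Polynomial.C c)} := by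
  set u := Units.map (algebraMap K (PlRing K d n ⧸ plIdeal K w)).toMonoidHom (Units.mk0 c hc) with hu
  refine le_antisymm (fun z hz => ?_) ?_
  · rw [RingHom.mem_ker] at hz
    let r := (famBasis hd hdn hL).repr z
    have hzr : z = ∑ i ∈ r.support, r i • ∏ k, famGen (K := K) w e (i.2.1 k) := by
      conv_lhs => rw [← (famBasis hd hdn hL).linearCombination_repr z]
      rw [Finsupp.linearCombination_apply, Finsupp.sum]
      simp only [famBasis_apply]
      rfl
    have hprod : ∀ i : BChain w, specialize w e c hc (∏ k, famGen (K := K) w e (i.2.1 k)) =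
        (c ^ (∑ k, e (i.2.1 k))) • Ideal.Quotient.mk (plIdeal K w) (chainMon K fun k => (i.2.1 k).1) := by
      intro i
      rw [map_prod, smulBase, chainMon, map_prod, mul_comm (algebraMap _ _ _)]
      simp only [specialize_gen, Finset.prod_mul_distrib]
      congr 1
      rw [← map_prod]
      congr 1
      induction (Finset.univ : Finset (Fin i.1)) using Finset.induction_on with
      | empty => simp
      | insert k s hk ih => rw [Finset.prod_insert hk, Finset.sum_insert hk, zpow_add₀ hc, ih]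
    have h0 : ∑ i ∈ r.support, ((r i).eval c * c ^ (∑ k, e (i.2.1 k))) •
        Ideal.Quotient.mk (plIdeal K w) (chainMon K fun k => (i.2.1 k).1) = 0 := by
      rw [← hz, hzr, map_sum]
      refine Finset.sum_congr rfl fun i _ => ?_
      rw [specialize_smul, hprod, smul_smul]
    rw [hzr]
    refine Ideal.sum_mem _ fun i hi => ?_
    have h1 := linearIndependent_iff'.mp (chain_li (K := K) w hd hdn) _ _ h0 i hi
    obtain ⟨q, hq⟩ := (Polynomial.dvd_iff_isRoot (p := r i) (a := c)).mpr
      ((mul_eq_zero.mp h1).resolve_right (zpow_ne_zero _ hc))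
    rw [hq, Algebra.smul_def, map_mul, mul_assoc]
    exact Ideal.mul_mem_right _ _ (Ideal.subset_span rfl)
  · rw [Ideal.span_le]
    rintro _ rfl
    show specialize w e c hc _ = 0
    rw [Algebra.algebraMap_eq_smul_one, specialize_smul]
    simp

/-- The fibre at a nonzero parameter. -/
theorem fiber_ne [Infinite K] (hd : 0 < d) (hdn : d ≤ n) (hL : Law K w e L) (c : K) (hc : c ≠ 0) :
    Nonempty ((Fam K w e ⧸ Ideal.span {algebraMap (Polynomial K) (Fam K w e) (Polynomial.X - Polynomial.C c)})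
      ≃ₐ[K] (PlRing K d n ⧸ schubertVanishing K d n w)) :=
  ⟨((Ideal.quotientEquivAlgOfEq K (ker_specialize hd hdn hL c hc).symm).trans
    (Ideal.quotientKerAlgEquivOfSurjective (specialize_surjective w e c hc))).trans
    (Ideal.quotientEquivAlgOfEq K (schubertVanishing_eq (K := K) hd hdn w).symm)⟩

variable (w e) in
/-- The map to the special fibre. -/
noncomputable def toFibre₀ : MvPolynomial (Below w) K →ₐ[K]
    Fam K w e ⧸ Ideal.span {algebraMap (Polynomial K) (Fam K w e) Polynomial.X} :=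
  MvPolynomial.aeval fun θ => Ideal.Quotient.mk _ (famGen w e θ)

theorem toFibre₀_surjective : Function.Surjective (toFibre₀ (K := K) w e) := by
  intro y
  obtain ⟨z, rfl⟩ := Ideal.Quotient.mk_surjective y
  obtain ⟨x, rfl⟩ := famMk_surjective w e z
  induction x using MvPolynomial.induction_on with
  | C p =>
    refine ⟨C (p.coeff 0), ?_⟩
    rw [show toFibre₀ w e (C (p.coeff 0)) = _ from (toFibre₀ w e).commutes (p.coeff 0),
      show famMk w e (C p) = algebraMap (Polynomial K) (Fam K w e) p from (famMk w e).commutes p,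
      show algebraMap K (Fam K w e ⧸ Ideal.span {algebraMap (Polynomial K) (Fam K w e) Polynomial.X}) (p.coeff 0) =
        Ideal.Quotient.mk _ (algebraMap (Polynomial K) (Fam K w e) (Polynomial.C (p.coeff 0))) from rfl,
      Ideal.Quotient.eq, ← map_sub]
    obtain ⟨q, hq⟩ := (Polynomial.X_dvd_iff (f := Polynomial.C (p.coeff 0) - p)).mpr (by simp)
    rw [hq, map_mul]
    exact Ideal.mul_mem_right _ _ (Ideal.subset_span rfl)
  | add p q hp hq =>
    obtain ⟨a, ha⟩ := hp
    obtain ⟨b, hb⟩ := hq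
    exact ⟨a + b, by rw [map_add, map_add, map_add, ha, hb]⟩
  | mul_X p θ hp =>
    obtain ⟨a, ha⟩ := hp
    refine ⟨a * X θ, ?_⟩
    rw [map_mul, map_mul, map_mul, ha]
    congr 1
    exact MvPolynomial.aeval_X _ θ

theorem toFibre₀_lead {f : MvPolynomial (Below w) K} (hf : IsLead w e f) : toFibre₀ (K := K) w e f = 0 := by
  obtain ⟨a, b, s, co, hrel, hle, rfl⟩ := hf
  rw [map_sub, map_mul, map_sum, sub_eq_zero]
  simp only [map_smul, map_mul, toFibre₀, MvPolynomial.aeval_X]
  rw [← map_mul (Ideal.Quotient.mk _), fam_rel w e a b s co hrel hle, map_sum, Finset.sum_filter]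
  refine Finset.sum_congr rfl fun p hp => ?_
  rw [smulPoly, map_mul, map_mul]
  split_ifs with h
  · rw [show (e a + e b - e p.1 - e p.2).toNat = 0 by omega, pow_zero, map_one, mul_one, smulFibre, map_mul]
  · have hle' := hle p hp
    obtain ⟨k, hk⟩ : ∃ k, (e a + e b - e p.1 - e p.2).toNat = k + 1 :=
      ⟨(e a + e b - e p.1 - e p.2).toNat - 1, by omega⟩
    rw [hk, pow_succ, map_mul, map_mul, map_mul,
      Ideal.Quotient.eq_zero_iff_mem.mpr (Ideal.subset_span (Set.mem_singleton
        (algebraMap (Polynomial K) (Fam K w e) Polynomial.X)))]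
    simp

theorem ker_toFibre₀ [Infinite K] (hd : 0 < d) (hdn : d ≤ n) (hL : Law K w e L) :
    RingHom.ker (toFibre₀ (K := K) w e) = L := by
  refine le_antisymm (fun x hx => ?_) (hL.gen.trans (Ideal.span_le.mpr fun f hf => toFibre₀_lead hf))
  rw [RingHom.mem_ker] at hx
  have hkill : ∀ f ∈ L, toFibre₀ (K := K) w e f = 0 := fun f hf =>
    RingHom.mem_ker.mp ((hL.gen.trans (Ideal.span_le.mpr fun f hf => toFibre₀_lead hf)) hf)
  set y : Below w → MvPolynomial (Below w) K ⧸ L := fun θ => Ideal.Quotient.mk L (X θ) with hy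
  have hmk : Ideal.Quotient.mkₐ K L = MvPolynomial.aeval y :=
    MvPolynomial.algHom_ext fun θ => (MvPolynomial.aeval_X y θ).symm
  have hspan := mem_span_generic (S := K) w y (by
      rw [Algebra.adjoin_range_eq_range_aeval, ← hmk, AlgHom.range_eq_top]
      exact Ideal.Quotient.mkₐ_surjective K L)
    (fun a b hab hba => ?_) (Ideal.Quotient.mk L x)
  swap
  · obtain ⟨s, co, -, hs, hmem⟩ := hL.straighten a b hab hba
    rw [← Ideal.Quotient.eq_zero_iff_mem, ← Ideal.Quotient.mkₐ_eq_mk K, map_sub, map_mul, map_sum,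
      sub_eq_zero] at hmem
    simp only [Ideal.Quotient.mkₐ_eq_mk] at hmem
    rw [hy, hmem]
    refine Submodule.sum_mem _ fun p hp => ?_
    rw [← Ideal.Quotient.mkₐ_eq_mk K, map_smul, map_mul]
    exact Submodule.smul_mem _ _ (Submodule.subset_span
      ⟨p.1, p.2, (hs p (Finset.mem_filter.mp hp).1).1, (hs p (Finset.mem_filter.mp hp).1).2.1, rfl⟩)
  obtain ⟨g, hg⟩ := (Finsupp.mem_span_range_iff_exists_finsupp).mp hspan
  suffices hg0 : g = 0 by
    rw [← Ideal.Quotient.eq_zero_iff_mem, ← hg, hg0, Finsupp.sum_zero_index]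
  have hx' : x - (g.sum fun c a => a • ∏ k, (X (c.2.1 k) : MvPolynomial (Below w) K)) ∈ L := by
    rw [← Ideal.Quotient.eq, ← hg, ← Ideal.Quotient.mkₐ_eq_mk K, map_finsuppSum]
    simp only [map_smul, map_prod]
    rfl
  have h1 := hkill _ hx'
  rw [map_sub, hx, zero_sub, neg_eq_zero, map_finsuppSum] at h1
  simp only [map_smul, map_prod, toFibre₀, MvPolynomial.aeval_X] at h1
  let G : BChain w →₀ Polynomial K := g.mapRange Polynomial.C (map_zero _)
  have h2 : Ideal.Quotient.mk (Ideal.span {algebraMap (Polynomial K) (Fam K w e) Polynomial.X})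
      (Finsupp.linearCombination (Polynomial K) (famBasis hd hdn hL) G) = 0 := by
    rw [Finsupp.linearCombination_apply, show G = g.mapRange Polynomial.C (map_zero _) from rfl,
      Finsupp.sum_mapRange_index (h := fun i a => a • famBasis hd hdn hL i) (fun c => zero_smul (Polynomial K) _),
      map_finsuppSum]
    rw [← h1]
    refine Finsupp.sum_congr fun c _ => ?_
    rw [famBasis_apply, smulPoly, map_mul, map_prod, smulFibre]
  rw [Ideal.Quotient.eq_zero_iff_mem, Ideal.mem_span_singleton'] at h2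
  obtain ⟨z, hz⟩ := h2
  have h3 := congrArg (famBasis hd hdn hL).repr hz
  rw [Module.Basis.repr_linearCombination, mul_comm, ← Algebra.smul_def, map_smul] at h3
  refine Finsupp.ext fun c => ?_
  have h4 := congrArg (fun p : Polynomial K => p.coeff 0) (DFunLike.congr_fun h3 c)
  simp only [Finsupp.smul_apply, smul_eq_mul, Polynomial.coeff_X_mul_zero, G, Finsupp.mapRange_apply,
    Polynomial.coeff_C_zero] at h4
  exact h4.symm

/-- The fibre at zero. -/
theorem fiber_zero [Infinite K] (hd : 0 < d) (hdn : d ≤ n) (hL : Law K w e L) :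
    Nonempty ((Fam K w e ⧸ Ideal.span {algebraMap (Polynomial K) (Fam K w e) Polynomial.X})
      ≃ₐ[K] (MvPolynomial (Below w) K ⧸ L)) :=
  ⟨((Ideal.quotientEquivAlgOfEq K (ker_toFibre₀ hd hdn hL).symm).trans
    (Ideal.quotientKerAlgEquivOfSurjective toFibre₀_surjective)).symm⟩

end fibre

theorem exists_family [Infinite K] (hd : 0 < d) (hdn : d ≤ n) (hL : Law K w e L) :
    ∃ (R : Type u) (_ : CommRing R) (_ : Algebra K R) (_ : Algebra (Polynomial K) R)
      (_ : IsScalarTower K (Polynomial K) R),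
      Module.Free (Polynomial K) R ∧
      Nonempty ((R ⧸ Ideal.span {algebraMap (Polynomial K) R Polynomial.X}) ≃ₐ[K]
        (MvPolynomial (Below w) K ⧸ L)) ∧
      ∀ c : K, c ≠ 0 →
        Nonempty ((R ⧸ Ideal.span {algebraMap (Polynomial K) R (Polynomial.X - Polynomial.C c)}) ≃ₐ[K]
          (PlRing K d n ⧸ schubertVanishing K d n w)) :=
  ⟨Fam K w e, inferInstance, inferInstance, inferInstance, instTowerFam w e,
    Module.Free.of_basis (famBasis hd hdn hL), fiber_zero hd hdn hL, fun c hc => fiber_ne hd hdn hL c hc⟩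

theorem om_sup_add_inf (a b : Below w) :
    om (Below.sup a b).1 + om (Below.inf a b).1 = om a.1 + om b.1 := by
  simp only [om, ← Finset.sum_add_distrib]
  refine Finset.sum_congr rfl fun t _ => ?_
  have : ((Below.sup a b).1.1 t).val + ((Below.inf a b).1.1 t).val = (a.1.1 t).val + (b.1.1 t).val := by
    show (max (a.1.1 t) (b.1.1 t)).val + (min (a.1.1 t) (b.1.1 t)).val = _
    rcases le_total (a.1.1 t) (b.1.1 t) with h | h
    · rw [max_eq_right h, min_eq_left h, add_comm]
    · rw [max_eq_left h, min_eq_right h]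
  rw [← mul_add, this, mul_add]

theorem sup_inf_of_le {a b : Below w} (h : a ≤ b) : Below.sup a b = b ∧ Below.inf a b = a :=
  ⟨Subtype.ext (Subtype.ext (funext fun t => max_eq_right (h t))),
    Subtype.ext (Subtype.ext (funext fun t => min_eq_left (h t)))⟩

theorem sup_inf_of_ge {a b : Below w} (h : b ≤ a) : Below.sup a b = a ∧ Below.inf a b = b :=
  ⟨Subtype.ext (Subtype.ext (funext fun t => max_eq_left (h t))),
    Subtype.ext (Subtype.ext (funext fun t => min_eq_right (h t)))⟩

variable (w)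

theorem law_hibi (hd : 0 < d) (hdn : d ≤ n) :
    Law K w (fun θ => (om θ.1 : ℤ)) (hibiIdeal K w) := by
  classical
  have key : ∀ a b : Below w, ¬ a ≤ b → ¬ b ≤ a →
      ∃ (s : Finset (Below w × Below w)) (co : Below w × Below w → K),
        X a.1 * X b.1 - ∑ p ∈ s, co p • (X p.1.1 * X p.2.1) ∈ plIdeal K w ∧
        (∀ p ∈ s, wt a.1 < wt p.1.1 ∧ wt b.1 < wt p.1.1 ∧
          (om p.1.1 : ℤ) + om p.2.1 ≤ om a.1 + om b.1) ∧
        ∑ p ∈ s.filter (fun p => (om p.1.1 : ℤ) + om p.2.1 = om a.1 + om b.1),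
          co p • (X p.1 * X p.2 : MvPolynomial (Below w) K) = X (Below.sup a b) * X (Below.inf a b) := by
    intro a b hab hba
    obtain ⟨s, co, hrel, hs, hmem, hone⟩ := below_law (K := K) hd hdn w a b hab hba
    refine ⟨s, co, hrel, fun p hp => ⟨(hs p hp).1, (hs p hp).2.1, by exact_mod_cast (hs p hp).2.2.1⟩, ?_⟩
    have hom := om_sup_add_inf a b
    rw [Finset.sum_eq_single (Below.sup a b, Below.inf a b), hone, one_smul]
    · intro p hp hne
      exact absurd ((hs p (Finset.mem_filter.mp hp).1).2.2.2 (by exact_mod_cast (Finset.mem_filter.mp hp).2)) hne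
    · intro h
      exact absurd (Finset.mem_filter.mpr ⟨hmem, by exact_mod_cast hom⟩) h
  refine ⟨fun a b hab hba => ?_, ?_⟩
  · obtain ⟨s, co, h1, h2, h3⟩ := key a b hab hba
    refine ⟨s, co, h1, h2, ?_⟩
    rw [h3]
    exact Ideal.subset_span ⟨a, b, rfl⟩
  · rw [hibiIdeal, Ideal.span_le]
    rintro f ⟨a, b, rfl⟩
    by_cases hab : a ≤ b
    · rw [(sup_inf_of_le hab).1, (sup_inf_of_le hab).2, mul_comm, sub_self]; exact zero_mem _
    by_cases hba : b ≤ a
    · rw [(sup_inf_of_ge hba).1, (sup_inf_of_ge hba).2, sub_self]; exact zero_mem _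
    obtain ⟨s, co, h1, h2, h3⟩ := key a b hab hba
    exact Ideal.subset_span ⟨a, b, s, co, h1, fun p hp => (h2 p hp).2.2, by rw [h3]⟩

theorem law_sr (hd : 0 < d) (hdn : d ≤ n) :
    Law K w (fun θ => -(3 ^ wt θ.1 : ℤ)) (srIdeal K w) := by
  classical
  have key : ∀ a b : Below w, ¬ a ≤ b → ¬ b ≤ a →
      ∃ (s : Finset (Below w × Below w)) (co : Below w × Below w → K),
        X a.1 * X b.1 - ∑ p ∈ s, co p • (X p.1.1 * X p.2.1) ∈ plIdeal K w ∧
        (∀ p ∈ s, wt a.1 < wt p.1.1 ∧ wt b.1 < wt p.1.1 ∧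
          -(3 ^ wt p.1.1 : ℤ) + -(3 ^ wt p.2.1) < -(3 ^ wt a.1) + -(3 ^ wt b.1)) := by
    intro a b hab hba
    obtain ⟨s, co, hrel, hs, -, -⟩ := below_law (K := K) hd hdn w a b hab hba
    refine ⟨s, co, hrel, fun p hp => ⟨(hs p hp).1, (hs p hp).2.1, ?_⟩⟩
    have g1 : (3 : ℤ) * 3 ^ wt a.1 ≤ 3 ^ wt p.1.1 := by
      rw [← pow_succ']; exact pow_le_pow_right₀ (by norm_num) (hs p hp).1
    have g2 : (3 : ℤ) * 3 ^ wt b.1 ≤ 3 ^ wt p.1.1 := by
      rw [← pow_succ']; exact pow_le_pow_right₀ (by norm_num) (hs p hp).2.1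
    have g3 : (0 : ℤ) < 3 ^ wt a.1 := by positivity
    have g4 : (0 : ℤ) < 3 ^ wt b.1 := by positivity
    have g5 : (0 : ℤ) < 3 ^ wt p.2.1 := by positivity
    linarith
  have hfil : ∀ (a b : Below w) (s : Finset (Below w × Below w)) (co : Below w × Below w → K),
      (∀ p ∈ s, wt a.1 < wt p.1.1 ∧ wt b.1 < wt p.1.1 ∧
          -(3 ^ wt p.1.1 : ℤ) + -(3 ^ wt p.2.1) < -(3 ^ wt a.1) + -(3 ^ wt b.1)) →
      ∑ p ∈ s.filter (fun p => -(3 ^ wt p.1.1 : ℤ) + -(3 ^ wt p.2.1) = -(3 ^ wt a.1) + -(3 ^ wt b.1)),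
          co p • (X p.1 * X p.2 : MvPolynomial (Below w) K) = 0 := by
    intro a b s co h
    rw [Finset.filter_eq_empty_iff.mpr fun p hp => ne_of_lt (h p hp).2.2, Finset.sum_empty]
  refine ⟨fun a b hab hba => ?_, ?_⟩
  · obtain ⟨s, co, h1, h2⟩ := key a b hab hba
    refine ⟨s, co, h1, fun p hp => ⟨(h2 p hp).1, (h2 p hp).2.1, (h2 p hp).2.2.le⟩, ?_⟩
    rw [hfil a b s co h2, sub_zero]
    exact Ideal.subset_span ⟨a, b, hab, hba, rfl⟩
  · rw [srIdeal, Ideal.span_le]
    rintro f ⟨a, b, hab, hba, rfl⟩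
    obtain ⟨s, co, h1, h2⟩ := key a b hab hba
    exact Ideal.subset_span ⟨a, b, s, co, h1, fun p hp => (h2 p hp).2.2.le, by rw [hfil a b s co h2, sub_zero]⟩

end Groth.L14.SMT
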