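import Groth.Agent.L14.SMT.BigCell

/-!
Ideals of minors as kernels of multiplication maps, and standard bitableaux.
-/

open MvPolynomial W4bk4grassmannian Finset

namespace Groth.L14.SMT

universe u

theorem eval_smul_hom {K : Type u} [CommRing K] {σ : Type*} {F : MvPolynomial σ K} {D : ℕ}
    (hF : F.IsHomogeneous D) (a : K) (g : σ → K) :
    MvPolynomial.eval (fun x => a * g x) F = a ^ D * MvPolynomial.eval g F := by
  rw [MvPolynomial.eval_eq, MvPolynomial.eval_eq, Finset.mul_sum]
  refine Finset.sum_congr rfl fun e he => ?_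
  have hD : ∑ i ∈ e.support, e i = D := by
    rw [← hF (MvPolynomial.mem_support_iff.mp he)]
    simp [Finsupp.weight_apply, Finsupp.sum]
  simp only [mul_pow, Finset.prod_mul_distrib, Finset.prod_pow_eq_pow_sum, hD]
  ring

theorem isHomogeneous_chainMon {K : Type u} [CommRing K] {d n m : ℕ} (c : Fin m → Idx d n) :
    (chainMon K c).IsHomogeneous m := by
  simpa [chainMon] using MvPolynomial.IsHomogeneous.prod (univ : Finset (Fin m))
    (fun k => (X (c k) : PlRing K d n)) (fun _ => 1) fun k _ => isHomogeneous_X K (c k)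

variable {K : Type u} [Field K] {d r : ℕ}

theorem exists_hom_lift (f : CellRing K d r) :
    ∃ (D : ℕ) (F : PlRing K d (d + r)), F.IsHomogeneous D ∧ bigMap F = f := by
  obtain ⟨G, hG⟩ := bigMap_surjective (K := K) f
  refine ⟨G.totalDegree, ∑ i ∈ range (G.totalDegree + 1),
    X (botIdx (Nat.le_add_right d r)) ^ (G.totalDegree - i) * homogeneousComponent i G, ?_, ?_⟩
  · refine IsHomogeneous.sum _ _ _ fun i hi => ?_
    have h := ((isHomogeneous_X K (botIdx (Nat.le_add_right d r))).pow (G.totalDegree - i)).mul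
      (homogeneousComponent_isHomogeneous i G)
    rw [one_mul, Nat.sub_add_cancel (Nat.lt_succ_iff.mp (mem_range.mp hi))] at h
    exact h
  · rw [map_sum]
    simp only [map_mul, map_pow, bigMap_bot, one_pow, one_mul]
    rw [← map_sum, sum_homogeneousComponent, hG]

theorem bot_mul_mem_of_le [Infinite K] {s : ℕ} (hd : 0 < d) (hsd : s ≤ d) (hsr : s ≤ r) (F : PlRing K d (d + r)) (D : ℕ)
    (hF : F.IsHomogeneous D) (w : Idx d (d + r)) (hw : w ≤ rankIdx hsd hsr)
    (h : ∀ (U : Fin r → Fin s → K) (W : Fin s → Fin d → K),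
      (∀ θ : Idx d (d + r), ¬ θ ≤ w →
        MvPolynomial.eval (fun p : Fin r × Fin d => ∑ k, U p.1 k * W k p.2) (bigMap (X θ)) = 0) →
      MvPolynomial.eval (fun p : Fin r × Fin d => ∑ k, U p.1 k * W k p.2) (bigMap F) = 0) :
    X (botIdx (Nat.le_add_right d r)) * F ∈ plIdeal K w := by
  classical
  have hdn : d ≤ d + r := Nat.le_add_right d r
  rw [← ker_proj_bot hd hdn w]
  show proj (botIdx hdn) w (X (botIdx hdn) * F) = 0
  refine MvPolynomial.funext fun p => ?_
  rw [map_zero]
  set A : Matrix (Fin (d + r)) (Fin d) K :=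
    (zmat (K := K) (botIdx hdn) w).map (MvPolynomial.eval p) with hA
  have hev : ∀ G : PlRing K d (d + r), MvPolynomial.eval p (proj (botIdx hdn) w G) =
      MvPolynomial.eval (fun θ : Idx d (d + r) => (A.submatrix θ.1 id).det) G := by
    intro G
    induction G using MvPolynomial.induction_on with
    | C a => rw [show proj (botIdx hdn) w (C a) = C a from AlgHom.commutes _ a]; simp
    | add x y hx hy => rw [map_add, map_add, hx, hy, map_add]
    | mul_X x θ hx =>
      rw [map_mul, map_mul, hx, map_mul, proj_X, eval_X, RingHom.map_det]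
      rfl
  rw [hev, map_mul, eval_X]
  set P : Matrix (Fin d) (Fin d) K := A.submatrix (botIdx hdn).1 id with hP
  by_cases hdet : P.det = 0
  · rw [hdet, zero_mul]
  set B : Matrix (Fin (d + r)) (Fin d) K := A * P⁻¹ with hB
  have hBA : A = B * P := by
    rw [hB, Matrix.mul_assoc, Matrix.nonsing_inv_mul P (isUnit_iff_ne_zero.mpr hdet), Matrix.mul_one]
  let Z : Fin r × Fin d → K := fun q => B ⟨d + (r - 1 - q.1.val), by omega⟩ q.2
  have htop : B.submatrix (botIdx hdn).1 id = 1 := by
    rw [hB, Matrix.submatrix_mul A P⁻¹ _ id id Function.bijective_id, Matrix.submatrix_id_id, ← hP,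
      Matrix.mul_nonsing_inv P (isUnit_iff_ne_zero.mpr hdet)]
  have hBbig : B = (bigMat (K := K)).map (MvPolynomial.eval Z) := by
    refine Matrix.ext fun i j => ?_
    rw [Matrix.map_apply, bigMat, Matrix.of_apply]
    by_cases hi : i.val < d
    · rw [dif_pos hi]
      have := congrFun (congrFun htop ⟨i.val, hi⟩) j
      rw [Matrix.submatrix_apply, Matrix.one_apply] at this
      refine Eq.trans (show B i j = _ from this) ?_
      simp only [Fin.ext_iff]
      split_ifs <;> simp
    · rw [dif_neg hi, eval_X]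
      show B i j = B ⟨d + (r - 1 - (r - 1 - (i.val - d))), _⟩ j
      congr 1
      refine Fin.ext ?_
      show i.val = d + (r - 1 - (r - 1 - (i.val - d)))
      have := i.isLt
      omega
  have hminors : ∀ θ : Idx d (d + r),
      (A.submatrix θ.1 id).det = P.det * MvPolynomial.eval Z (bigMap (X θ)) := by
    intro θ
    rw [hBA, Matrix.submatrix_mul B P θ.1 id id Function.bijective_id, Matrix.det_mul, Matrix.submatrix_id_id,
      mul_comm, bigMap_X, RingHom.map_det, hBbig]
    rfl
  have hFv : MvPolynomial.eval (fun θ : Idx d (d + r) => (A.submatrix θ.1 id).det) F =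
      P.det ^ D * MvPolynomial.eval Z (bigMap F) := by
    rw [_root_.funext hminors, eval_smul_hom hF]
    congr 1
    clear hF h
    induction F using MvPolynomial.induction_on with
    | C a => rw [show bigMap (C a) = C a from AlgHom.commutes _ a]; simp
    | add x y hx hy => rw [map_add, map_add, map_add, hx, hy]
    | mul_X x θ hx => rw [map_mul, map_mul, map_mul, hx, eval_X]
  let ι : Fin s ↪ Fin d := ⟨fun k => ⟨d - s + k.val, by omega⟩, fun a b hab => Fin.ext (by
    simp only [Fin.ext_iff] at hab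
    omega)⟩
  have hlow : Z = fun q : Fin r × Fin d =>
      ∑ k, A ⟨d + (r - 1 - q.1.val), by omega⟩ (ι k) * P⁻¹ (ι k) q.2 := by
    funext q
    show (A * P⁻¹) _ q.2 = _
    rw [Matrix.mul_apply, ← Finset.sum_map univ ι (fun t => A _ t * P⁻¹ t q.2)]
    refine (Finset.sum_subset (Finset.subset_univ _) fun t _ ht => ?_).symm
    have htlt : t.val < d - s := by
      by_contra hc
      exact ht (Finset.mem_map.mpr ⟨⟨t.val - (d - s), by omega⟩, mem_univ _, Fin.ext (by
        show d - s + (t.val - (d - s)) = t.val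
        omega)⟩)
    rw [hA, Matrix.map_apply, zmat, Matrix.of_apply, if_neg, map_zero, zero_mul]
    rintro ⟨-, h2⟩
    replace h2 := le_trans h2 (hw t)
    rw [Fin.le_def] at h2
    simp only [rankIdx, if_pos htlt] at h2
    omega
  rw [hFv, hlow, h (fun a k => A ⟨d + (r - 1 - a.val), by omega⟩ (ι k)) (fun k j => P⁻¹ (ι k) j) ?_, mul_zero,
    mul_zero]
  intro θ hθ
  have h0 := hminors θ
  rw [hlow] at h0
  refine (mul_eq_zero.mp (h0.symm.trans ?_)).resolve_left hdet
  rw [show (A.submatrix θ.1 id).det = MvPolynomial.eval p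
      ((zmat (K := K) (botIdx hdn) w).submatrix θ.1 id).det by rw [hA, RingHom.map_det]; rfl,
    minor_eq_zero _ _ _ (fun hh => hθ hh.2), map_zero]

theorem bot_mul_mem [Infinite K] {s : ℕ} (hd : 0 < d) (hsd : s ≤ d) (hsr : s ≤ r) (F : PlRing K d (d + r)) (D : ℕ)
    (hF : F.IsHomogeneous D)
    (h : ∀ (U : Fin r → Fin s → K) (W : Fin s → Fin d → K),
      MvPolynomial.eval (fun p : Fin r × Fin d => ∑ k, U p.1 k * W k p.2) (bigMap F) = 0) :
    X (botIdx (Nat.le_add_right d r)) * F ∈ plIdeal K (rankIdx hsd hsr) :=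
  bot_mul_mem_of_le hd hsd hsr F D hF _ le_rfl fun U W _ => h U W

theorem mem_minorIdeal_of_vanish [Infinite K] {s : ℕ} (hd : 0 < d) (hsd : s ≤ d) (hsr : s ≤ r)
    (f : CellRing K d r)
    (h : ∀ (U : Fin r → Fin s → K) (W : Fin s → Fin d → K),
      MvPolynomial.eval (fun p : Fin r × Fin d => ∑ k, U p.1 k * W k p.2) f = 0) :
    f ∈ CAlgX.minorIdeal (genMatrix K r d) (s + 1) := by
  obtain ⟨D, F, hF, rfl⟩ := exists_hom_lift f
  have h2 := bigMap_plIdeal hsd hsr _ (bot_mul_mem hd hsd hsr F D hF h)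
  rwa [map_mul, bigMap_bot, one_mul] at h2

theorem pairingMap_eval {m n q : ℕ} (U : Fin m → Fin n → K) (W : Fin n → Fin q → K)
    (f : MvPolynomial (Fin m × Fin q) K) :
    MvPolynomial.eval (Sum.elim (fun p => U p.1 p.2) (fun p => W p.1 p.2)) (pairingMap K n m q f) =
      MvPolynomial.eval (fun p : Fin m × Fin q => ∑ k, U p.1 k * W k p.2) f := by
  induction f using MvPolynomial.induction_on with
  | C a => rw [show pairingMap K n m q (C a) = C a from AlgHom.commutes _ a]; simp
  | add x y hx hy => simp only [map_add, hx, hy]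
  | mul_X x p hx =>
    simp only [map_mul, hx, eval_X]
    congr 1
    simp [pairingMap, map_sum]

theorem minorIdeal_le_ker_pairing (m n q : ℕ) :
    CAlgX.minorIdeal (genMatrix K m q) (n + 1) ≤ RingHom.ker (pairingMap K n m q).toRingHom := by
  classical
  rw [CAlgX.minorIdeal, Ideal.span_le]
  rintro _ ⟨⟨f, g⟩, rfl⟩
  show pairingMap K n m q ((genMatrix K m q).submatrix f g).det = 0
  let U : Matrix (Fin (n + 1)) (Fin (n + 1)) (PairRing K n m q) := Matrix.of fun i =>
    Fin.cons 0 (fun k => X (Sum.inl (f i, k)))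
  let W : Matrix (Fin (n + 1)) (Fin (n + 1)) (PairRing K n m q) :=
    Matrix.of (Fin.cons (fun _ => 0) fun k j => X (Sum.inr (k, g j)))
  have h : (pairingMap K n m q).mapMatrix ((genMatrix K m q).submatrix f g) = U * W := by
    refine Matrix.ext fun i j => ?_
    rw [AlgHom.mapMatrix_apply, Matrix.map_apply, Matrix.mul_apply, Fin.sum_univ_succ]
    simp [U, W, genMatrix, pairingMap]
  rw [AlgHom.map_det, h, Matrix.det_mul, Matrix.det_eq_zero_of_column_eq_zero (A := U) 0 (fun i => rfl), zero_mul]

theorem ker_pairing_le [Infinite K] (m n q : ℕ) :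
    RingHom.ker (pairingMap K n m q).toRingHom ≤ CAlgX.minorIdeal (genMatrix K m q) (n + 1) := by
  intro f hf
  have hv : ∀ (U : Fin m → Fin n → K) (W : Fin n → Fin q → K),
      MvPolynomial.eval (fun p : Fin m × Fin q => ∑ k, U p.1 k * W k p.2) f = 0 := fun U W => by
    rw [← pairingMap_eval, show pairingMap K n m q f = 0 from hf, map_zero]
  by_cases hsmall : n < m ∧ n < q
  · exact mem_minorIdeal_of_vanish (by omega) hsmall.2.le hsmall.1.le f hv
  suffices f = 0 by rw [this]; exact zero_mem _
  refine MvPolynomial.funext fun Z => ?_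
  rw [map_zero]
  rw [not_and_or, not_lt, not_lt] at hsmall
  rcases hsmall with hm | hq
  · convert hv (fun i k => if k.val = i.val then 1 else 0)
      (fun k j => if hk : k.val < m then Z (⟨k.val, hk⟩, j) else 0) using 2
    refine congrArg _ (_root_.funext fun p => ?_)
    rw [Finset.sum_eq_single ⟨p.1.val, by omega⟩]
    · rw [if_pos rfl, dif_pos p.1.isLt, one_mul]
    · intro k _ hk
      rw [if_neg (fun h => hk (Fin.ext h)), zero_mul]
    · intro h; exact absurd (mem_univ _) h
  · convert hv (fun i k => if hk : k.val < q then Z (i, ⟨k.val, hk⟩) else 0)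
      (fun k j => if k.val = j.val then 1 else 0) using 2
    refine congrArg _ (_root_.funext fun p => ?_)
    rw [Finset.sum_eq_single ⟨p.2.val, by omega⟩]
    · rw [if_pos rfl, dif_pos p.2.isLt, mul_one]
    · intro k _ hk
      rw [if_neg (fun h => hk (Fin.ext h)), mul_zero]
    · intro h; exact absurd (mem_univ _) h

theorem ker_pairing_eq [Infinite K] (m n q : ℕ) :
    RingHom.ker (pairingMap K n m q).toRingHom = CAlgX.minorIdeal (genMatrix K m q) (n + 1) :=
  le_antisymm (ker_pairing_le m n q) (minorIdeal_le_ker_pairing m n q)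

/-- Standard products of minors of size at most `s`. -/
abbrev SBT (r d s : ℕ) : Type :=
  Σ k : ℕ, {c : Fin k → MinorIdx r d // (∀ i, (c i).1 + 1 ≤ s) ∧ ∀ i j, i < j → MinorGE (c i) (c j)}

/-- The value of a standard product in the determinantal ring. -/
noncomputable def sbtVal (K : Type u) [Field K] {r d : ℕ} (s : ℕ) (c : SBT r d s) :
    CellRing K d r ⧸ CAlgX.minorIdeal (genMatrix K r d) (s + 1) :=
  Ideal.Quotient.mk _ (∏ i, minorOf K (c.2.1 i))

theorem bigMap_chain {s : ℕ} (c : SBT r d s) (σ : Equiv.Perm (Fin c.1)) :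
    ∃ e : K, e * e = 1 ∧
      bigMap (chainMon K fun i => minorToIdx (c.2.1 (σ i))) = e • ∏ i, minorOf K (c.2.1 i) := by
  choose e he hM using fun i => bigMap_minor (K := K) (c.2.1 i)
  refine ⟨∏ i, e i, by rw [← Finset.prod_mul_distrib]; simp [he], ?_⟩
  rw [chainMon, map_prod, Equiv.prod_comp σ (fun i => bigMap (K := K) (X (minorToIdx (c.2.1 i))))]
  simp only [hM, MvPolynomial.smul_eq_C_mul, Finset.prod_mul_distrib, map_prod]

theorem minorGE_trans {m n : ℕ} {a b c : MinorIdx m n} (h1 : MinorGE a b) (h2 : MinorGE b c) : MinorGE a c :=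
  (minorGE_iff a c).mpr (le_trans ((minorGE_iff a b).mp h1) ((minorGE_iff b c).mp h2))

theorem sbt_span [Infinite K] (_hd : 0 < d) {s : ℕ} (hsd : s ≤ d) (hsr : s ≤ r) :
    Submodule.span K (Set.range (sbtVal K (r := r) (d := d) s)) = ⊤ := by
  classical
  set T := Submodule.span K (Set.range (sbtVal K (r := r) (d := d) s))
  set ψ : PlRing K d (d + r) →ₐ[K] CellRing K d r ⧸ CAlgX.minorIdeal (genMatrix K r d) (s + 1) :=
    (Ideal.Quotient.mkₐ K _).comp bigMap with hψ
  have hdn : d ≤ d + r := Nat.le_add_right d r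
  have hchain : ∀ (m : ℕ) (c : Fin m → Idx d (d + r)), Antitone c → (∀ k, c k ≤ rankIdx hsd hsr) →
      ψ (chainMon K c) ∈ T := by
    intro m c hc hle
    let M := ((univ : Finset (Fin m)).val.map c).filter fun θ => θ ≠ botIdx hdn
    obtain ⟨k, hk⟩ : ∃ k, Multiset.card M = k := ⟨_, rfl⟩
    obtain ⟨c', hc', hmem, hprod⟩ := chain_of_comparable' (fun θ => ψ (X θ)) k M hk (by
      intro a ha b hb
      obtain ⟨i, -, rfl⟩ := Multiset.mem_map.mp (Multiset.mem_filter.mp ha).1
      obtain ⟨j, -, rfl⟩ := Multiset.mem_map.mp (Multiset.mem_filter.mp hb).1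
      exact (le_total i j).elim (fun h => Or.inr (hc h)) fun h => Or.inl (hc h))
    have hcM : ψ (chainMon K c) = (M.map fun θ => ψ (X θ)).prod := by
      rw [chainMon, map_prod, Finset.prod_eq_multiset_prod,
        show (fun x => ψ (X (c x))) = (fun θ => ψ (X θ)) ∘ c from rfl,
        ← Multiset.map_map (fun θ => ψ (X θ)) c univ.val,
        ← Multiset.filter_add_not (fun θ => θ ≠ botIdx hdn) ((univ : Finset (Fin m)).val.map c), Multiset.map_add,
        Multiset.prod_add]
      convert mul_one _ using 2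
      refine Multiset.prod_eq_one fun x hx => ?_
      obtain ⟨θ, hθ, rfl⟩ := Multiset.mem_map.mp hx
      rw [not_not.mp (Multiset.mem_filter.mp hθ).2]
      simp [ψ, bigMap_bot]
    rw [hcM, ← hprod]
    choose M' hM' using fun i => exists_minor_of_ne_bot (c' i) (Multiset.mem_filter.mp (hmem i)).2
    have hsize : ∀ i, (M' i).1 + 1 ≤ s := fun i => by
      rw [← minorToIdx_le_rankIdx_iff hsd hsr, hM']
      obtain ⟨j, -, hj⟩ := Multiset.mem_map.mp (Multiset.mem_filter.mp (hmem i)).1
      rw [← hj]; exact hle j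
    let cc : SBT r d s := ⟨k, fun i => M' (Fin.rev i), fun i => hsize _, fun i j hij =>
      (minorGE_iff _ _).mpr (by rw [hM', hM']; exact hc' (Fin.rev_le_rev.mpr hij.le))⟩
    obtain ⟨e, he, hval⟩ := bigMap_chain (K := K) cc Fin.revPerm
    have : ∏ i, ψ (X (c' i)) = e • sbtVal K s cc := by
      rw [← map_prod]
      show Ideal.Quotient.mk _ (bigMap (∏ i, X (c' i))) = _
      rw [show (∏ i, X (c' i) : PlRing K d (d + r)) = chainMon K fun i => minorToIdx (cc.2.1 (Fin.revPerm i)) by
        simp only [chainMon, cc, Fin.revPerm_apply, Fin.rev_rev, hM'], hval, ← Ideal.Quotient.mkₐ_eq_mk K, map_smul]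
      rfl
    rw [this]
    exact Submodule.smul_mem _ _ (Submodule.subset_span ⟨cc, rfl⟩)
  refine eq_top_iff.mpr fun x _ => ?_
  obtain ⟨f, rfl⟩ := Ideal.Quotient.mk_surjective x
  obtain ⟨F, rfl⟩ := bigMap_surjective (K := K) f
  obtain ⟨a, ha⟩ := exists_expansion (K := K) (botIdx hdn) (rankIdx hsd hsr) F
  rw [outIdeal_bot] at ha
  have h1 : ψ (F - Finsupp.linearCombination K
      (fun c : (Σ m, Chains (botIdx hdn) (rankIdx hsd hsr) m) => chainMon K c.2.1) a) = 0 :=
    Ideal.Quotient.eq_zero_iff_mem.mpr (bigMap_plIdeal hsd hsr _ ha)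
  rw [map_sub, sub_eq_zero] at h1
  rw [show Ideal.Quotient.mk _ (bigMap F) = ψ F from rfl, h1, Finsupp.linearCombination_apply, map_finsuppSum]
  refine Submodule.finsuppSum_mem _ _ _ _ fun c _ => ?_
  rw [map_smul]
  exact Submodule.smul_mem _ _ (hchain _ _ c.2.2.1 fun k => (c.2.2.2 k).2)

/-- Append smallest indices to the chain of a standard product. -/
def padded {s : ℕ} (hsd : s ≤ d) (hsr : s ≤ r) (c : SBT r d s) (N : ℕ) : BChain (rankIdx hsd hsr) :=
  ⟨N, fun i => if h : i.val < c.1 then
        ⟨minorToIdx (c.2.1 ⟨c.1 - 1 - i.val, by omega⟩), (minorToIdx_le_rankIdx_iff hsd hsr _).mpr (c.2.2.1 _)⟩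
      else ⟨botIdx (Nat.le_add_right d r), botIdx_le _ _⟩,
    fun i j hij => by
      have hij' : i.val ≤ j.val := hij
      dsimp only
      split_ifs with hi hj hj
      · show minorToIdx _ ≤ minorToIdx _
        rcases eq_or_lt_of_le hij' with h | h
        · exact le_of_eq (congrArg (fun x => minorToIdx (c.2.1 x)) (Fin.ext (by simp only; omega)))
        · exact (minorGE_iff _ _).mp (c.2.2.2 _ _ (by show c.1 - 1 - j.val < c.1 - 1 - i.val; omega))
      · exact absurd (lt_of_le_of_lt hij' hi) hj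
      · exact botIdx_le (Nat.le_add_right d r) _
      · exact le_rfl⟩

theorem padded_injective {s : ℕ} (hsd : s ≤ d) (hsr : s ≤ r) {c c' : SBT r d s} {N : ℕ} (hc : c.1 ≤ N)
    (hc' : c'.1 ≤ N) (h : padded hsd hsr c N = padded hsd hsr c' N) : c = c' := by
  have hv : ∀ i : Fin N, ((padded hsd hsr c N).2.1 i).1 = ((padded hsd hsr c' N).2.1 i).1 := by
    simp only [padded, Sigma.mk.injEq, heq_eq_eq, true_and] at h
    intro i
    exact congrArg (fun f : {c : Fin N → Below (rankIdx hsd hsr) // Antitone c} => (f.1 i).1) h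
  obtain ⟨k, c, hs, hg⟩ := c
  obtain ⟨k', c', hs', hg'⟩ := c'
  simp only at hc hc'
  obtain rfl : k = k' := by
    by_contra hne
    rcases Nat.lt_or_gt_of_ne hne with hlt | hlt
    · have := hv ⟨k, by omega⟩
      simp only [padded] at this
      rw [dif_neg (lt_irrefl k), dif_pos hlt] at this
      exact minorToIdx_ne_bot _ this.symm
    · have := hv ⟨k', by omega⟩
      simp only [padded] at this
      rw [dif_pos hlt, dif_neg (lt_irrefl k')] at this
      exact minorToIdx_ne_bot _ this
  have hcc : c = c' := funext fun i => by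
    have := hv ⟨k - 1 - i.val, by omega⟩
    simp only [padded] at this
    rw [dif_pos (show k - 1 - i.val < k by omega), dif_pos (show k - 1 - i.val < k by omega)] at this
    have h2 := minorToIdx_injective this
    have he : (⟨k - 1 - (k - 1 - i.val), by omega⟩ : Fin k) = i := Fin.ext (by simp only; omega)
    rwa [he] at h2
  subst hcc
  rfl

theorem bigMap_padded {s : ℕ} (hsd : s ≤ d) (hsr : s ≤ r) (c : SBT r d s) (N : ℕ) (hN : c.1 ≤ N) :
    bigMap (chainMon K fun k => ((padded hsd hsr c N).2.1 k).1) =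
      bigMap (chainMon K fun i => minorToIdx (c.2.1 (Fin.revPerm i))) := by
  obtain ⟨b, rfl⟩ := Nat.exists_eq_add_of_le hN
  show bigMap (∏ k : Fin (c.1 + b), X ((padded hsd hsr c (c.1 + b)).2.1 k).1) = _
  rw [Fin.prod_univ_add, map_mul, chainMon]
  convert mul_one _ using 2
  · rw [map_prod]
    refine Finset.prod_eq_one fun i _ => ?_
    simp only [padded]
    rw [dif_neg (by simp)]
    exact bigMap_bot
  · refine Finset.prod_congr rfl fun i _ => ?_
    simp only [padded]
    rw [dif_pos (by simp)]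
    congr 3
    refine congrArg c.2.1 (Fin.ext ?_)
    simp only [Fin.val_castAdd, Fin.revPerm_apply, Fin.val_rev]
    omega

theorem sbt_li [Infinite K] (hd : 0 < d) {s : ℕ} (hsd : s ≤ d) (hsr : s ≤ r) :
    LinearIndependent K (sbtVal K (r := r) (d := d) s) := by
  classical
  rw [linearIndependent_iff']
  intro t a ha x hx
  have hdn : d ≤ d + r := Nat.le_add_right d r
  choose e he hM using fun c : SBT r d s => bigMap_chain (K := K) c Fin.revPerm
  set D := t.sup fun c => c.1 with hD
  have hle : ∀ c ∈ t, c.1 ≤ D := fun c hc => Finset.le_sup (f := fun c : SBT r d s => c.1) hc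
  set F : PlRing K d (d + r) := ∑ c ∈ t, (a c * e c) • chainMon K fun k => ((padded hsd hsr c D).2.1 k).1 with hFdef
  have hFhom : F.IsHomogeneous D := by
    refine IsHomogeneous.sum _ _ _ fun c _ => ?_
    rw [MvPolynomial.smul_eq_C_mul]
    exact (isHomogeneous_chainMon _).C_mul _
  have hFval : bigMap F = ∑ c ∈ t, a c • ∏ i, minorOf K (c.2.1 i) := by
    rw [hFdef, map_sum]
    refine Finset.sum_congr rfl fun c hc => ?_
    rw [map_smul, bigMap_padded hsd hsr c D (hle c hc), hM, smul_smul, mul_assoc, he, mul_one]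
  have hI : bigMap F ∈ CAlgX.minorIdeal (genMatrix K r d) (s + 1) := by
    rw [hFval, ← Ideal.Quotient.eq_zero_iff_mem, ← ha, ← Ideal.Quotient.mkₐ_eq_mk K, map_sum]
    simp only [map_smul]
    rfl
  have hbot := bot_mul_mem hd hsd hsr F D hFhom fun U W => by
    rw [← pairingMap_eval, show pairingMap K s r d (bigMap F) = 0 from minorIdeal_le_ker_pairing r s d hI, map_zero]
  have hext : X (botIdx hdn) * F =
      ∑ c ∈ t, (a c * e c) • chainMon K fun k => ((padded hsd hsr c (D + 1)).2.1 k).1 := by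
    rw [hFdef, Finset.mul_sum]
    refine Finset.sum_congr rfl fun c hc => ?_
    rw [mul_smul_comm]
    congr 1
    have hcD := hle c hc
    simp only [chainMon]
    show X (botIdx hdn) * ∏ k : Fin D, X ((padded hsd hsr c D).2.1 k).1 =
      ∏ k : Fin (D + 1), X ((padded hsd hsr c (D + 1)).2.1 k).1
    rw [Fin.prod_univ_castSucc, mul_comm]
    congr 1
    simp only [padded]
    rw [dif_neg (by simp; omega)]
  rw [hext, ← Ideal.Quotient.eq_zero_iff_mem, ← Ideal.Quotient.mkₐ_eq_mk K, map_sum] at hbot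
  simp only [map_smul, Ideal.Quotient.mkₐ_eq_mk] at hbot
  have hinj : Set.InjOn (fun c : SBT r d s => padded hsd hsr c (D + 1)) ↑t := fun c hc c' hc' h =>
    padded_injective hsd hsr (by have := hle c hc; omega) (by have := hle c' hc'; omega) h
  let G : BChain (rankIdx (r := r) hsd hsr) → K := fun b =>
    ∑ c ∈ t, if padded hsd hsr c (D + 1) = b then a c * e c else 0
  have hG : ∀ c ∈ t, G (padded hsd hsr c (D + 1)) = a c * e c := fun c hc => by
    show ∑ c' ∈ t, (if padded hsd hsr c' (D + 1) = padded hsd hsr c (D + 1) then a c' * e c' else 0) = _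
    rw [Finset.sum_eq_single c]
    · rw [if_pos rfl]
    · intro c' hc' hne
      rw [if_neg fun h => hne (hinj hc' hc h)]
    · intro h; exact absurd hc h
  have h5 := linearIndependent_iff'.mp (chain_li (K := K) (rankIdx (r := r) hsd hsr) hd hdn)
    (t.image fun c => padded hsd hsr c (D + 1)) G (by
      rw [Finset.sum_image hinj, ← hbot]
      exact Finset.sum_congr rfl fun c hc => by rw [hG c hc]) _ (Finset.mem_image_of_mem _ hx)
  rw [hG x hx] at h5
  have : a x * e x * e x = 0 := by rw [h5, zero_mul]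
  rwa [mul_assoc, he, mul_one] at this

end Groth.L14.SMT
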