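import Groth.Agent.L14.SMT.CMSchubert
import Groth.Agent.L14.SMT.DetVariety
import Mathlib.RingTheory.Ideal.KrullsHeightTheorem
import Mathlib.RingTheory.Localization.Away.Basic

/-!
Determinantal rings are normal Cohen–Macaulay domains of the expected dimension.
-/

open MvPolynomial W4bk4grassmannian Finset

namespace Groth.L14.SMT

universe u

attribute [local instance] MvPolynomial.gradedAlgebra

section retract

/-- A retract of an integrally closed domain is integrally closed. -/
theorem isIntegrallyClosed_of_retract {C A : Type u} [CommRing C] [IsDomain C] [CommRing A] [IsDomain A]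
    [IsIntegrallyClosed A] (j : C →+* A) (q : A →+* C) (hqj : ∀ c, q (j c) = c) : IsIntegrallyClosed C := by
  have hj : Function.Injective j := fun a b h => by rw [← hqj a, h, hqj b]
  refine (isIntegrallyClosed_iff (FractionRing C)).mpr fun {x} hx => ?_
  obtain ⟨a, b, hb, rfl⟩ := IsFractionRing.div_surjective C x
  let g : FractionRing C →+* FractionRing A := IsFractionRing.map (A := C) (B := A) hj
  have hg : ∀ c : C, g (algebraMap C (FractionRing C) c) = algebraMap A (FractionRing A) (j c) :=
    fun c => IsLocalization.map_eq _ c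
  have hint : IsIntegral A (g (algebraMap C (FractionRing C) a / algebraMap C (FractionRing C) b)) := by
    obtain ⟨p, hp, hp0⟩ := hx
    refine ⟨p.map j, hp.map j, ?_⟩
    rw [Polynomial.eval₂_map, show (algebraMap A (FractionRing A)).comp j =
      g.comp (algebraMap C (FractionRing C)) from RingHom.ext fun c => (hg c).symm, ← Polynomial.hom_eval₂, hp0,
      map_zero]
  obtain ⟨y, hy⟩ := (isIntegrallyClosed_iff (FractionRing A)).mp inferInstance hint
  rw [map_div₀, hg, hg, eq_div_iff (fun h => nonZeroDivisors.ne_zero hb (hj (by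
    rw [map_zero]; exact IsFractionRing.injective A (FractionRing A) (h.trans (map_zero _).symm)))),
    ← map_mul] at hy
  have h2 := congrArg q (IsFractionRing.injective A (FractionRing A) hy)
  rw [map_mul, hqj, hqj] at h2
  refine ⟨q y, ?_⟩
  rw [eq_div_iff (fun h => nonZeroDivisors.ne_zero hb
    (IsFractionRing.injective C (FractionRing C) (h.trans (map_zero _).symm))), ← map_mul, h2]

end retract

variable (K : Type u) [Field K] (r d : ℕ)

/-- The determinantal ring. -/
abbrev DetRing (s : ℕ) : Type u := CellRing K d r ⧸ CAlgX.minorIdeal (genMatrix K r d) (s + 1)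

variable {r d}

/-- The Plücker ring mapped onto the determinantal ring. -/
noncomputable def detMap (s : ℕ) : PlRing K d (d + r) →ₐ[K] DetRing K r d s :=
  (Ideal.Quotient.mkₐ K _).comp bigMap

variable {K}

theorem detMap_surjective (s : ℕ) : Function.Surjective (detMap K (r := r) (d := d) s) :=
  Ideal.Quotient.mk_surjective.comp bigMap_surjective

theorem detMap_bot (s : ℕ) : detMap K (r := r) s (X (botIdx (Nat.le_add_right d r))) = 1 := by
  show Ideal.Quotient.mk _ (bigMap _) = 1
  rw [bigMap_bot, map_one]

variable [Infinite K] {s : ℕ} (hd : 0 < d) (hsd : s ≤ d) (hsr : s ≤ r)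

theorem detRing_isDomain : IsDomain (DetRing K r d s) := by
  rw [Ideal.Quotient.isDomain_iff_prime, ← ker_pairing_eq r s d]
  exact RingHom.ker_isPrime _

include hd hsd hsr

omit [Infinite K] hd in
theorem detMap_plIdeal {F : PlRing K d (d + r)} (hF : F ∈ plIdeal K (rankIdx hsd hsr)) : detMap K s F = 0 :=
  Ideal.Quotient.eq_zero_iff_mem.mpr (bigMap_plIdeal hsd hsr F hF)

theorem bot_mul_mem_of_detMap {G : PlRing K d (d + r)} {D : ℕ} (hG : G.IsHomogeneous D)
    (h : detMap K s G = 0) : X (botIdx (Nat.le_add_right d r)) * G ∈ plIdeal K (rankIdx hsd hsr) :=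
  bot_mul_mem hd hsd hsr G D hG fun U W => by
    rw [← pairingMap_eval, show pairingMap K s r d (bigMap G) = 0 from
      minorIdeal_le_ker_pairing r s d (Ideal.Quotient.eq_zero_iff_mem.mp h), map_zero]

/-- Dehomogenization of the Schubert ring. -/
noncomputable def detMapR : SRing K (rankIdx (r := r) hsd hsr) →ₐ[K] DetRing K r d s :=
  Ideal.Quotient.liftₐ _ (detMap K s) fun _ hF => detMap_plIdeal hsd hsr hF

omit [Infinite K] hd in
theorem detMapR_mk (F : PlRing K d (d + r)) :
    detMapR hsd hsr (Ideal.Quotient.mk (plIdeal K (rankIdx hsd hsr)) F) = detMap K s F := rfl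

theorem bot_class_ne_zero :
    (Ideal.Quotient.mk (plIdeal K (rankIdx (r := r) hsd hsr)) (X (botIdx (Nat.le_add_right d r))) :
      SRing K (rankIdx (r := r) hsd hsr)) ≠ 0 := by
  intro h
  have h1 := congrArg (detMapR hsd hsr) h
  rw [detMapR_mk, detMap_bot, map_zero] at h1
  haveI := detRing_isDomain (K := K) (r := r) (d := d) (s := s)
  exact one_ne_zero h1

theorem ker_detMap : RingHom.ker (detMap K (r := r) (d := d) s) =
    plIdeal K (rankIdx hsd hsr) ⊔ Ideal.span {X (botIdx (Nat.le_add_right d r)) - 1} := by
  refine le_antisymm (fun F hF => ?_) (sup_le (fun F hF => detMap_plIdeal hsd hsr hF) ?_)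
  · set b : PlRing K d (d + r) := X (botIdx (Nat.le_add_right d r))
    set G := ∑ i ∈ range (F.totalDegree + 1), b ^ (F.totalDegree - i) * homogeneousComponent i F with hGdef
    have hGhom : G.IsHomogeneous F.totalDegree := IsHomogeneous.sum _ _ _ fun i hi => by
      have h := ((isHomogeneous_X K (botIdx (Nat.le_add_right d r))).pow (F.totalDegree - i)).mul
        (homogeneousComponent_isHomogeneous i F)
      rw [one_mul, Nat.sub_add_cancel (Nat.lt_succ_iff.mp (mem_range.mp hi))] at h
      exact h
    have hFG : G - F ∈ Ideal.span {b - 1} := by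
      have e : G - F = ∑ i ∈ range (F.totalDegree + 1),
          (b ^ (F.totalDegree - i) * homogeneousComponent i F - homogeneousComponent i F) := by
        rw [Finset.sum_sub_distrib, sum_homogeneousComponent, hGdef]
      rw [e]
      refine Ideal.sum_mem _ fun i _ => ?_
      rw [← sub_one_mul]
      exact Ideal.mul_mem_right _ _ (Ideal.mem_span_singleton.mpr (sub_one_dvd_pow_sub_one _ _))
    have hG0 : detMap K s G = 0 := by
      have h2 : detMap K s (G - F) = 0 := by
        obtain ⟨c, hc⟩ := Ideal.mem_span_singleton'.mp hFG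
        rw [← hc, map_mul, map_sub, detMap_bot, map_one, sub_self, mul_zero]
      rw [map_sub, show detMap K s F = 0 from hF, sub_zero] at h2
      exact h2
    rw [show F = b * G - (b - 1) * G - (G - F) by ring]
    exact sub_mem (sub_mem (Ideal.mem_sup_left (bot_mul_mem_of_detMap hd hsd hsr hGhom hG0))
      (Ideal.mem_sup_right (Ideal.mul_mem_right _ _ (Ideal.mem_span_singleton_self _))))
      (Ideal.mem_sup_right hFG)
  · rw [Ideal.span_singleton_le_iff_mem, RingHom.mem_ker, map_sub, detMap_bot, map_one, sub_self]

theorem ker_detMapR : RingHom.ker (detMapR (K := K) (r := r) hsd hsr) =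
    Ideal.span {Ideal.Quotient.mk (plIdeal K (rankIdx hsd hsr)) (X (botIdx (Nat.le_add_right d r)) - 1)} := by
  refine Ideal.comap_injective_of_surjective _ Ideal.Quotient.mk_surjective ?_
  rw [← Set.image_singleton, ← Ideal.map_span, Ideal.comap_map_of_surjective _ Ideal.Quotient.mk_surjective,
    ← RingHom.ker_eq_comap_bot, Ideal.mk_ker, sup_comm]
  exact ker_detMap hd hsd hsr

theorem detRing_dim (hr : 0 < r) :
    ringKrullDim (DetRing K r d s) = ((codeg (rankIdx (r := r) hsd hsr) : ℕ) : WithBot ℕ∞) := by
  haveI := detRing_isDomain (K := K) (r := r) (d := d) (s := s)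
  have hdn : d < d + r := by omega
  set R := SRing K (rankIdx (r := r) hsd hsr)
  haveI : IsDomain R := (normal hd hdn (rankIdx hsd hsr)).1
  haveI : Algebra.FiniteType K R :=
    Algebra.FiniteType.of_surjective (Ideal.Quotient.mkₐ K _) Ideal.Quotient.mk_surjective
  set x : R := Ideal.Quotient.mk _ (X (botIdx (Nat.le_add_right d r)) - 1) with hx
  set P : Ideal R := Ideal.span {x}
  have hker := ker_detMapR (K := K) hd hsd hsr
  haveI : P.IsPrime := by
    have := RingHom.ker_isPrime (detMapR (K := K) (r := r) hsd hsr)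
    rwa [hker] at this
  have hsurj : Function.Surjective (detMapR (K := K) (r := r) hsd hsr) := fun y => by
    obtain ⟨F, rfl⟩ := detMap_surjective s y
    exact ⟨_, detMapR_mk hsd hsr F⟩
  have hdim := dim (K := K) hd hdn (rankIdx hsd hsr)
  have hP0 : P ≠ ⊥ := by
    intro h0
    have he : ringKrullDim (DetRing K r d s) = ringKrullDim R := by
      refine (ringKrullDim_eq_of_ringEquiv (RingEquiv.ofBijective (detMapR hsd hsr).toRingHom ⟨?_, hsurj⟩)).symm
      rw [RingHom.injective_iff_ker_eq_bot]
      exact hker.trans h0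
    rw [Ideal.span_singleton_eq_bot, hx, map_sub, sub_eq_zero, map_one] at h0
    -- the top coordinate is not a unit
    have h1 : (X (botIdx (Nat.le_add_right d r)) - 1 : PlRing K d (d + r)) ∈ plIdeal K (rankIdx hsd hsr) := by
      rw [← Ideal.Quotient.eq_zero_iff_mem, map_sub, h0, map_one, sub_self]
    have h2 := homogeneousComponent_mem_of_mem (isHomogeneous_plIdeal (K := K) (rankIdx (r := r) hsd hsr)) h1 0
    have h3 : homogeneousComponent 0 (X (botIdx (Nat.le_add_right d r)) - 1 : PlRing K d (d + r)) = C (-1) := by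
      rw [homogeneousComponent_zero]; simp
    rw [h3] at h2
    exact (isPrime_plIdeal hd hdn.le _).ne_top (Ideal.eq_top_of_isUnit_mem _ h2
      ((isUnit_iff_ne_zero.mpr (neg_ne_zero.mpr one_ne_zero)).map C))
  have h := Groth.L22.AffineDim.ringKrullDim_quotient_add_one K P hP0 fun Q hQ hle hne => by
    by_contra hne'
    haveI := hQ
    haveI : (Ideal.span {x}).IsPrincipal := ⟨⟨x, rfl⟩⟩
    have h1 : P.height ≤ 1 := Ideal.height_le_one_of_isPrincipal_of_mem_minimalPrimes (Ideal.span {x}) P
      (by rw [Ideal.minimalPrimes_eq_subsingleton_self]; exact rfl)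
    have h2 := Ideal.height_add_one_le_of_lt_of_isPrime (lt_of_le_of_ne hle hne')
    have h3 : (1 : ℕ∞) ≤ Q.height :=
      Order.one_le_iff_ne_zero.2 fun h => hne (Ideal.height_eq_zero_iff_eq_bot.1 h)
    exact absurd ((add_le_add h3 le_rfl).trans (h2.trans h1)) (by decide)
  rw [ringKrullDim_eq_of_ringEquiv ((Ideal.quotEquivOfEq hker.symm).trans
    (RingHom.quotientKerEquivOfSurjective (f := (detMapR hsd hsr).toRingHom) hsurj)), hdim] at h
  generalize ringKrullDim (DetRing K r d s) = D at h ⊢
  induction D using WithBot.recBotCoe with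
  | bot =>
    rw [WithBot.bot_add] at h
    exact absurd h.symm (WithBot.natCast_ne_bot _)
  | coe D =>
    induction D using ENat.recTopCoe with
    | top =>
      have h' : (⊤ : ℕ∞) + 1 = ((codeg (rankIdx (r := r) hsd hsr) + 1 : ℕ) : ℕ∞) := by exact_mod_cast h
      rw [top_add] at h'
      exact absurd h'.symm (ENat.natCast_ne_top _)
    | coe D =>
      have h' : D + 1 = codeg (rankIdx (r := r) hsd hsr) + 1 := by exact_mod_cast h
      rw [show D = codeg (rankIdx (r := r) hsd hsr) by omega]
      rfl

theorem detRing_isIntegrallyClosed (hr : 0 < r) : IsIntegrallyClosed (DetRing K r d s) := by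
  classical
  haveI := detRing_isDomain (K := K) (r := r) (d := d) (s := s)
  have hdn : d < d + r := by omega
  set R := SRing K (rankIdx (r := r) hsd hsr)
  haveI : IsDomain R := (normal hd hdn (rankIdx hsd hsr)).1
  haveI : IsIntegrallyClosed R := (normal hd hdn (rankIdx hsd hsr)).2
  set b : R := Ideal.Quotient.mk _ (X (botIdx (Nat.le_add_right d r))) with hb
  set A := Localization.Away b
  have hM : Submonoid.powers b ≤ nonZeroDivisors R :=
    powers_le_nonZeroDivisors_of_noZeroDivisors (bot_class_ne_zero hd hsd hsr)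
  haveI : IsDomain A := IsLocalization.isDomain_localization hM
  haveI : IsIntegrallyClosed A := isIntegrallyClosed_of_isLocalization A _ hM
  have hu : IsUnit (detMapR (K := K) (r := r) hsd hsr b) := by
    rw [hb, detMapR_mk, detMap_bot]; exact isUnit_one
  let q : A →+* DetRing K r d s := IsLocalization.Away.lift b (g := (detMapR hsd hsr).toRingHom) hu
  have hq : ∀ z : R, q (algebraMap R A z) = detMapR hsd hsr z := fun z => IsLocalization.Away.lift_eq b hu z
  -- sections
  let T : ℕ → PlRing K d (d + r) → A := fun D F =>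
    algebraMap R A (Ideal.Quotient.mk _ F) * IsLocalization.Away.invSelf b ^ D
  have hinv : algebraMap R A b * IsLocalization.Away.invSelf b = 1 := IsLocalization.Away.mul_invSelf b
  have hpad : ∀ (D k : ℕ) (F : PlRing K d (d + r)),
      T (k + D) (X (botIdx (Nat.le_add_right d r)) ^ k * F) = T D F := by
    intro D k F
    show algebraMap R A _ * _ ^ (k + D) = _
    rw [map_mul, map_pow, map_mul, map_pow, ← hb, pow_add,
      show ∀ u v w z : A, u * v * (w * z) = (u * w) * (v * z) from fun u v w z => by ring, ← mul_pow, hinv,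
      one_pow, one_mul]
  have huniq : ∀ (D D' : ℕ) (F F' : PlRing K d (d + r)), F.IsHomogeneous D → F'.IsHomogeneous D' →
      detMap K s F = detMap K s F' → T D F = T D' F' := by
    intro D D' F F' hF hF' h
    set bX : PlRing K d (d + r) := X (botIdx (Nat.le_add_right d r))
    have hhom : ∀ (k D : ℕ) (F : PlRing K d (d + r)), F.IsHomogeneous D → (bX ^ k * F).IsHomogeneous (k + D) :=
      fun k D F hF => by simpa using ((isHomogeneous_X K (botIdx (Nat.le_add_right d r))).pow k).mul hF
    have hdiff : (bX ^ D' * F - bX ^ D * F').IsHomogeneous (D' + D) :=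
      (hhom D' D F hF).sub (by rw [add_comm D']; exact hhom D D' F' hF')
    have h0 := bot_mul_mem_of_detMap hd hsd hsr hdiff (by
      rw [map_sub, map_mul, map_mul, map_pow, map_pow, detMap_bot, one_pow, one_pow, one_mul, one_mul, h, sub_self])
    rw [← Ideal.Quotient.eq_zero_iff_mem, map_mul] at h0
    have h1 := (mul_eq_zero.mp h0).resolve_left (bot_class_ne_zero hd hsd hsr)
    rw [map_sub, sub_eq_zero] at h1
    rw [← hpad D D' F, ← hpad D' D F', add_comm D]
    show algebraMap R A _ * _ = algebraMap R A _ * _
    rw [h1]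
  have hex : ∀ f : DetRing K r d s, ∃ (D : ℕ) (F : PlRing K d (d + r)), F.IsHomogeneous D ∧ detMap K s F = f := by
    intro f
    obtain ⟨f, rfl⟩ := Ideal.Quotient.mk_surjective f
    obtain ⟨D, F, hF, rfl⟩ := exists_hom_lift f
    exact ⟨D, F, hF, rfl⟩
  choose Df Ff hFh hFv using hex
  let j : DetRing K r d s →+* A :=
    { toFun := fun f => T (Df f) (Ff f)
      map_one' := by
        rw [huniq (Df 1) 0 (Ff 1) 1 (hFh 1) (isHomogeneous_one _ _) (by rw [hFv, map_one])]
        show algebraMap R A _ * _ = 1
        rw [map_one, map_one, pow_zero, mul_one]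
      map_mul' := fun f g => by
        rw [huniq (Df (f * g)) (Df f + Df g) (Ff (f * g)) (Ff f * Ff g) (hFh _) ((hFh f).mul (hFh g))
          (by rw [hFv, map_mul, hFv, hFv])]
        show algebraMap R A _ * _ = (algebraMap R A _ * _) * (algebraMap R A _ * _)
        rw [map_mul, map_mul, pow_add]; ring
      map_zero' := by
        rw [huniq (Df 0) 0 (Ff 0) 0 (hFh 0) (isHomogeneous_zero _ _ _) (by rw [hFv, map_zero])]
        show algebraMap R A _ * _ = 0
        rw [map_zero, map_zero, zero_mul]
      map_add' := fun f g => by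
        set bX : PlRing K d (d + r) := X (botIdx (Nat.le_add_right d r))
        rw [huniq (Df (f + g)) (Df g + Df f) (Ff (f + g)) (bX ^ Df g * Ff f + bX ^ Df f * Ff g) (hFh _) (by
            refine IsHomogeneous.add ?_ ?_
            · simpa using ((isHomogeneous_X K _).pow (Df g)).mul (hFh f)
            · rw [add_comm (Df g)]
              simpa using ((isHomogeneous_X K _).pow (Df f)).mul (hFh g))
          (by rw [hFv, map_add, map_mul, map_mul, map_pow, map_pow, detMap_bot, one_pow, one_pow, one_mul, one_mul,
            hFv, hFv])]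
        show algebraMap R A _ * _ = _
        rw [map_add, map_add, add_mul]
        congr 1
        · exact hpad (Df f) (Df g) (Ff f)
        · rw [add_comm (Df g)]
          exact hpad (Df g) (Df f) (Ff g) }
  refine isIntegrallyClosed_of_retract j q fun f => ?_
  show q (algebraMap R A _ * _) = f
  have hqinv : q (IsLocalization.Away.invSelf b) = 1 := by
    have := congrArg q hinv
    have hb1 : detMapR (K := K) (r := r) hsd hsr b = 1 := by rw [hb, detMapR_mk, detMap_bot]
    rw [map_mul, hq, map_one, hb1, one_mul] at this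
    exact this
  rw [map_mul, map_pow, hqinv, one_pow, mul_one, hq, detMapR_mk, hFv]

theorem detRing_cm [IsAlgClosed K] (hr : 0 < r) : LocCoh.IsCohenMacaulayRing (DetRing K r d s) := by
  haveI := detRing_isDomain (K := K) (r := r) (d := d) (s := s)
  have hdn : d < d + r := by omega
  set τ := rankIdx (r := r) hsd hsr with hτ
  letI : Algebra (PlRing K d (d + r)) (DetRing K r d s) := (detMap K s).toRingHom.toAlgebra
  haveI : Module.Finite (PlRing K d (d + r)) (DetRing K r d s) :=
    Module.Finite.of_surjective (Algebra.linearMap (PlRing K d (d + r)) (DetRing K r d s)) (detMap_surjective s)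
  refine CMCrit.isCohenMacaulayRing_of_forall_maximal _ (codeg τ) (fun m hm => ?_)
    (le_of_eq (detRing_dim hd hsd hsr hr))
  set M := m.comap (detMap K s).toRingHom
  haveI := hm
  haveI hM : M.IsMaximal := Ideal.comap_isMaximal_of_surjective _ (detMap_surjective s)
  have hmap : M.map (algebraMap (PlRing K d (d + r)) (DetRing K r d s)) = m :=
    Ideal.map_comap_of_surjective _ (detMap_surjective s) m
  rw [← hmap, ← Groth.L04.idealDepth_eq_idealDepth_map_of_finite (R := PlRing K d (d + r))
    (B := DetRing K r d s) M (DetRing K r d s)]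
  set J := plIdeal K τ ⊔ Ideal.span {(X (botIdx (Nat.le_add_right d r)) - 1 : PlRing K d (d + r))}
  have hJ : J = LinearMap.ker (Algebra.linearMap (PlRing K d (d + r)) (DetRing K r d s)) :=
    (ker_detMap hd hsd hsr).symm
  rw [← Groth.L04.idealDepth_congr ((Submodule.quotEquivOfEq J _ hJ).trans
    ((Algebra.linearMap (PlRing K d (d + r)) (DetRing K r d s)).quotKerEquivOfSurjective (detMap_surjective s)))]
  obtain ⟨p, hp⟩ := (isMaximal_iff_eq_vanishingIdeal_singleton (K := K)).mp hM
  have hxM : (X (botIdx (Nat.le_add_right d r)) - 1 : PlRing K d (d + r)) ∈ M := by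
    show detMap K s _ ∈ m
    rw [map_sub, detMap_bot, map_one, sub_self]; exact zero_mem _
  have hreg : IsSMulRegular (PlRing K d (d + r) ⧸ plIdeal K τ)
      (X (botIdx (Nat.le_add_right d r)) - 1 : PlRing K d (d + r)) := by
    rw [CMCrit.isSMulRegular_quotient_iff]
    intro z hz
    refine ((isPrime_plIdeal hd hdn.le τ).mem_or_mem hz).resolve_left fun h => ?_
    have h2 := homogeneousComponent_mem_of_mem (isHomogeneous_plIdeal (K := K) τ) h 0
    have h3 : homogeneousComponent 0 (X (botIdx (Nat.le_add_right d r)) - 1 : PlRing K d (d + r)) = C (-1) := by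
      rw [homogeneousComponent_zero]; simp
    rw [h3] at h2
    exact (isPrime_plIdeal hd hdn.le _).ne_top (Ideal.eq_top_of_isUnit_mem _ h2
      ((isUnit_iff_ne_zero.mpr (neg_ne_zero.mpr one_ne_zero)).map C))
  rw [← Groth.L04.idealDepth_congr (CMCrit.quotSMulTopEquiv (plIdeal K τ) _),
    Groth.L04.le_idealDepth_quotSMulTop_iff hxM hreg, hp]
  exact CMCrit.le_idealDepth_point (isHomogeneous_plIdeal τ) (depth_plIdeal hd hdn.le _ τ rfl).1 p

omit [Infinite K] hd in
theorem codeg_rankIdx : codeg (rankIdx (r := r) hsd hsr) = s * (r + d - s) := by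
  have h : ∀ t : Fin d, ((rankIdx (r := r) hsd hsr).1 t).val - t.val = if t.val < d - s then s else r := by
    intro t
    simp only [rankIdx]
    split_ifs <;> omega
  rw [codeg, Finset.sum_congr rfl fun t _ => h t, Finset.sum_ite, Finset.sum_const, Finset.sum_const, smul_eq_mul,
    smul_eq_mul, Fin.card_filter_val_lt, Finset.filter_not, Finset.card_sdiff, Finset.inter_univ, Finset.card_fin,
    Fin.card_filter_val_lt]
  rw [min_eq_right (Nat.sub_le d s), Nat.sub_sub_self hsd, Nat.mul_comm (d - s) s, ← Nat.mul_add]
  congr 1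
  omega

end Groth.L14.SMT
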