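import Groth.Agent.L14.SMT.GenSpan
import Mathlib.Algebra.Polynomial.Laurent
import Mathlib.RingTheory.Ideal.Quotient.Operations

/-!
One-parameter families attached to weights on the Plücker variables.
-/

open MvPolynomial W4bk4grassmannian Finset
open scoped LaurentPolynomial

namespace Groth.L14.SMT

universe u

variable {K : Type u} [Field K] {d n : ℕ} (w : Idx d n) (e : Below w → ℤ)

/-- The substitution defining the family. -/
noncomputable def famMap :
    MvPolynomial (Below w) (Polynomial K) →ₐ[K] LaurentPolynomial (PlRing K d n ⧸ plIdeal K w) :=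
  { MvPolynomial.eval₂Hom ((Polynomial.aeval (R := K)
        (LaurentPolynomial.T 1 : LaurentPolynomial (PlRing K d n ⧸ plIdeal K w))).toRingHom)
      (fun θ => LaurentPolynomial.C (Ideal.Quotient.mk (plIdeal K w) (X θ.1)) * LaurentPolynomial.T (e θ)) with
    commutes' := fun r => by
      show MvPolynomial.eval₂ _ _ (C (Polynomial.C r)) = _
      rw [MvPolynomial.eval₂_C]
      exact (Polynomial.aeval (R := K) _).commutes r }

theorem famMap_t : famMap (K := K) w e (C Polynomial.X) = LaurentPolynomial.T 1 := by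
  show MvPolynomial.eval₂ _ _ (C Polynomial.X) = _
  rw [MvPolynomial.eval₂_C]
  exact Polynomial.aeval_X _

theorem famMap_X (θ : Below w) : famMap (K := K) w e (X θ) =
    LaurentPolynomial.C (Ideal.Quotient.mk (plIdeal K w) (X θ.1)) * LaurentPolynomial.T (e θ) := by
  show MvPolynomial.eval₂ _ _ (X θ) = _
  rw [MvPolynomial.eval₂_X]

theorem famMap_chain {m : ℕ} (c : Fin m → Below w) :
    famMap (K := K) w e (∏ k, X (c k)) =
      LaurentPolynomial.C (Ideal.Quotient.mk (plIdeal K w) (chainMon K fun k => (c k).1)) *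
        LaurentPolynomial.T (∑ k, e (c k)) := by
  induction m with
  | zero => simp [chainMon]
  | succ m ih =>
    rw [Fin.prod_univ_succ, map_mul, ih, famMap_X, Fin.sum_univ_succ, LaurentPolynomial.T_add]
    simp only [chainMon, Fin.prod_univ_succ, map_mul]
    ring

theorem T_mul_C_mul_T {A : Type*} [CommRing A] (x : A) (i j : ℤ) :
    (LaurentPolynomial.T i : LaurentPolynomial A) * (LaurentPolynomial.C x * LaurentPolynomial.T j) =
      LaurentPolynomial.C x * LaurentPolynomial.T (i + j) := by
  rw [LaurentPolynomial.T_add]; ring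

/-- The ideal of the family. -/
noncomputable def famIdeal (K : Type u) [Field K] {d n : ℕ} (w : Idx d n) (e : Below w → ℤ) :
    Ideal (MvPolynomial (Below w) (Polynomial K)) :=
  RingHom.ker (famMap (K := K) w e).toRingHom

theorem mem_famIdeal {x : MvPolynomial (Below w) (Polynomial K)} :
    x ∈ famIdeal K w e ↔ famMap w e x = 0 := Iff.rfl

/-- The total ring of the family. -/
def Fam (K : Type u) [Field K] {d n : ℕ} (w : Idx d n) (e : Below w → ℤ) : Type u :=
  MvPolynomial (Below w) (Polynomial K) ⧸ famIdeal K w e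

noncomputable instance instCommRingFam : CommRing (Fam K w e) :=
  inferInstanceAs (CommRing (MvPolynomial (Below w) (Polynomial K) ⧸ famIdeal K w e))

noncomputable instance instAlgebraPolyFam : Algebra (Polynomial K) (Fam K w e) :=
  inferInstanceAs (Algebra (Polynomial K) (MvPolynomial (Below w) (Polynomial K) ⧸ famIdeal K w e))

noncomputable instance instAlgebraFam : Algebra K (Fam K w e) :=
  inferInstanceAs (Algebra K (MvPolynomial (Below w) (Polynomial K) ⧸ famIdeal K w e))

instance instTowerFam : IsScalarTower K (Polynomial K) (Fam K w e) :=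
  IsScalarTower.of_algebraMap_eq fun _ => rfl

/-- The projection onto the family. -/
noncomputable def famMk : MvPolynomial (Below w) (Polynomial K) →ₐ[Polynomial K] Fam K w e :=
  { (Ideal.Quotient.mk (famIdeal K w e) : MvPolynomial (Below w) (Polynomial K) →+* Fam K w e) with
    commutes' := fun _ => rfl }

theorem famMk_surjective : Function.Surjective (famMk (K := K) w e) :=
  Ideal.Quotient.mk_surjective (I := famIdeal K w e)

theorem famMk_eq_zero {x : MvPolynomial (Below w) (Polynomial K)} : famMk w e x = 0 ↔ famMap w e x = 0 :=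
  Ideal.Quotient.eq_zero_iff_mem (I := famIdeal K w e)

/-- The generators of the family. -/
noncomputable def famGen (θ : Below w) : Fam K w e := famMk w e (X θ)

theorem fam_adjoin : Algebra.adjoin (Polynomial K) (Set.range (famGen (K := K) w e)) = ⊤ := by
  rw [eq_top_iff]
  rintro x -
  obtain ⟨p, rfl⟩ := famMk_surjective w e x
  induction p using MvPolynomial.induction_on with
  | C a =>
    rw [show famMk w e (C a) = algebraMap (Polynomial K) (Fam K w e) a from (famMk w e).commutes a]
    exact Subalgebra.algebraMap_mem _ a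
  | add p q hp hq => rw [map_add]; exact add_mem hp hq
  | mul_X p i hp => rw [map_mul]; exact mul_mem hp (Algebra.subset_adjoin ⟨i, rfl⟩)

theorem chain_li [Infinite K] (hd : 0 < d) (hdn : d ≤ n) :
    LinearIndependent K (fun c : BChain w => Ideal.Quotient.mk (plIdeal K w) (chainMon K fun k => (c.2.1 k).1)) := by
  rw [linearIndependent_iff']
  intro s g hg x hx
  classical
  let ι : BChain w → Σ m, Chains (botIdx hdn) w m := fun c =>
    ⟨c.1, fun k => (c.2.1 k).1, fun a b hab => c.2.2 hab, fun k => ⟨botIdx_le hdn _, (c.2.1 k).2⟩⟩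
  have hι : Function.Injective ι := by
    rintro ⟨m, c⟩ ⟨m', c'⟩ h
    obtain rfl : m = m' := congrArg Sigma.fst h
    simp only [ι, Sigma.mk.injEq, heq_eq_eq, true_and, Subtype.mk.injEq] at h
    exact congrArg (Sigma.mk m) (Subtype.ext (funext fun k => Subtype.ext (congrFun h k)))
  have h0 : ∑ c ∈ s, g c • proj (K := K) (botIdx hdn) w (chainMon K fun k => (c.2.1 k).1) = 0 := by
    simp only [← map_smul, ← map_sum]
    show proj (K := K) (botIdx hdn) w (∑ c ∈ s, g c • chainMon K fun k => (c.2.1 k).1) = 0
    have : (∑ c ∈ s, g c • chainMon K fun k => (c.2.1 k).1) ∈ plIdeal K w := by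
      rw [← Ideal.Quotient.eq_zero_iff_mem, ← hg, ← Ideal.Quotient.mkₐ_eq_mk K, map_sum]
      simp only [map_smul]
    rwa [← ker_proj_bot hd hdn w] at this
  exact linearIndependent_iff'.mp ((indep (K := K) hd (botIdx hdn) w (botIdx_le hdn w)).comp ι hι) s g h0 x hx

theorem fam_li [Infinite K] (hd : 0 < d) (hdn : d ≤ n) :
    LinearIndependent (Polynomial K) (fun c : BChain w => ∏ k, famGen (K := K) w e (c.2.1 k)) := by
  refine linearIndependent_iff'.mpr fun s g hg x hx => ?_
  have h0 : famMap w e (∑ c ∈ s, C (g c) * ∏ k, X (c.2.1 k)) = 0 := by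
    rw [← famMk_eq_zero, ← hg, map_sum]
    refine Finset.sum_congr rfl fun c _ => ?_
    rw [map_mul, map_prod, Algebra.smul_def]
    rfl
  rw [map_sum] at h0
  ext j
  have h1 : ∀ c, famMap (K := K) w e (C (g c)) = Polynomial.aeval (R := K)
      (LaurentPolynomial.T 1 : LaurentPolynomial (PlRing K d n ⧸ plIdeal K w)) (g c) := fun c => by
    show MvPolynomial.eval₂ _ _ (C (g c)) = _
    rw [MvPolynomial.eval₂_C]; rfl
  let J : ℤ := (j : ℤ) + ∑ k, e (x.2.1 k)
  have h2 := congrArg (fun q : LaurentPolynomial (PlRing K d n ⧸ plIdeal K w) => q.coeff J) h0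
  have h3 : ∀ (c : BChain w) (J : ℤ), (famMap (K := K) w e (C (g c) * ∏ k, X (c.2.1 k))).coeff J =
      (if 0 ≤ J - ∑ k, e (c.2.1 k) then (g c).coeff (J - ∑ k, e (c.2.1 k)).toNat else 0) •
        Ideal.Quotient.mk (plIdeal K w) (chainMon K fun k => (c.2.1 k).1) := by
    intro c J
    rw [map_mul, h1, famMap_chain, Polynomial.aeval_eq_sum_range, Finset.sum_mul, AddMonoidAlgebra.coeff_sum,
      Finsupp.finsetSum_apply]
    have h4 : ∀ i : ℕ, (((g c).coeff i • (LaurentPolynomial.T 1 : LaurentPolynomial (PlRing K d n ⧸ plIdeal K w)) ^ i) *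
        (LaurentPolynomial.C (Ideal.Quotient.mk (plIdeal K w) (chainMon K fun k => (c.2.1 k).1)) *
          LaurentPolynomial.T (∑ k, e (c.2.1 k)))).coeff J =
        if (i : ℤ) + ∑ k, e (c.2.1 k) = J then
          (g c).coeff i • Ideal.Quotient.mk (plIdeal K w) (chainMon K fun k => (c.2.1 k).1) else 0 := by
      intro i
      rw [smul_mul_assoc, LaurentPolynomial.T_pow, mul_one, T_mul_C_mul_T,
        ← LaurentPolynomial.single_eq_C_mul_T, AddMonoidAlgebra.coeff_smul, Finsupp.smul_apply,
        AddMonoidAlgebra.coeff_single, Finsupp.single_apply]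
      split_ifs <;> simp
    simp only [h4]
    by_cases hJ : 0 ≤ J - ∑ k, e (c.2.1 k)
    · rw [if_pos hJ, Finset.sum_eq_single (J - ∑ k, e (c.2.1 k)).toNat]
      · rw [if_pos (by omega)]
      · intro i _ hi; rw [if_neg (by omega)]
      · intro hi
        rw [if_pos (by omega), Polynomial.coeff_eq_zero_of_natDegree_lt (by
          rw [Finset.mem_range] at hi; omega), zero_smul]
    · rw [if_neg hJ, zero_smul]
      exact Finset.sum_eq_zero fun i _ => if_neg (by omega)
  simp only [AddMonoidAlgebra.coeff_sum, AddMonoidAlgebra.coeff_zero, Finsupp.finsetSum_apply,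
    Finsupp.zero_apply, h3] at h2
  have h5 := linearIndependent_iff'.mp (chain_li (K := K) w hd hdn) s _ h2 x hx
  rw [if_pos (by show 0 ≤ (j : ℤ) + _ - _; omega),
    show ((j : ℤ) + ∑ k, e (x.2.1 k) - ∑ k, e (x.2.1 k)).toNat = j by omega] at h5
  simpa using h5

theorem fam_rel (a b : Below w) (s : Finset (Below w × Below w)) (co : Below w × Below w → K)
    (hrel : X a.1 * X b.1 - ∑ p ∈ s, co p • (X p.1.1 * X p.2.1) ∈ plIdeal K w)
    (hle : ∀ p ∈ s, e p.1 + e p.2 ≤ e a + e b) :
    famGen (K := K) w e a * famGen w e b =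
      ∑ p ∈ s, (Polynomial.C (co p) * Polynomial.X ^ (e a + e b - e p.1 - e p.2).toNat) •
        (famGen w e p.1 * famGen w e p.2) := by
  have : famMk w e
      (X a * X b - ∑ p ∈ s, C (Polynomial.C (co p) * Polynomial.X ^ (e a + e b - e p.1 - e p.2).toNat) *
        (X p.1 * X p.2)) = 0 := by
    rw [famMk_eq_zero]
    rw [map_sub, map_mul, map_sum, famMap_X, famMap_X]
    have hterm : ∀ p ∈ s, famMap (K := K) w e
        (C (Polynomial.C (co p) * Polynomial.X ^ (e a + e b - e p.1 - e p.2).toNat) * (X p.1 * X p.2)) =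
        LaurentPolynomial.C (co p • (Ideal.Quotient.mk (plIdeal K w) (X p.1.1 * X p.2.1))) *
          LaurentPolynomial.T (e a + e b) := by
      intro p hp
      have hg := hle p hp
      obtain ⟨N, hN⟩ : ∃ N, (e a + e b - e p.1 - e p.2).toNat = N := ⟨_, rfl⟩
      have hT : e a + e b = (N : ℤ) + (e p.1 + e p.2) := by omega
      rw [hN, hT, map_mul (C : Polynomial K →+* _), map_pow (C : Polynomial K →+* _)]
      simp only [map_mul, map_pow, famMap_t, famMap_X]
      rw [LaurentPolynomial.T_pow, mul_one,
        show famMap (K := K) w e (C (Polynomial.C (co p))) =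
          LaurentPolynomial.C (algebraMap K (PlRing K d n ⧸ plIdeal K w) (co p)) from (famMap w e).commutes (co p),
        LaurentPolynomial.T_add, LaurentPolynomial.T_add,
        show co p • (Ideal.Quotient.mk (plIdeal K w) (X p.1.1) * Ideal.Quotient.mk (plIdeal K w) (X p.2.1)) =
          algebraMap K (PlRing K d n ⧸ plIdeal K w) (co p) *
            (Ideal.Quotient.mk (plIdeal K w) (X p.1.1) * Ideal.Quotient.mk (plIdeal K w) (X p.2.1)) from
          Algebra.smul_def (co p) (Ideal.Quotient.mk (plIdeal K w) (X p.1.1) *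
            Ideal.Quotient.mk (plIdeal K w) (X p.2.1))]
      simp only [map_mul]
      ring
    rw [Finset.sum_congr rfl hterm, ← Finset.sum_mul, ← map_sum,
      show LaurentPolynomial.C (Ideal.Quotient.mk (plIdeal K w) (X a.1)) * LaurentPolynomial.T (e a) *
        (LaurentPolynomial.C (Ideal.Quotient.mk (plIdeal K w) (X b.1)) * LaurentPolynomial.T (e b)) =
        LaurentPolynomial.C (Ideal.Quotient.mk (plIdeal K w) (X a.1 * X b.1)) * LaurentPolynomial.T (e a + e b) by
          rw [map_mul, map_mul, LaurentPolynomial.T_add]; ring,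
      ← sub_mul, ← map_sub]
    rw [← Ideal.Quotient.mkₐ_eq_mk K]
    simp only [← map_smul, ← map_sum, ← map_sub]
    rw [Ideal.Quotient.mkₐ_eq_mk, Ideal.Quotient.eq_zero_iff_mem.mpr hrel, map_zero, zero_mul]
  rw [map_sub, map_mul, sub_eq_zero, map_sum] at this
  rw [show famGen (K := K) w e a * famGen w e b = _ from this]
  refine Finset.sum_congr rfl fun p _ => ?_
  rw [Algebra.smul_def]
  simp only [map_mul]
  rfl

end Groth.L14.SMT
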