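import Groth.Agent.L14.SMT.DetVariety
import Mathlib.LinearAlgebra.Matrix.GeneralLinearGroup.Defs
import Mathlib.RingTheory.Localization.Away.Basic

/-!
The first fundamental theorem for `GL_n` acting on pairs of matrices.
-/

open MvPolynomial W4bk4grassmannian Finset

namespace Groth.L14.SMT

universe u

variable {K : Type u} [Field K] {m n q : ℕ}

theorem glTranslate_eval (A : GL (Fin n) K) (U : Matrix (Fin m) (Fin n) K) (W : Matrix (Fin n) (Fin q) K)
    (f : PairRing K n m q) :
    MvPolynomial.eval (Sum.elim (fun p => U p.1 p.2) (fun p => W p.1 p.2)) (glTranslate K n m q A f) =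
      MvPolynomial.eval (Sum.elim (fun p => (U * ((A⁻¹ : GL (Fin n) K) : Matrix (Fin n) (Fin n) K)) p.1 p.2)
        (fun p => ((A : Matrix (Fin n) (Fin n) K) * W) p.1 p.2)) f := by
  induction f using MvPolynomial.induction_on with
  | C a => rw [show glTranslate K n m q A (C a) = C a from AlgHom.commutes _ a]; simp
  | add x y hx hy => simp only [map_add, hx, hy]
  | mul_X x p hx =>
    simp only [map_mul, hx, eval_X]
    congr 1
    rcases p with p | p <;> simp [glTranslate, map_sum, Matrix.mul_apply]

theorem pairingMap_evalM (U : Matrix (Fin m) (Fin n) K) (W : Matrix (Fin n) (Fin q) K)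
    (f : MvPolynomial (Fin m × Fin q) K) :
    MvPolynomial.eval (Sum.elim (fun p => U p.1 p.2) (fun p => W p.1 p.2)) (pairingMap K n m q f) =
      MvPolynomial.eval (fun p => (U * W) p.1 p.2) f :=
  pairingMap_eval (fun i k => U i k) (fun k j => W k j) f

theorem pairingMap_glTranslate (A : GL (Fin n) K) [Infinite K] (g : MvPolynomial (Fin m × Fin q) K) :
    glTranslate K n m q A (pairingMap K n m q g) = pairingMap K n m q g := by
  refine MvPolynomial.funext fun p => ?_
  let U : Matrix (Fin m) (Fin n) K := Matrix.of fun i k => p (Sum.inl (i, k))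
  let W : Matrix (Fin n) (Fin q) K := Matrix.of fun k j => p (Sum.inr (k, j))
  have hp : p = Sum.elim (fun x => U x.1 x.2) (fun x => W x.1 x.2) := by
    funext x; rcases x with x | x <;> rfl
  rw [hp, glTranslate_eval, pairingMap_evalM, pairingMap_evalM]
  rw [show (U * ((A⁻¹ : GL (Fin n) K) : Matrix (Fin n) (Fin n) K)) * ((A : Matrix (Fin n) (Fin n) K) * W) = U * W by
    rw [Matrix.mul_assoc, ← Matrix.mul_assoc ((A⁻¹ : GL (Fin n) K) : Matrix (Fin n) (Fin n) K), ← Units.val_mul,
      inv_mul_cancel, Units.val_one, Matrix.one_mul]]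

/-- The corner minor. -/
noncomputable def cornerDet (K : Type u) [Field K] (hm : n ≤ m) (hq : n ≤ q) : MvPolynomial (Fin m × Fin q) K :=
  ((genMatrix K m q).submatrix (Fin.castLE hm) (Fin.castLE hq)).det

theorem eval_cornerDet (hm : n ≤ m) (hq : n ≤ q) (Z : Fin m × Fin q → K) :
    MvPolynomial.eval Z (cornerDet K hm hq) =
      (Matrix.of fun a b : Fin n => Z (Fin.castLE hm a, Fin.castLE hq b)).det := by
  rw [cornerDet, RingHom.map_det]
  congr 1
  refine Matrix.ext fun a b => ?_
  simp [genMatrix]

/-- Every invariant becomes a function of the product after inverting the corner minor. -/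
theorem exists_pow_mul_mem_range [Infinite K] (hm : n ≤ m) (hq : n ≤ q) (f : PairRing K n m q)
    (hf : ∀ A : GL (Fin n) K, glTranslate K n m q A f = f) :
    ∃ N g, f * pairingMap K n m q (cornerDet K hm hq) ^ N = pairingMap K n m q g := by
  classical
  set δ := cornerDet K hm hq with hδ
  set L := Localization.Away δ
  let Z0 : Matrix (Fin n) (Fin n) (MvPolynomial (Fin m × Fin q) K) :=
    (genMatrix K m q).submatrix (Fin.castLE hm) (Fin.castLE hq)
  let φ : PairRing K n m q →ₐ[K] L := MvPolynomial.aeval (Sum.elim
    (fun p => algebraMap (MvPolynomial (Fin m × Fin q) K) L (((genMatrix K m q).submatrix id (Fin.castLE hq) * Z0.adjugate) p.1 p.2) *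
      IsLocalization.Away.invSelf δ)
    (fun p => algebraMap (MvPolynomial (Fin m × Fin q) K) L (X (Fin.castLE hm p.1, p.2))))
  obtain ⟨N, g, hg⟩ := IsLocalization.Away.surj δ (φ f)
  refine ⟨N, g, ?_⟩
  have key : (f * pairingMap K n m q δ ^ N - pairingMap K n m q g) * pairingMap K n m q δ = 0 := by
    refine MvPolynomial.funext fun p => ?_
    let U : Matrix (Fin m) (Fin n) K := Matrix.of fun i k => p (Sum.inl (i, k))
    let W : Matrix (Fin n) (Fin q) K := Matrix.of fun k j => p (Sum.inr (k, j))
    have hp : p = Sum.elim (fun x => U x.1 x.2) (fun x => W x.1 x.2) := by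
      funext x; rcases x with x | x <;> rfl
    rw [map_zero, map_mul, map_sub, map_mul, map_pow, hp, pairingMap_evalM, pairingMap_evalM]
    set Z : Fin m × Fin q → K := fun x => (U * W) x.1 x.2 with hZ
    by_cases hz : MvPolynomial.eval Z δ = 0
    · rw [hz, mul_zero]
    let ev : L →+* K := IsLocalization.Away.lift δ (g := MvPolynomial.eval Z) (isUnit_iff_ne_zero.mpr hz)
    have hev : ∀ y, ev (algebraMap _ L y) = MvPolynomial.eval Z y := fun y =>
      IsLocalization.Away.lift_eq δ _ y
    have hinv : MvPolynomial.eval Z δ * ev (IsLocalization.Away.invSelf δ) = 1 := by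
      rw [← hev, ← map_mul, IsLocalization.Away.mul_invSelf, map_one]
    let U0 : Matrix (Fin n) (Fin n) K := Matrix.of fun a k => U (Fin.castLE hm a) k
    let W0 : Matrix (Fin n) (Fin n) K := Matrix.of fun k b => W k (Fin.castLE hq b)
    have hZ0 : (Z0.map (MvPolynomial.eval Z)) = U0 * W0 := by
      refine Matrix.ext fun a b => ?_
      simp [Z0, genMatrix, Z, U0, W0, Matrix.mul_apply]
    have hdet : MvPolynomial.eval Z δ = U0.det * W0.det := by
      rw [← Matrix.det_mul, ← hZ0]
      exact RingHom.map_det _ _
    have hU0 : U0.det ≠ 0 := fun h => hz (by rw [hdet, h, zero_mul])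
    let A : GL (Fin n) K := Matrix.GeneralLinearGroup.mkOfDetNeZero U0 hU0
    have hcomp : MvPolynomial.eval Z g =
        MvPolynomial.eval (Sum.elim (fun x => U x.1 x.2) (fun x => W x.1 x.2)) f * MvPolynomial.eval Z δ ^ N := by
      have h1 := congrArg ev hg
      rw [map_mul, map_pow, hev, hev] at h1
      rw [← h1]
      congr 1
      conv_rhs => rw [← hf A, glTranslate_eval]
      clear h1 hg hf
      induction f using MvPolynomial.induction_on with
      | C a =>
        rw [show φ (C a) = algebraMap _ L (C a) from (φ.commutes a).trans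
          (IsScalarTower.algebraMap_apply K (MvPolynomial (Fin m × Fin q) K) L a)]
        simp [hev]
      | add x y hx hy => simp only [map_add, hx, hy]
      | mul_X x v hx =>
        rw [map_mul, map_mul, hx, map_mul]
        congr 1
        rcases v with ⟨i, k⟩ | ⟨k, j⟩
        · simp only [φ, aeval_X, Sum.elim_inl, eval_X]
          rw [map_mul, hev]
          have e1 : MvPolynomial.eval Z (((genMatrix K m q).submatrix id (Fin.castLE hq) * Z0.adjugate) i k) =
              (((U * W0) * (U0 * W0).adjugate) i k) := by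
            rw [← hZ0]
            have e3 : (Z0.map (MvPolynomial.eval Z)).adjugate = Z0.adjugate.map (MvPolynomial.eval Z) :=
              (RingHom.map_adjugate (MvPolynomial.eval Z) Z0).symm
            rw [e3, Matrix.mul_apply, Matrix.mul_apply, map_sum]
            refine Finset.sum_congr rfl fun t _ => ?_
            rw [map_mul, Matrix.map_apply]
            congr 1
            simp [genMatrix, Z, W0, Matrix.mul_apply]
          rw [e1]
          have e2 : U * W0 * (U0 * W0).adjugate =
              MvPolynomial.eval Z δ • (U * ((A⁻¹ : GL (Fin n) K) : Matrix (Fin n) (Fin n) K)) := by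
            have hAinv : U0 * ((A⁻¹ : GL (Fin n) K) : Matrix (Fin n) (Fin n) K) = 1 := by
              rw [show U0 = (A : Matrix (Fin n) (Fin n) K) from rfl, ← Units.val_mul, mul_inv_cancel, Units.val_one]
            have hAinv' : ((A⁻¹ : GL (Fin n) K) : Matrix (Fin n) (Fin n) K) * U0 = 1 := by
              rw [show U0 = (A : Matrix (Fin n) (Fin n) K) from rfl, ← Units.val_mul, inv_mul_cancel, Units.val_one]
            calc U * W0 * (U0 * W0).adjugate
                = U * ((((A⁻¹ : GL (Fin n) K) : Matrix (Fin n) (Fin n) K) * U0) * W0) * (U0 * W0).adjugate := by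
                  rw [hAinv', Matrix.one_mul]
              _ = U * ((A⁻¹ : GL (Fin n) K) : Matrix (Fin n) (Fin n) K) * ((U0 * W0) * (U0 * W0).adjugate) := by
                  simp only [Matrix.mul_assoc]
              _ = _ := by
                  rw [Matrix.mul_adjugate, Matrix.det_mul, ← hdet, Matrix.mul_smul, Matrix.mul_one]
          rw [e2, Matrix.smul_apply, smul_eq_mul, mul_right_comm, hinv, one_mul]
        · simp only [φ, aeval_X, Sum.elim_inr, eval_X, hev]
          show Z (Fin.castLE hm k, j) = (U0 * W) k j
          simp [Z, U0, Matrix.mul_apply]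
    rw [hcomp, sub_self, zero_mul]
  refine sub_eq_zero.mp ((mul_eq_zero.mp key).resolve_right fun h => ?_)
  have := congrArg (MvPolynomial.eval (Sum.elim (fun x : Fin m × Fin n => if x.1.val = x.2.val then (1 : K) else 0)
    (fun x : Fin n × Fin q => if x.1.val = x.2.val then (1 : K) else 0))) h
  rw [map_zero, pairingMap_eval (fun i k => if i.val = k.val then (1 : K) else 0)
    (fun k j => if k.val = j.val then (1 : K) else 0), eval_cornerDet] at this
  refine one_ne_zero (α := K) (Eq.trans ?_ this)
  rw [← Matrix.det_one (n := Fin n) (R := K)]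
  congr 1
  refine Matrix.ext fun a b => ?_
  rw [Matrix.of_apply, Finset.sum_eq_single a]
  · simp [Matrix.one_apply, Fin.ext_iff]
  · intro k _ hk
    rw [if_neg (by simp; exact fun h => hk (Fin.ext h.symm)), zero_mul]
  · intro h; exact absurd (mem_univ _) h

/-- Dividing by the corner minor inside the determinantal ring. -/
theorem exists_eq_mul [Infinite K] (hn : 0 < n) (hm : n < m) (hq : n < q) (g : MvPolynomial (Fin m × Fin q) K)
    (h : ∀ (U : Fin m → Fin n → K) (W : Fin n → Fin q → K),
      MvPolynomial.eval (fun p : Fin m × Fin q => ∑ k, U p.1 k * W k p.2) (cornerDet K hm.le hq.le) = 0 →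
      MvPolynomial.eval (fun p : Fin m × Fin q => ∑ k, U p.1 k * W k p.2) g = 0) :
    ∃ g1, pairingMap K n m q g = pairingMap K n m q (cornerDet K hm.le hq.le) * pairingMap K n m q g1 := by
  obtain ⟨s, rfl⟩ : ∃ s, n = s + 1 := ⟨n - 1, by omega⟩
  have hd : 0 < q := by omega
  set τ := rankIdx (r := m) hq.le hm.le with hτ
  let M0 : MinorIdx m q := ⟨s, ⟨Fin.castLE hm.le, fun a b hab => hab⟩, ⟨Fin.castLE hq.le, fun a b hab => hab⟩⟩
  have hbotτ : τ ≠ botIdx (Nat.le_add_right q m) := by
    intro h
    have h2 := congrArg (fun θ : Idx q (q + m) => (θ.1 ⟨0, hd⟩).val) h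
    simp only [τ, rankIdx, botIdx] at h2
    split_ifs at h2 <;> omega
  have hM0 : minorToIdx M0 = τ := by
    obtain ⟨M', hM'⟩ := exists_minor_of_ne_bot τ hbotτ
    refine le_antisymm ((minorToIdx_le_rankIdx_iff _ _ M0).mpr le_rfl) ?_
    rw [← hM', ← minorGE_iff]
    have hs : M'.1 + 1 ≤ s + 1 := by
      rw [← minorToIdx_le_rankIdx_iff hq.le hm.le M', hM']
    refine ⟨show M'.1 ≤ s by omega, fun j j' hj => ⟨?_, ?_⟩⟩
    · rw [Fin.le_def]
      have := val_le_idx M'.2.1 j
      show j'.val ≤ _
      omega
    · rw [Fin.le_def]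
      have := val_le_idx M'.2.2 j
      show j'.val ≤ _
      omega
  obtain ⟨e, he, hMe⟩ := bigMap_minor (K := K) M0
  rw [hM0] at hMe
  obtain ⟨D, F, hF, rfl⟩ := exists_hom_lift g
  have hlt : ∃ φ : Idx q (q + m), φ < τ :=
    ⟨botIdx (Nat.le_add_right q m), lt_of_le_of_ne (botIdx_le _ τ) hbotτ.symm⟩
  have hmem : X (botIdx (Nat.le_add_right q m)) * F ∈ plIdeal K τ ⊔ Ideal.span {X τ} := by
    rw [sup_span_top hd (Nat.le_add_right q m) τ hlt]
    simp only [Submodule.mem_iInf]
    intro φ hφ
    refine bot_mul_mem_of_le hd hq.le hm.le F D hF φ hφ.1.le fun U W hUW => h U W ?_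
    have h2 := hUW τ hφ.1.not_ge
    rw [hMe, MvPolynomial.smul_eval] at h2
    exact (mul_eq_zero.mp h2).resolve_left (fun he0 => by rw [he0, zero_mul] at he; exact zero_ne_one he)
  obtain ⟨a, ha, b, hb, hab⟩ := Submodule.mem_sup.mp hmem
  obtain ⟨c, rfl⟩ := Ideal.mem_span_singleton'.mp hb
  refine ⟨e • bigMap c, ?_⟩
  have h1 := congrArg (fun x => pairingMap K (s + 1) m q (bigMap x)) hab
  simp only [map_add, map_mul, bigMap_bot, one_mul] at h1
  rw [← h1, show pairingMap K (s + 1) m q (bigMap a) = 0 from
    minorIdeal_le_ker_pairing m (s + 1) q (bigMap_plIdeal hq.le hm.le a ha), zero_add, hMe, map_smul, map_smul,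
    mul_smul_comm, mul_smul_comm, mul_comm]
  rfl

theorem invariant_mem_range_of_lt [Infinite K] (hn : 0 < n) (hm : n < m) (hq : n < q) (f : PairRing K n m q)
    (hf : ∀ A : GL (Fin n) K, glTranslate K n m q A f = f) : f ∈ (pairingMap K n m q).range := by
  obtain ⟨N, g, hg⟩ := exists_pow_mul_mem_range hm.le hq.le f hf
  set δ := pairingMap K n m q (cornerDet K hm.le hq.le) with hδ
  induction N generalizing g with
  | zero => exact ⟨g, hg.symm.trans (by rw [pow_zero, mul_one])⟩
  | succ N ih =>
    obtain ⟨g1, hg1⟩ := exists_eq_mul hn hm hq g fun U W h0 => by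
      have := congrArg (MvPolynomial.eval (Sum.elim (fun p => U p.1 p.2) (fun p => W p.1 p.2))) hg
      rw [map_mul, map_pow, pairingMap_eval, pairingMap_eval, h0, zero_pow (Nat.succ_ne_zero N), mul_zero] at this
      exact this.symm
    refine ih g1 ?_
    have hδ0 : δ ≠ 0 := fun h => by
      have := congrArg (MvPolynomial.eval (Sum.elim (fun x : Fin m × Fin n => if x.1.val = x.2.val then (1 : K) else 0)
        (fun x : Fin n × Fin q => if x.1.val = x.2.val then (1 : K) else 0))) h
      rw [hδ, map_zero, pairingMap_eval (fun i k => if i.val = k.val then (1 : K) else 0)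
        (fun k j => if k.val = j.val then (1 : K) else 0), eval_cornerDet] at this
      refine one_ne_zero (α := K) (Eq.trans ?_ this)
      rw [← Matrix.det_one (n := Fin n) (R := K)]
      congr 1
      refine Matrix.ext fun a b => ?_
      rw [Matrix.of_apply, Finset.sum_eq_single a]
      · simp [Matrix.one_apply, Fin.ext_iff]
      · intro k _ hk
        rw [if_neg (by simp; exact fun h => hk (Fin.ext h.symm)), zero_mul]
      · intro h; exact absurd (mem_univ _) h
    refine mul_left_cancel₀ hδ0 ?_
    rw [← hg1, ← hg, pow_succ]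
    ring

/-- The first fundamental theorem. -/
theorem invariant_mem_range [Infinite K] (f : PairRing K n m q)
    (hf : ∀ A : GL (Fin n) K, glTranslate K n m q A f = f) : f ∈ (pairingMap K n m q).range := by
  rcases Nat.eq_zero_or_pos n with rfl | hn
  · refine ⟨C (coeff 0 f), ?_⟩
    rw [show (pairingMap K 0 m q).toRingHom (C (coeff 0 f)) = C (coeff 0 f) from AlgHom.commutes _ _]
    exact (eq_C_of_isEmpty f).symm
  set m' := m + (n + 1)
  set q' := q + (n + 1)
  let up : PairRing K n m q →ₐ[K] PairRing K n m' q' :=
    rename (Sum.map (fun p => (Fin.castAdd (n + 1) p.1, p.2)) (fun p => (p.1, Fin.castAdd (n + 1) p.2)))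
  let down : PairRing K n m' q' →ₐ[K] PairRing K n m q := aeval (Sum.elim
    (fun p => Fin.addCases (fun i => X (Sum.inl (i, p.2))) (fun _ => 0) p.1)
    (fun p => Fin.addCases (fun j => X (Sum.inr (p.1, j))) (fun _ => 0) p.2))
  have hdu : ∀ x, down (up x) = x := by
    intro x
    have : down.comp up = AlgHom.id K _ := MvPolynomial.algHom_ext fun v => by
      rcases v with v | v <;> simp [up, down]
    exact DFunLike.congr_fun this x
  obtain ⟨g', hg'⟩ := invariant_mem_range_of_lt (m := m') (q := q') hn (by omega) (by omega) (up f) (fun A => by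
    refine MvPolynomial.funext fun p => ?_
    let U : Matrix (Fin m') (Fin n) K := Matrix.of fun i k => p (Sum.inl (i, k))
    let W : Matrix (Fin n) (Fin q') K := Matrix.of fun k j => p (Sum.inr (k, j))
    have hp : p = Sum.elim (fun x => U x.1 x.2) (fun x => W x.1 x.2) := by
      funext x; rcases x with x | x <;> rfl
    rw [hp, glTranslate_eval]
    simp only [up, eval_rename]
    conv_rhs => rw [show (Sum.elim (fun x => U x.1 x.2) (fun x => W x.1 x.2)) ∘
      (Sum.map (fun p : Fin m × Fin n => (Fin.castAdd (n + 1) p.1, p.2))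
        (fun p : Fin n × Fin q => (p.1, Fin.castAdd (n + 1) p.2))) =
      Sum.elim (fun x => (U.submatrix (Fin.castAdd (n + 1)) id) x.1 x.2)
        (fun x => (W.submatrix id (Fin.castAdd (n + 1))) x.1 x.2) from by
          funext x; rcases x with x | x <;> rfl, ← hf A, glTranslate_eval]
    refine congrArg (fun v => MvPolynomial.eval v f) (_root_.funext fun x => ?_)
    rcases x with x | x <;> simp [Matrix.mul_apply])
  let down' : MvPolynomial (Fin m' × Fin q') K →ₐ[K] MvPolynomial (Fin m × Fin q) K := aeval fun p =>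
    Fin.addCases (fun i => Fin.addCases (fun j => X (i, j)) (fun _ => 0) p.2) (fun _ => 0) p.1
  refine ⟨down' g', ?_⟩
  have hcomm : (pairingMap K n m q).comp down' = down.comp (pairingMap K n m' q') :=
    MvPolynomial.algHom_ext fun p => by
      obtain ⟨i, j⟩ := p
      induction i using Fin.addCases with
      | left i =>
        induction j using Fin.addCases with
        | left j => simp [down', down, pairingMap]
        | right j => simp [down', down, pairingMap]
      | right i => simp [down', down, pairingMap]
  have := DFunLike.congr_fun hcomm g'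
  simp only [AlgHom.comp_apply] at this
  show pairingMap K n m q (down' g') = f
  rw [this, show pairingMap K n m' q' g' = up f from hg', hdu]

end Groth.L14.SMT
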