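import Groth.Agent.L14.SMT.Leading

/-!
Straightening in an abstract algebra.
-/

open MvPolynomial W4bk4grassmannian Finset

namespace Groth.L14.SMT

universe u

variable {d n : ℕ}

/-- Chains in `H(w)`. -/
abbrev BChain (w : Idx d n) : Type := Σ m : ℕ, {c : Fin m → Below w // Antitone c}

theorem chain_of_comparable' {α : Type*} [PartialOrder α] {A : Type*} [CommMonoid A] (y : α → A) :
    ∀ (m : ℕ) (M : Multiset α), Multiset.card M = m → (∀ a ∈ M, ∀ b ∈ M, a ≤ b ∨ b ≤ a) →
    ∃ c : Fin m → α, Antitone c ∧ (∀ k, c k ∈ M) ∧ ∏ k, y (c k) = (M.map y).prod := by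
  classical
  intro m
  induction m with
  | zero =>
    intro M hM _
    rw [Multiset.card_eq_zero.mp hM]
    exact ⟨Fin.elim0, fun a => a.elim0, fun k => k.elim0, by simp⟩
  | succ m ih =>
    intro M hM hc
    have hne : M.toFinset.Nonempty := by
      obtain ⟨a, ha⟩ := Multiset.card_pos_iff_exists_mem.mp (by rw [hM]; omega)
      exact ⟨a, Multiset.mem_toFinset.mpr ha⟩
    obtain ⟨x, hx⟩ := M.toFinset.exists_maximal hne
    have hxM : x ∈ M := Multiset.mem_toFinset.mp hx.1
    have htop : ∀ b ∈ M, b ≤ x := fun b hb => by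
      rcases hc x hxM b hb with h | h
      · exact hx.2 (Multiset.mem_toFinset.mpr hb) h
      · exact h
    obtain ⟨c, hcm, hcmem, hcp⟩ := ih (M.erase x) (by rw [Multiset.card_erase_of_mem hxM, hM]; rfl)
      (fun a ha b hb => hc a (Multiset.mem_of_mem_erase ha) b (Multiset.mem_of_mem_erase hb))
    refine ⟨Fin.cons x c, ?_, ?_, ?_⟩
    · intro a b hab
      rcases Fin.eq_zero_or_eq_succ a with rfl | ⟨a, rfl⟩
      · rcases Fin.eq_zero_or_eq_succ b with rfl | ⟨b, rfl⟩
        · exact le_rfl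
        · simpa using htop _ (Multiset.mem_of_mem_erase (hcmem b))
      · rcases Fin.eq_zero_or_eq_succ b with rfl | ⟨b, rfl⟩
        · exact absurd hab (not_le.mpr (Fin.succ_pos a))
        · simpa using hcm (Fin.succ_le_succ_iff.mp hab)
    · intro k
      rcases Fin.eq_zero_or_eq_succ k with rfl | ⟨k, rfl⟩
      · simpa using hxM
      · simpa using Multiset.mem_of_mem_erase (hcmem k)
    · rw [Fin.prod_univ_succ]
      simp only [Fin.cons_zero, Fin.cons_succ]
      rw [hcp, ← Multiset.prod_cons, ← Multiset.map_cons y, Multiset.cons_erase hxM]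

variable {S A : Type*} [CommRing S] [CommRing A] [Algebra S A] (w : Idx d n) (y : Below w → A)

theorem span_generic
    (h : ∀ a b : Below w, ¬ a ≤ b → ¬ b ≤ a → y a * y b ∈ Submodule.span S
      {f | ∃ α β : Below w, wt a.1 < wt α.1 ∧ wt b.1 < wt α.1 ∧ f = y α * y β})
    (M : Multiset (Below w)) :
    (M.map y).prod ∈ Submodule.span S (Set.range fun c : BChain w => ∏ k, y (c.2.1 k)) := by
  classical
  set T := Submodule.span S (Set.range fun c : BChain w => ∏ k, y (c.2.1 k))
  obtain ⟨m, hM⟩ : ∃ m, Multiset.card M = m := ⟨_, rfl⟩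
  let μ : Multiset (Below w) → ℕ := fun M => (M.map fun θ => 3 ^ wt θ.1).sum
  have hμ : ∀ M : Multiset (Below w), Multiset.card M = m → μ M ≤ m * 3 ^ (d * n) := by
    intro M hM
    have := Multiset.sum_le_card_nsmul (M.map fun θ => 3 ^ wt θ.1) (3 ^ (d * n)) (fun x hx => by
      obtain ⟨θ, -, rfl⟩ := Multiset.mem_map.mp hx
      exact Nat.pow_le_pow_right (by norm_num) (wt_le θ.1))
    rwa [Multiset.card_map, hM, smul_eq_mul] at this
  suffices ∀ k, ∀ M : Multiset (Below w), Multiset.card M = m → m * 3 ^ (d * n) - μ M = k →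
      (M.map y).prod ∈ T from this _ M hM rfl
  intro k
  induction k using Nat.strong_induction_on with
  | _ k ih =>
    intro M hM hk
    by_cases hcmp : ∀ a ∈ M, ∀ b ∈ M, a ≤ b ∨ b ≤ a
    · obtain ⟨c, hc1, -, hc3⟩ := chain_of_comparable' y m M hM hcmp
      rw [← hc3]
      exact Submodule.subset_span ⟨⟨m, c, hc1⟩, rfl⟩
    push Not at hcmp
    obtain ⟨a, ha, b, hb, hab, hba⟩ := hcmp
    have hne : b ≠ a := fun h => hab (h ▸ le_rfl)
    set rest := (M.erase a).erase b
    have hbM : b ∈ M.erase a := (Multiset.mem_erase_of_ne hne).mpr hb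
    have hMeq : M = a ::ₘ b ::ₘ rest := by rw [Multiset.cons_erase hbM, Multiset.cons_erase ha]
    have hμM : μ M = μ (a ::ₘ b ::ₘ rest) := congrArg μ hMeq
    have key : Submodule.span S {f | ∃ α β : Below w, wt a.1 < wt α.1 ∧ wt b.1 < wt α.1 ∧ f = y α * y β} ≤
        T.comap (LinearMap.mulRight S (rest.map y).prod) := by
      rw [Submodule.span_le]
      rintro _ ⟨α, β, h1, h2, rfl⟩
      show y α * y β * (rest.map y).prod ∈ T
      have hM' : Multiset.card (α ::ₘ β ::ₘ rest) = m := by rw [← hM, hMeq]; simp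
      have := ih _ ?_ (α ::ₘ β ::ₘ rest) hM' rfl
      · simpa [mul_assoc] using this
      · rw [← hk]
        have hlt : μ (a ::ₘ b ::ₘ rest) < μ (α ::ₘ β ::ₘ rest) := by
          simp only [μ, Multiset.map_cons, Multiset.sum_cons]
          have g1 : 3 * 3 ^ wt a.1 ≤ 3 ^ wt α.1 := by
            rw [← pow_succ']; exact Nat.pow_le_pow_right (by norm_num) h1
          have g2 : 3 * 3 ^ wt b.1 ≤ 3 ^ wt α.1 := by
            rw [← pow_succ']; exact Nat.pow_le_pow_right (by norm_num) h2
          have g3 : 1 ≤ (3 : ℕ) ^ wt β.1 := Nat.one_le_pow _ _ (by norm_num)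
          have g4 : 1 ≤ (3 : ℕ) ^ wt a.1 := Nat.one_le_pow _ _ (by norm_num)
          have g5 : 1 ≤ (3 : ℕ) ^ wt b.1 := Nat.one_le_pow _ _ (by norm_num)
          omega
        have := hμ _ hM'
        generalize μ M = A', μ (a ::ₘ b ::ₘ rest) = B', μ (α ::ₘ β ::ₘ rest) = C' at *
        omega
    have h1 := key (h a b hab hba)
    rw [Submodule.mem_comap, LinearMap.mulRight_apply] at h1
    rw [hMeq]
    simpa [mul_assoc] using h1

theorem mem_span_generic (hy : Algebra.adjoin S (Set.range y) = ⊤)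
    (h : ∀ a b : Below w, ¬ a ≤ b → ¬ b ≤ a → y a * y b ∈ Submodule.span S
      {f | ∃ α β : Below w, wt a.1 < wt α.1 ∧ wt b.1 < wt α.1 ∧ f = y α * y β})
    (x : A) : x ∈ Submodule.span S (Set.range fun c : BChain w => ∏ k, y (c.2.1 k)) := by
  have hx : x ∈ (MvPolynomial.aeval y : MvPolynomial (Below w) S →ₐ[S] A).range := by
    rw [← Algebra.adjoin_range_eq_range_aeval, hy]; trivial
  obtain ⟨p, hp⟩ := hx
  change MvPolynomial.aeval y p = x at hp
  subst hp
  induction p using MvPolynomial.induction_on' with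
  | monomial e a =>
    have h1 : (MvPolynomial.aeval y) (monomial e (1 : S)) = (e.toMultiset.map y).prod := by
      rw [Finsupp.toMultiset_map, Finsupp.prod_toMultiset,
        Finsupp.prod_mapDomain_index (fun _ => pow_zero _) (fun _ _ _ => pow_add _ _ _), aeval_monomial,
        map_one, one_mul]
    rw [← mul_one a, ← smul_eq_mul, ← MvPolynomial.smul_monomial, map_smul, h1]
    exact Submodule.smul_mem _ _ (span_generic w y h _)
  | add p q hp hq => rw [map_add]; exact add_mem hp hq

/-- The straightening data inside `H(w)`. -/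
theorem below_law {K : Type u} [Field K] (hd : 0 < d) (hdn : d ≤ n) (w : Idx d n) (a b : Below w)
    (hab : ¬ a ≤ b) (hba : ¬ b ≤ a) :
    ∃ (s : Finset (Below w × Below w)) (co : Below w × Below w → K),
      X a.1 * X b.1 - ∑ p ∈ s, co p • (X p.1.1 * X p.2.1) ∈ plIdeal K w ∧
      (∀ p ∈ s, wt a.1 < wt p.1.1 ∧ wt b.1 < wt p.1.1 ∧
        om p.1.1 + om p.2.1 ≤ om a.1 + om b.1 ∧
        (om p.1.1 + om p.2.1 = om a.1 + om b.1 → p = (Below.sup a b, Below.inf a b))) ∧
      (Below.sup a b, Below.inf a b) ∈ s ∧ co (Below.sup a b, Below.inf a b) = 1 := by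
  classical
  obtain ⟨c, hrel, hsupp, hone⟩ := straighten_law (K := K) hd hdn a.1 b.1 hab hba
  let ι : Below w × Below w → Fin 2 → Idx d n := fun p => ![p.1.1, p.2.1]
  let co : Below w × Below w → K := fun p =>
    if h : Antitone (ι p) then c ⟨ι p, h, fun k => ⟨botIdx_le hdn _, le_topIdx hdn _⟩⟩ else 0
  refine ⟨univ.filter fun p => co p ≠ 0, co, ?_, ?_, ?_, ?_⟩
  · have hsum : ∑ p ∈ univ.filter (fun p => co p ≠ 0), co p • (X p.1.1 * X p.2.1 : PlRing K d n) =
        ∑ x ∈ univ.filter (fun x : Chains (botIdx hdn) (topIdx hdn) 2 => c x ≠ 0 ∧ x.1 0 ≤ w ∧ x.1 1 ≤ w),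
          c x • chainMon K x.1 := by
      refine Finset.sum_bij' (fun p hp => ⟨ι p, ?_, fun k => ⟨botIdx_le hdn _, le_topIdx hdn _⟩⟩)
        (fun x hx => (⟨x.1 0, (Finset.mem_filter.mp hx).2.2.1⟩, ⟨x.1 1, (Finset.mem_filter.mp hx).2.2.2⟩))
        ?_ ?_ ?_ ?_ ?_
      · by_contra hh
        exact (Finset.mem_filter.mp hp).2 (dif_neg hh)
      · intro p hp
        have hh : Antitone (ι p) := by
          by_contra hh; exact (Finset.mem_filter.mp hp).2 (dif_neg hh)
        refine Finset.mem_filter.mpr ⟨Finset.mem_univ _, ?_, p.1.2, p.2.2⟩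
        have h2 := (Finset.mem_filter.mp hp).2
        simpa only [co, dif_pos hh] using h2
      · intro x hx
        refine Finset.mem_filter.mpr ⟨Finset.mem_univ _, ?_⟩
        have he : ι (⟨x.1 0, (Finset.mem_filter.mp hx).2.2.1⟩, ⟨x.1 1, (Finset.mem_filter.mp hx).2.2.2⟩) = x.1 := by
          funext k; fin_cases k <;> rfl
        simp only [co]
        rw [dif_pos (he.symm ▸ x.2.1)]
        simp only [he]
        exact (Finset.mem_filter.mp hx).2.1
      · intro p hp; rfl
      · intro x hx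
        exact Subtype.ext (funext fun k => by fin_cases k <;> rfl)
      · intro p hp
        have hh : Antitone (ι p) := by
          by_contra hh; exact (Finset.mem_filter.mp hp).2 (dif_neg hh)
        simp only [co, dif_pos hh, chainMon, Fin.prod_univ_two]
        rfl
    rw [hsum]
    have h1 := plIdealTop_le w hrel
    rw [← Finset.sum_filter_add_sum_filter_not univ
      (fun x : Chains (botIdx hdn) (topIdx hdn) 2 => c x ≠ 0 ∧ x.1 0 ≤ w ∧ x.1 1 ≤ w), ← sub_sub] at h1
    have h2 : ∑ x ∈ univ.filter (fun x : Chains (botIdx hdn) (topIdx hdn) 2 =>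
        ¬ (c x ≠ 0 ∧ x.1 0 ≤ w ∧ x.1 1 ≤ w)), c x • chainMon K x.1 ∈ plIdeal K w := by
      refine Submodule.sum_mem _ fun x hx => ?_
      by_cases hc0 : c x = 0
      · rw [hc0, zero_smul]; exact zero_mem _
      rw [MvPolynomial.smul_eq_C_mul]
      refine Ideal.mul_mem_left _ _ (chainMon_mem_plIdeal _ ?_)
      by_contra hcon
      push Not at hcon
      exact (Finset.mem_filter.mp hx).2 ⟨hc0, hcon 0, hcon 1⟩
    have := add_mem h1 h2
    rwa [sub_add_cancel] at this
  · intro p hp
    have hh : Antitone (ι p) := by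
      by_contra hh; exact (Finset.mem_filter.mp hp).2 (dif_neg hh)
    have hne := (Finset.mem_filter.mp hp).2
    simp only [co, dif_pos hh] at hne
    obtain ⟨g1, g2, -, -, g5, g6, g7⟩ := hsupp _ hne
    have g1' : a.1 ≤ p.1.1 := g1
    have g2' : b.1 ≤ p.1.1 := g2
    refine ⟨?_, ?_, g6, fun heq => ?_⟩
    · refine lt_of_le_of_ne (Finset.sum_le_sum fun t _ => Fin.le_def.mp (g1' t)) fun h => ?_
      exact hba (show b.1 ≤ a.1 from (eq_of_le_of_wt g1' h).symm ▸ g2')
    · refine lt_of_le_of_ne (Finset.sum_le_sum fun t _ => Fin.le_def.mp (g2' t)) fun h => ?_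
      exact hab (show a.1 ≤ b.1 from (eq_of_le_of_wt g2' h).symm ▸ g1')
    · obtain ⟨e0, e1⟩ := g7 heq
      exact Prod.ext (Subtype.ext e0) (Subtype.ext e1)
  all_goals
    have hh : Antitone (ι (Below.sup a b, Below.inf a b)) := by
      intro p q hpq
      fin_cases p <;> fin_cases q
      · exact le_rfl
      · exact fun t => le_trans (min_le_left _ _) (le_max_left _ _)
      · exact absurd hpq (by decide)
      · exact le_rfl
    have h1 : co (Below.sup a b, Below.inf a b) = 1 := by
      simp only [co, dif_pos hh]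
      exact hone _ rfl rfl
  · exact Finset.mem_filter.mpr ⟨Finset.mem_univ _, by rw [h1]; exact one_ne_zero⟩
  · exact h1

end Groth.L14.SMT
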