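import Mathlib.RingTheory.GradedAlgebra.Homogeneous.Ideal
import Mathlib.RingTheory.GradedAlgebra.Radical
import Mathlib.RingTheory.GradedAlgebra.FiniteType
import Mathlib.RingTheory.FiniteType
import Mathlib.RingTheory.Noetherian.Nilpotent
import Mathlib.RingTheory.GradedAlgebra.Noetherian
import Mathlib.Algebra.Group.Submonoid.BigOperators
import Mathlib.RingTheory.Adjoin.FG
import Mathlib.Algebra.Algebra.Operations
import Mathlib.Tactic.Ring

/-!
Generators of `ℕ`-graded algebras: irrelevant ideal versus algebra generators over degree zero,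
and stabilisation of degrees.
-/

noncomputable section

namespace Groth.L14.GradedGen

open HomogeneousIdeal DirectSum

universe u v

variable {R : Type u} {A : Type v} [CommRing R] [CommRing A] [Algebra R A]
variable (𝒜 : ℕ → Submodule R A) [GradedAlgebra 𝒜]

theorem proj_mul_of_right_mem {c e : A} {d : ℕ} (he : e ∈ 𝒜 d) (n : ℕ) :
    GradedRing.proj 𝒜 n (c * e) = if d ≤ n then GradedRing.proj 𝒜 (n - d) c * e else 0 := by
  rw [GradedRing.proj_apply, GradedRing.proj_apply]
  exact DirectSum.coe_decompose_mul_of_right_mem 𝒜 n he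

theorem proj_of_mem {a : A} {n : ℕ} (ha : a ∈ 𝒜 n) : GradedRing.proj 𝒜 n a = a := by
  rw [GradedRing.proj_apply, DirectSum.decompose_of_mem_same 𝒜 ha]

theorem proj_of_mem_ne {a : A} {m n : ℕ} (ha : a ∈ 𝒜 m) (h : m ≠ n) :
    GradedRing.proj 𝒜 n a = 0 := by
  rw [GradedRing.proj_apply, DirectSum.decompose_of_mem_ne 𝒜 ha h]

theorem proj_mem (a : A) (n : ℕ) : GradedRing.proj 𝒜 n a ∈ 𝒜 n := by
  rw [GradedRing.proj_apply]
  exact SetLike.coe_mem _

theorem sub_proj_zero_mem_irrelevant (a : A) :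
    a - GradedRing.proj 𝒜 0 a ∈ (irrelevant 𝒜).toIdeal := by
  rw [HomogeneousIdeal.mem_iff, mem_irrelevant_iff, map_sub, proj_of_mem 𝒜 (proj_mem 𝒜 a 0), sub_self]

theorem mem_adjoin_of_irrelevant_le_span (E : Set A) (hE : ∀ e ∈ E, ∃ d : ℕ, 0 < d ∧ e ∈ 𝒜 d)
    (h : (irrelevant 𝒜).toIdeal ≤ Ideal.span E) (n : ℕ) :
    ∀ a ∈ 𝒜 n, a ∈ Algebra.adjoin (𝒜 0) E := by
  induction n using Nat.strong_induction_on with
  | _ n IH =>
    intro a ha
    rcases Nat.eq_zero_or_pos n with rfl | hn
    · exact Subalgebra.algebraMap_mem (Algebra.adjoin (𝒜 0) E) (⟨a, ha⟩ : 𝒜 0)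
    · have hspan : a ∈ Ideal.span E := h (mem_irrelevant_of_mem 𝒜 hn ha)
      suffices H : ∀ x ∈ Ideal.span E, ∀ c : A,
          GradedRing.proj 𝒜 n (c * x) ∈ Algebra.adjoin (𝒜 0) E by
        have := H a hspan 1
        rwa [one_mul, proj_of_mem 𝒜 ha] at this
      intro x hx
      refine Submodule.span_induction ?_ ?_ ?_ ?_ hx
      · intro e he c
        obtain ⟨d, hd, hed⟩ := hE e he
        rw [proj_mul_of_right_mem 𝒜 hed]
        split
        · exact mul_mem (IH (n - d) (by omega) _ (proj_mem 𝒜 _ _)) (Algebra.subset_adjoin he)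
        · exact zero_mem _
      · intro c; simp
      · intro x y _ _ hx hy c
        rw [mul_add, map_add]
        exact add_mem (hx c) (hy c)
      · intro r x _ hx c
        rw [smul_eq_mul, ← mul_assoc]
        exact hx _

theorem irrelevant_eq_span_iff (E : Set A) (hE : ∀ e ∈ E, ∃ d : ℕ, 0 < d ∧ e ∈ 𝒜 d) :
    (irrelevant 𝒜).toIdeal = Ideal.span E ↔ Algebra.adjoin (𝒜 0) E = ⊤ := by
  classical
  have hle : Ideal.span E ≤ (irrelevant 𝒜).toIdeal := by
    rw [Ideal.span_le]
    intro e he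
    obtain ⟨d, hd, hed⟩ := hE e he
    exact mem_irrelevant_of_mem 𝒜 hd hed
  constructor
  · intro h
    rw [_root_.eq_top_iff]
    rintro a -
    rw [← DirectSum.sum_support_decompose 𝒜 a]
    exact sum_mem fun i _ => mem_adjoin_of_irrelevant_le_span 𝒜 E hE h.le i _ (SetLike.coe_mem _)
  · intro h
    refine le_antisymm ?_ hle
    intro x hx
    have key : ∀ y ∈ Algebra.adjoin (𝒜 0) E, y - GradedRing.proj 𝒜 0 y ∈ Ideal.span E := by
      intro y hy
      induction hy using Algebra.adjoin_induction with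
      | mem y hy =>
        obtain ⟨d, hd, hyd⟩ := hE y hy
        rw [proj_of_mem_ne 𝒜 hyd hd.ne', sub_zero]
        exact Ideal.subset_span hy
      | algebraMap r =>
        rw [show algebraMap (𝒜 0) A r = (r : A) from rfl, proj_of_mem 𝒜 r.2, sub_self]
        exact zero_mem _
      | add y z _ _ hy hz =>
        rw [map_add, add_sub_add_comm]
        exact add_mem hy hz
      | mul y z _ _ hy hz =>
        have : GradedRing.proj 𝒜 0 (y * z) = GradedRing.proj 𝒜 0 y * GradedRing.proj 𝒜 0 z := by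
          exact map_mul (GradedRing.projZeroRingHom 𝒜) y z
        rw [this]
        convert! add_mem (Ideal.mul_mem_left _ y hz)
          (Ideal.mul_mem_right (GradedRing.proj 𝒜 0 z) _ hy) using 1
        ring
    have := key x (h ▸ Algebra.mem_top)
    rwa [(mem_irrelevant_iff 𝒜 x).mp hx, sub_zero] at this

theorem finiteType_iff_irrelevant_fg :
    (irrelevant 𝒜).toIdeal.FG ↔ Algebra.FiniteType (𝒜 0) A := by
  classical
  constructor
  · rintro ⟨s, hs⟩
    let T : Finset A := s.biUnion fun x =>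
      ((DirectSum.decompose 𝒜 x).support.filter (· ≠ 0)).image fun i => (DirectSum.decompose 𝒜 x i : A)
    have hT : ∀ e ∈ (T : Set A), ∃ d : ℕ, 0 < d ∧ e ∈ 𝒜 d := by
      intro e he
      simp only [T, Finset.mem_coe, Finset.mem_biUnion, Finset.mem_image, Finset.mem_filter] at he
      obtain ⟨x, hx, i, ⟨hi, hi0⟩, rfl⟩ := he
      exact ⟨i, Nat.pos_of_ne_zero hi0, SetLike.coe_mem _⟩
    have hspan : (irrelevant 𝒜).toIdeal = Ideal.span (T : Set A) := by
      apply le_antisymm
      · rw [← hs, Ideal.span_le]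
        intro x hx
        have hx' : GradedRing.proj 𝒜 0 x = 0 := by
          rw [← mem_irrelevant_iff, ← HomogeneousIdeal.mem_iff, ← hs]
          exact Submodule.subset_span hx
        rw [← DirectSum.sum_support_decompose 𝒜 x]
        refine Ideal.sum_mem _ fun i hi => ?_
        rcases eq_or_ne i 0 with rfl | hi0
        · rw [GradedRing.proj_apply] at hx'
          rw [hx']; exact zero_mem _
        · apply Ideal.subset_span
          simp only [T, Finset.mem_coe, Finset.mem_biUnion, Finset.mem_image, Finset.mem_filter]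
          exact ⟨x, hx, i, ⟨hi, hi0⟩, rfl⟩
      · rw [Ideal.span_le]
        intro e he
        obtain ⟨d, hd, hed⟩ := hT e he
        exact mem_irrelevant_of_mem 𝒜 hd hed
    exact ⟨⟨T, (irrelevant_eq_span_iff 𝒜 _ hT).mp hspan⟩⟩
  · intro h
    obtain ⟨s, hs, hs'⟩ := GradedAlgebra.exists_finset_adjoin_eq_top_and_homogeneous_ne_zero 𝒜
    refine ⟨s, ((irrelevant_eq_span_iff 𝒜 _ fun e he => ?_).mpr hs).symm⟩
    obtain ⟨n, hn, hn'⟩ := hs' e he
    exact ⟨n, Nat.pos_of_ne_zero hn, hn'⟩

end Groth.L14.GradedGen
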