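import Groth.Prelude.Def_CAlg
import Groth.Agent.L14.SMT.CMSchubert
import Groth.Agent.L14.SMT.GradedGen
import Mathlib.RingTheory.GradedAlgebra.Radical

/-!
The vertex of a graded algebra over a field.
-/

open HomogeneousIdeal

namespace Groth.L14.Vertex

universe u v

variable {K : Type u} [Field K] {A : Type v} [CommRing A] [Algebra K A] [IsNoetherianRing A]
  {𝒜 : ℕ → Submodule K A} [GradedAlgebra 𝒜] (h0 : ∀ a ∈ 𝒜 0, ∃ c : K, algebraMap K A c = a)

include h0

theorem finiteType : Algebra.FiniteType K A := by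
  haveI h1 : Algebra.FiniteType (𝒜 0) A :=
    (Groth.L14.GradedGen.finiteType_iff_irrelevant_fg 𝒜).mp (IsNoetherian.noetherian _)
  haveI h2 : Algebra.FiniteType K (𝒜 0) :=
    Algebra.FiniteType.of_surjective (Algebra.ofId K (𝒜 0)) fun a => by
      obtain ⟨c, hc⟩ := h0 a.1 a.2
      exact ⟨c, Subtype.ext hc⟩
  haveI : IsScalarTower K (𝒜 0) A := ⟨fun c x a => by
    show ((c • x : 𝒜 0) : A) * a = c • ((x : A) * a)
    rw [SetLike.val_smul, smul_mul_assoc]⟩
  exact Algebra.FiniteType.trans (S := 𝒜 0) h2 h1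

omit [IsNoetherianRing A] in
theorem irrelevant_isMaximal [Nontrivial A] : (irrelevant 𝒜).toIdeal.IsMaximal := by
  rw [Ideal.isMaximal_iff]
  refine ⟨fun h => ?_, fun J x hle hx hxJ => ?_⟩
  · rw [HomogeneousIdeal.mem_iff, mem_irrelevant_iff, GradedRing.proj_apply,
      DirectSum.decompose_of_mem_same 𝒜 (SetLike.one_mem_graded 𝒜)] at h
    exact one_ne_zero h
  · obtain ⟨c, hc⟩ := h0 _ (SetLike.coe_mem (DirectSum.decompose 𝒜 x 0))
    have hc0 : c ≠ 0 := by
      rintro rfl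
      rw [map_zero] at hc
      exact hx ((mem_irrelevant_iff 𝒜 x).mpr hc.symm)
    have h1 : x - algebraMap K A c ∈ J := hle ((mem_irrelevant_iff 𝒜 _).mpr (by
      rw [map_sub, GradedRing.proj_apply, GradedRing.proj_apply, hc,
        DirectSum.decompose_of_mem_same 𝒜 (SetLike.coe_mem (DirectSum.decompose 𝒜 x 0)), sub_self]))
    have h2 : algebraMap K A c ∈ J := by simpa using sub_mem hxJ h1
    have h3 := J.mul_mem_left (algebraMap K A c⁻¹) h2
    rwa [← map_mul, inv_mul_cancel₀ hc0, map_one] at h3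

omit [IsNoetherianRing A] in
theorem le_irrelevant {J : Ideal A} (hJ : J.IsHomogeneous 𝒜) (hne : J ≠ ⊤) :
    J ≤ (irrelevant 𝒜).toIdeal := fun x hx => by
  obtain ⟨c, hc⟩ := h0 _ (SetLike.coe_mem (DirectSum.decompose 𝒜 x 0))
  have hmem : algebraMap K A c ∈ J := hc ▸ hJ 0 hx
  by_cases hc0 : c = 0
  · subst hc0
    rw [map_zero] at hc
    exact (mem_irrelevant_iff 𝒜 x).mpr hc.symm
  · exact absurd (J.eq_top_of_isUnit_mem hmem ((isUnit_iff_ne_zero.mpr hc0).map _)) hne

/-- The dimension of a homogeneous quotient is the height of the vertex. -/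
theorem ringKrullDim_le_height {J : Ideal A} (hJ : J.IsHomogeneous 𝒜) :
    ringKrullDim (A ⧸ J) ≤ (((irrelevant 𝒜).toIdeal.map (Ideal.Quotient.mk J)).height : WithBot ℕ∞) := by
  rw [ringKrullDim_quotient]
  refine iSup_le fun l => ?_
  obtain ⟨P, ⟨hPmin, hPl⟩⟩ := Ideal.exists_minimalPrimes_le (J := l.head.1.asIdeal) l.head.2
  haveI : P.IsPrime := hPmin.1.1
  haveI : Nontrivial A := ⟨⟨0, 1, fun h => Ideal.IsPrime.ne_top ‹P.IsPrime›
    ((Ideal.eq_top_iff_one _).mpr (h ▸ P.zero_mem))⟩⟩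
  have hle : J ≤ (P.homogeneousCore 𝒜).toIdeal := by
    rw [← hJ.toIdeal_homogeneousCore_eq_self]
    exact Ideal.homogeneousCore_mono 𝒜 hPmin.1.2
  have hPhom : P.IsHomogeneous 𝒜 := by
    have := hPmin.2 ⟨Ideal.IsPrime.homogeneousCore (I := P) inferInstance, hle⟩
      (Ideal.toIdeal_homogeneousCore_le _ P)
    rw [le_antisymm this (Ideal.toIdeal_homogeneousCore_le _ P)]
    exact (P.homogeneousCore 𝒜).isHomogeneous
  have hPv : P ≤ (irrelevant 𝒜).toIdeal := le_irrelevant h0 hPhom (Ideal.IsPrime.ne_top ‹P.IsPrime›)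
  haveI hMmax := irrelevant_isMaximal (𝒜 := 𝒜) h0
  haveI := finiteType (𝒜 := 𝒜) h0
  -- the scalars, inside `A`
  set k : Subalgebra K A := ⊥
  have hk : IsField k := (Algebra.botEquiv K A).toMulEquiv.isField (Field.toIsField K)
  letI : Field k := hk.toField
  haveI : Algebra.FiniteType k A := Algebra.FiniteType.of_restrictScalars_finiteType K k A
  haveI : Algebra.FiniteType k (A ⧸ P) :=
    Algebra.FiniteType.of_surjective (Ideal.Quotient.mkₐ k P) Ideal.Quotient.mk_surjective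
  set f : (A ⧸ J) →+* A ⧸ P := Ideal.Quotient.factor hPmin.1.2
  have hA1 : (l.length : WithBot ℕ∞) ≤ ringKrullDim (A ⧸ P) := by
    rw [ringKrullDim_quotient]
    refine le_iSup_of_le ⟨l.length, fun i => ⟨(l i).1, fun x hx => ?_⟩, fun i => l.step i⟩ le_rfl
    exact (l.monotone (Fin.zero_le i) : l.head ≤ l i) (hPl hx)
  haveI : ((irrelevant 𝒜).toIdeal.map (Ideal.Quotient.mk P)).IsMaximal :=
    Ideal.IsMaximal.map_of_surjective_of_ker_le Ideal.Quotient.mk_surjective (by rwa [Ideal.mk_ker])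
  have hA2 : (((irrelevant 𝒜).toIdeal.map (Ideal.Quotient.mk P)).height : WithBot ℕ∞) = ringKrullDim (A ⧸ P) :=
    Groth.L22.AffineDim.height_of_isMaximal k (A ⧸ P) _
  rw [← hA2] at hA1
  refine hA1.trans (WithBot.coe_le_coe.mpr ?_)
  have hJv : J ≤ (irrelevant 𝒜).toIdeal := hPmin.1.2.trans hPv
  haveI : ((irrelevant 𝒜).toIdeal.map (Ideal.Quotient.mk J)).IsPrime :=
    (Ideal.IsMaximal.map_of_surjective_of_ker_le Ideal.Quotient.mk_surjective (by rwa [Ideal.mk_ker])).isPrime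
  let qP : PrimeSpectrum (A ⧸ P) :=
    ⟨(irrelevant 𝒜).toIdeal.map (Ideal.Quotient.mk P), Ideal.IsMaximal.isPrime inferInstance⟩
  let qJ : PrimeSpectrum (A ⧸ J) := ⟨(irrelevant 𝒜).toIdeal.map (Ideal.Quotient.mk J), inferInstance⟩
  show qP.asIdeal.height ≤ qJ.asIdeal.height
  rw [PrimeSpectrum.height_eq_orderHeight, PrimeSpectrum.height_eq_orderHeight]
  refine le_trans (Order.height_le_height_apply_of_strictMono (PrimeSpectrum.comap f)
    (fun a b hab => lt_of_le_of_ne (Ideal.comap_mono hab.le) fun h => hab.ne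
      (PrimeSpectrum.comap_injective_of_surjective f (Ideal.Quotient.factor_surjective _) h)) _) (le_of_eq ?_)
  congr 1
  refine PrimeSpectrum.ext ?_
  show Ideal.comap f ((irrelevant 𝒜).toIdeal.map (Ideal.Quotient.mk P)) = _
  refine Ideal.comap_injective_of_surjective _ (Ideal.Quotient.mk_surjective (I := J)) ?_
  rw [Ideal.comap_comap, Ideal.Quotient.factor_comp_mk, Ideal.comap_map_of_surjective _ Ideal.Quotient.mk_surjective,
    Ideal.comap_map_of_surjective _ Ideal.Quotient.mk_surjective, ← RingHom.ker_eq_comap_bot,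
    ← RingHom.ker_eq_comap_bot, Ideal.mk_ker, Ideal.mk_ker, sup_eq_left.mpr hPv, sup_eq_left.mpr hJv]

omit h0 in
/-- Depth over `A` of a quotient ring. -/
theorem idealDepth_quotient (J : Ideal A) (M : Ideal A) :
    LocCoh.idealDepth M (A ⧸ J) = LocCoh.idealDepth (M.map (Ideal.Quotient.mk J)) (A ⧸ J) :=
  Groth.L04.idealDepth_eq_idealDepth_map_of_finite (R := A) (B := A ⧸ J) M (A ⧸ J)

/-- A Cohen–Macaulay homogeneous quotient has full depth at the vertex. -/
theorem le_idealDepth_of_cm {J : Ideal A} (hJ : J.IsHomogeneous 𝒜) (e : ℕ)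
    (hcm : LocCoh.IsCohenMacaulayRing (A ⧸ J)) (hdim : ringKrullDim (A ⧸ J) = (e : WithBot ℕ∞)) :
    (e : ℕ∞) ≤ LocCoh.idealDepth (irrelevant 𝒜).toIdeal (A ⧸ J) := by
  haveI : Nontrivial (A ⧸ J) := by
    by_contra h
    rw [not_nontrivial_iff_subsingleton] at h
    rw [ringKrullDim_eq_bot_of_subsingleton] at hdim
    exact absurd hdim.symm (WithBot.natCast_ne_bot e)
  haveI : Nontrivial A := Ideal.Quotient.mk_surjective.nontrivial (f := Ideal.Quotient.mk J)
  have hJne : J ≠ ⊤ := Ideal.Quotient.nontrivial_iff.mp ‹_›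
  have hJv := le_irrelevant h0 hJ hJne
  haveI := irrelevant_isMaximal (𝒜 := 𝒜) h0
  set m := (irrelevant 𝒜).toIdeal.map (Ideal.Quotient.mk J)
  haveI hm : m.IsMaximal :=
    Ideal.IsMaximal.map_of_surjective_of_ker_le Ideal.Quotient.mk_surjective (by rwa [Ideal.mk_ker])
  rw [idealDepth_quotient, Groth.L04.idealDepth_eq_iInf_depth]
  refine le_iInf₂ fun p hp => ?_
  obtain rfl : p = ⟨m, hm.isPrime⟩ := PrimeSpectrum.ext (hm.eq_of_le p.isPrime.ne_top hp).symm
  rw [Groth.L04.depth_localizedModule_self]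
  have h1 := (hcm.isCohenMacaulayLocalRing_localization m).supportDim_eq_depth
  rw [Module.supportDim_self_eq_ringKrullDim, IsLocalization.AtPrime.ringKrullDim_eq_height m] at h1
  have h2 := ringKrullDim_le_height h0 hJ
  rw [hdim, h1] at h2
  exact_mod_cast h2

end Groth.L14.Vertex
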