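import Groth.Agent.L14.SMT.Straighten
import Mathlib.LinearAlgebra.Matrix.Block
import Mathlib.Algebra.MvPolynomial.Funext
import Mathlib.RingTheory.Ideal.Maps

open MvPolynomial W4bk4grassmannian Finset

namespace Groth.L14.SMT

universe u

variable {K : Type u} [CommRing K] {d n : ℕ}

/-- The staircase matrix between `v` and `w`. -/
noncomputable def zmat (v w : Idx d n) : Matrix (Fin n) (Fin d) (MatRing K d n) :=
  Matrix.of fun i t => if v.1 t ≤ i ∧ i ≤ w.1 t then X (i, t) else 0

/-- Plücker coordinates of the staircase matrix. -/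
noncomputable def proj (v w : Idx d n) : PlRing K d n →ₐ[K] MatRing K d n :=
  MvPolynomial.aeval fun θ => ((zmat v w).submatrix θ.1 id).det

theorem proj_X (v w θ : Idx d n) : proj (K := K) v w (X θ) = ((zmat v w).submatrix θ.1 id).det :=
  aeval_X _ _

theorem det_zero_block {R : Type*} [CommRing R] (M : Matrix (Fin d) (Fin d) R) (S T : Finset (Fin d))
    (hcard : d < S.card + T.card) (h : ∀ r ∈ S, ∀ t ∈ T, M r t = 0) : M.det = 0 := by
  classical
  rw [Matrix.det_apply]
  refine Finset.sum_eq_zero fun σ _ => ?_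
  obtain ⟨t, htT, htS⟩ : ∃ t ∈ T, σ t ∈ S := by
    by_contra hc
    push Not at hc
    have : T.image σ ⊆ Sᶜ := by
      intro x hx
      obtain ⟨t, ht, rfl⟩ := Finset.mem_image.mp hx
      exact Finset.mem_compl.mpr (hc t ht)
    have := Finset.card_le_card this
    rw [Finset.card_image_of_injective _ σ.injective, Finset.card_compl, Fintype.card_fin] at this
    have h2 := Finset.card_le_univ S
    rw [Fintype.card_fin] at h2
    omega
  have h0 : (∏ i, M (σ i) i) = 0 :=
    Finset.prod_eq_zero (f := fun i => M (σ i) i) (Finset.mem_univ t) (h _ htS t htT)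
  show Equiv.Perm.sign σ • (∏ i, M (σ i) i) = 0
  rw [h0, smul_zero]

theorem minor_eq_zero (v w θ : Idx d n) (h : ¬ (v ≤ θ ∧ θ ≤ w)) :
    ((zmat (K := K) v w).submatrix θ.1 id).det = 0 := by
  classical
  have hz : ∀ (r t : Fin d), (θ.1 r < v.1 t ∨ w.1 t < θ.1 r) → (zmat (K := K) v w).submatrix θ.1 id r t = 0 := by
    intro r t hrt
    show (if v.1 t ≤ θ.1 r ∧ θ.1 r ≤ w.1 t then X (θ.1 r, t) else (0 : MatRing K d n)) = 0
    rw [if_neg]
    rintro ⟨h1, h2⟩
    rcases hrt with hrt | hrt
    · exact absurd h1 (not_le.mpr hrt)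
    · exact absurd h2 (not_le.mpr hrt)
  rw [not_and_or] at h
  rcases h with h | h
  · obtain ⟨t, ht⟩ : ∃ t, θ.1 t < v.1 t := by
      by_contra hc; push Not at hc; exact h hc
    refine det_zero_block _ (Iic t) (Ici t) ?_ fun r hr c hc => hz r c (Or.inl ?_)
    · rw [Fin.card_Iic, Fin.card_Ici]; omega
    · calc θ.1 r ≤ θ.1 t := θ.2.monotone (Finset.mem_Iic.mp hr)
        _ < v.1 t := ht
        _ ≤ v.1 c := v.2.monotone (Finset.mem_Ici.mp hc)
  · obtain ⟨t, ht⟩ : ∃ t, w.1 t < θ.1 t := by
      by_contra hc; push Not at hc; exact h hc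
    refine det_zero_block _ (Ici t) (Iic t) ?_ fun r hr c hc => hz r c (Or.inr ?_)
    · rw [Fin.card_Iic, Fin.card_Ici]; omega
    · calc w.1 c ≤ w.1 t := w.2.monotone (Finset.mem_Iic.mp hc)
        _ < θ.1 t := ht
        _ ≤ θ.1 r := θ.2.monotone (Finset.mem_Ici.mp hr)

theorem minor_top (v w : Idx d n) (hvw : v ≤ w) :
    ((zmat (K := K) v w).submatrix w.1 id).det = ∏ t, X (w.1 t, t) := by
  rw [Matrix.det_of_isUpperTriangular]
  · refine Finset.prod_congr rfl fun t _ => ?_
    show (if v.1 t ≤ w.1 t ∧ w.1 t ≤ w.1 t then X (w.1 t, t) else (0 : MatRing K d n)) = _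
    rw [if_pos ⟨hvw t, le_rfl⟩]
  · intro r c hrc
    show (if v.1 c ≤ w.1 r ∧ w.1 r ≤ w.1 c then X (w.1 r, c) else (0 : MatRing K d n)) = _
    rw [if_neg]
    exact fun hh => absurd hh.2 (not_le.mpr (w.2 hrc))

theorem minor_top_ne_zero [IsDomain K] (v w : Idx d n) (hvw : v ≤ w) :
    ((zmat (K := K) v w).submatrix w.1 id).det ≠ 0 := by
  rw [minor_top v w hvw]
  exact Finset.prod_ne_zero_iff.mpr fun t _ => X_ne_zero _

theorem minor_bot_ne_zero [IsDomain K] (v w : Idx d n) (hvw : v ≤ w) :
    ((zmat (K := K) v w).submatrix v.1 id).det ≠ 0 := by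
  rw [Matrix.det_of_isLowerTriangular]
  · refine Finset.prod_ne_zero_iff.mpr fun t _ => ?_
    show (if v.1 t ≤ v.1 t ∧ v.1 t ≤ w.1 t then X (v.1 t, t) else (0 : MatRing K d n)) ≠ 0
    rw [if_pos ⟨le_rfl, hvw t⟩]
    exact X_ne_zero _
  · intro r c hrc
    show (if v.1 c ≤ v.1 r ∧ v.1 r ≤ w.1 c then X (v.1 r, c) else (0 : MatRing K d n)) = _
    rw [if_neg]
    exact fun hh => absurd hh.1 (not_le.mpr (v.2 hrc))

/-- Restriction to a smaller staircase. -/
noncomputable def spec (v w : Idx d n) : MatRing K d n →ₐ[K] MatRing K d n :=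
  MvPolynomial.aeval fun p => zmat v w p.1 p.2

theorem spec_zmat (v w v' w' : Idx d n) (hv : v ≤ v') (hw : w' ≤ w) :
    (zmat (K := K) v w).map (spec (K := K) v' w') = zmat v' w' := by
  ext1 i t
  show spec v' w' (if v.1 t ≤ i ∧ i ≤ w.1 t then X (i, t) else 0) = _
  split_ifs with h
  · rw [spec, aeval_X]
  · rw [map_zero]
    show (0 : MatRing K d n) = if v'.1 t ≤ i ∧ i ≤ w'.1 t then X (i, t) else 0
    rw [if_neg]
    exact fun hh => h ⟨(hv t).trans hh.1, hh.2.trans (hw t)⟩

theorem spec_proj (v w v' w' : Idx d n) (hv : v ≤ v') (hw : w' ≤ w) (f : PlRing K d n) :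
    spec v' w' (proj v w f) = proj v' w' f := by
  rw [← AlgHom.comp_apply]
  congr 1
  refine MvPolynomial.algHom_ext fun θ => ?_
  rw [AlgHom.comp_apply, proj_X, proj_X, AlgHom.map_det, ← spec_zmat v w v' w' hv hw]
  rfl

theorem proj_chain (v w : Idx d n) {m : ℕ} (c : Fin m → Idx d n) :
    proj (K := K) v w (chainMon K c) = ∏ k, ((zmat v w).submatrix (c k).1 id).det := by
  rw [chainMon, map_prod]
  exact Finset.prod_congr rfl fun k _ => proj_X v w _

theorem proj_chain_eq_zero (v w : Idx d n) {m : ℕ} (c : Fin m → Idx d n)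
    (h : ∃ k, ¬ (v ≤ c k ∧ c k ≤ w)) : proj (K := K) v w (chainMon K c) = 0 := by
  obtain ⟨k, hk⟩ := h
  rw [proj_chain]
  exact Finset.prod_eq_zero (Finset.mem_univ k) (minor_eq_zero v w _ hk)

section indep

variable [IsDomain K]

theorem indep_deg (v : Idx d n) : ∀ (m : ℕ) (w : Idx d n), v ≤ w → ∀ a : Chains v w m → K,
    ∑ c, a c • proj v w (chainMon K c.1) = 0 → a = 0 := by
  classical
  intro m
  induction m with
  | zero =>
    intro w _ a h
    funext c
    have hu : ∀ c' : Chains v w 0, c' = c := fun c' => Subtype.ext (funext fun k => k.elim0)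
    rw [Fintype.sum_eq_single c fun c' hc' => absurd (hu c') hc'] at h
    simp [chainMon] at h
    simpa using h
  | succ m ihm =>
    intro w
    induction w using (wellFounded_lt (α := Idx d n)).induction with
    | _ w ihw =>
    intro hvw a h
    have h1 : ∀ c : Chains v w (m + 1), c.1 0 ≠ w → a c = 0 := by
      intro c hc
      have hu : c.1 0 < w := lt_of_le_of_ne (c.2.2 0).2 hc
      set u := c.1 0
      let incl : Chains v u (m + 1) → Chains v w (m + 1) := fun c' =>
        ⟨c'.1, c'.2.1, fun k => ⟨(c'.2.2 k).1, ((c'.2.2 k).2).trans hu.le⟩⟩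
      have hinj : Function.Injective incl := fun p q hpq =>
        Subtype.ext (congrArg (fun x : Chains v w (m + 1) => x.1) hpq : p.1 = q.1)
      have h' := congrArg (spec (K := K) v u) h
      rw [map_zero, map_sum] at h'
      simp only [map_smul, spec_proj v w v u le_rfl hu.le] at h'
      rw [← Fintype.sum_of_injective incl hinj (fun c' => a (incl c') • proj v u (chainMon K c'.1)) _
        (fun c' hc' => by
          rw [proj_chain_eq_zero v u c'.1 ?_, smul_zero]
          by_contra hcon
          push Not at hcon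
          exact hc' ⟨⟨c'.1, c'.2.1, fun k => hcon k⟩, rfl⟩)
        (fun c' => rfl)] at h'
      have := ihw u hu (c.2.2 0).1 (fun c' => a (incl c')) h'
      have h2 := congrFun this ⟨c.1, c.2.1, fun k => ⟨(c.2.2 k).1, c.2.1 (Fin.zero_le k)⟩⟩
      simpa [incl] using h2
    let cons : Chains v w m → Chains v w (m + 1) := fun c =>
      ⟨Fin.cons w c.1, by
        intro p q hpq
        rcases Fin.eq_zero_or_eq_succ p with rfl | ⟨p, rfl⟩
        · rcases Fin.eq_zero_or_eq_succ q with rfl | ⟨q, rfl⟩
          · exact le_rfl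
          · simpa using (c.2.2 q).2
        · rcases Fin.eq_zero_or_eq_succ q with rfl | ⟨q, rfl⟩
          · exact absurd hpq (not_le.mpr (Fin.succ_pos p))
          · simpa using c.2.1 (Fin.succ_le_succ_iff.mp hpq),
       fun k => by
        rcases Fin.eq_zero_or_eq_succ k with rfl | ⟨k, rfl⟩
        · simpa using hvw
        · simpa using c.2.2 k⟩
    have hcinj : Function.Injective cons := fun p q hpq =>
      Subtype.ext (Fin.cons_right_injective (α := fun _ => Idx d n) w (congrArg (fun x : Chains v w (m + 1) => x.1) hpq))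
    have hrange : ∀ c : Chains v w (m + 1), c.1 0 = w → c ∈ Set.range cons := fun c hc =>
      ⟨⟨Fin.tail c.1, fun p q hpq => c.2.1 (Fin.succ_le_succ_iff.mpr hpq), fun k => c.2.2 k.succ⟩,
        Subtype.ext ((congrArg (fun z : Idx d n => (Fin.cons z (Fin.tail c.1) : Fin (m + 1) → Idx d n)) hc.symm).trans (Fin.cons_self_tail c.1))⟩
    rw [← Fintype.sum_of_injective cons hcinj
      (fun c => ((zmat v w).submatrix w.1 id).det * (a (cons c) • proj v w (chainMon K c.1))) _
      (fun c hc => by rw [h1 c (fun h0 => hc (hrange c h0)), zero_smul])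
      (fun c => by
        rw [mul_smul_comm, proj_chain, proj_chain]
        congr 1
        simp [cons, Fin.prod_univ_succ])] at h
    rw [← Finset.mul_sum] at h
    have h3 := ihm w hvw (fun c => a (cons c))
      ((mul_eq_zero.mp h).resolve_left (minor_top_ne_zero v w hvw))
    funext c
    by_cases hc : c.1 0 = w
    · obtain ⟨c', rfl⟩ := hrange c hc
      exact congrFun h3 c'
    · exact h1 c hc

theorem isHomogeneous_minor (v w θ : Idx d n) :
    (((zmat (K := K) v w).submatrix θ.1 id).det).IsHomogeneous d := by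
  rw [Matrix.det_apply]
  refine IsHomogeneous.sum _ _ _ fun σ _ => ?_
  have hp : (∏ t, (zmat (K := K) v w).submatrix θ.1 id (σ t) t).IsHomogeneous d := by
    have hd : ∑ _t : Fin d, 1 = d := by simp
    conv => arg 2; rw [← hd]
    refine IsHomogeneous.prod _ _ _ fun t _ => ?_
    show (if v.1 t ≤ θ.1 (σ t) ∧ θ.1 (σ t) ≤ w.1 t then X (θ.1 (σ t), t) else (0 : MatRing K d n)).IsHomogeneous 1
    split_ifs
    · exact isHomogeneous_X _ _
    · exact isHomogeneous_zero _ _ _
  rcases Int.units_eq_one_or (Equiv.Perm.sign σ) with h | h <;> rw [h]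
  · rw [one_smul]; exact hp
  · rw [Units.neg_smul, one_smul]; exact hp.neg

theorem isHomogeneous_proj_chain (v w : Idx d n) {m : ℕ} (c : Fin m → Idx d n) :
    (proj (K := K) v w (chainMon K c)).IsHomogeneous (d * m) := by
  rw [proj_chain]
  have hd : ∑ _k : Fin m, d = d * m := by simp [mul_comm]
  rw [← hd]
  exact IsHomogeneous.prod _ _ _ fun k _ => isHomogeneous_minor v w _

/-- The standard monomials of an interval are linearly independent on its staircase. -/
theorem indep (hd : 0 < d) (v w : Idx d n) (hvw : v ≤ w) :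
    LinearIndependent K (fun c : (Σ m, Chains v w m) => proj v w (chainMon K c.2.1)) := by
  classical
  rw [linearIndependent_iff']
  intro s g hg x hx
  obtain ⟨m, c⟩ := x
  have h := congrArg (homogeneousComponent (d * m)) hg
  rw [map_zero, map_sum] at h
  simp only [map_smul] at h
  rw [← Finset.sum_preimage (Sigma.mk m : Chains v w m → Σ m, Chains v w m) s (sigma_mk_injective.injOn)] at h
  · simp only [homogeneousComponent_of_mem (isHomogeneous_proj_chain v w _), ↓reduceIte] at h
    let a : Chains v w m → K := fun c' => if (⟨m, c'⟩ : Σ m, Chains v w m) ∈ s then g ⟨m, c'⟩ else 0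
    have h2 : ∑ c', a c' • proj v w (chainMon K c'.1) = 0 := by
      rw [← h]
      rw [← Finset.sum_subset (Finset.subset_univ (s.preimage (Sigma.mk m) sigma_mk_injective.injOn))
        (fun c' _ hc' => by
          rw [Finset.mem_preimage] at hc'
          simp [a, hc'])]
      refine Finset.sum_congr rfl fun c' hc' => ?_
      rw [Finset.mem_preimage] at hc'
      simp [a, hc']
    have h3 := congrFun (indep_deg v m w hvw a h2) c
    simpa [a, hx] using h3
  · rintro ⟨m', c'⟩ - hne
    rw [homogeneousComponent_of_mem (isHomogeneous_proj_chain v w _), if_neg, smul_zero]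
    intro hmm
    obtain rfl : m = m' := Nat.eq_of_mul_eq_mul_left hd hmm
    exact hne ⟨c', rfl⟩

theorem outIdeal_le_ker (v w : Idx d n) :
    outIdeal (K := K) v w ≤ RingHom.ker (proj (K := K) v w).toRingHom := by
  refine sup_le (Ideal.span_le.mpr ?_) (Ideal.span_le.mpr ?_)
  · rintro _ ⟨i, j, r, -, rfl⟩
    exact map_shuffleRel i j r (proj v w) (zmat v w) (proj_X v w)
  · rintro _ ⟨φ, hφ, rfl⟩
    show proj v w (X φ) = 0
    rw [proj_X]; exact minor_eq_zero v w φ hφ

omit [IsDomain K] in
theorem exists_expansion (v w : Idx d n) (f : PlRing K d n) :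
    ∃ a : (Σ m, Chains v w m) →₀ K,
      f - Finsupp.linearCombination K (fun c : (Σ m, Chains v w m) => chainMon K c.2.1) a ∈
        outIdeal (K := K) v w := by
  obtain ⟨y, hy, z, hz, hyz⟩ := Submodule.mem_sup.mp (span_chains v w f)
  obtain ⟨a, ha⟩ := Finsupp.mem_span_range_iff_exists_finsupp.mp hy
  refine ⟨a, ?_⟩
  rw [Finsupp.linearCombination_apply, ha, ← hyz, add_sub_cancel_left]
  exact hz

theorem eq_zero_of_proj (hd : 0 < d) (v w : Idx d n) (hvw : v ≤ w) (a : (Σ m, Chains v w m) →₀ K)
    (h : proj v w (Finsupp.linearCombination K (fun c : (Σ m, Chains v w m) => chainMon K c.2.1) a) = 0) :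
    a = 0 := by
  rw [← AlgHom.toLinearMap_apply, Finsupp.apply_linearCombination] at h
  exact linearIndependent_iff.mp (indep hd v w hvw) a h

/-- The standard monomial theorem for an interval. -/
theorem ker_proj (hd : 0 < d) (v w : Idx d n) (hvw : v ≤ w) :
    RingHom.ker (proj (K := K) v w).toRingHom = outIdeal (K := K) v w := by
  refine le_antisymm (fun f hf => ?_) (outIdeal_le_ker v w)
  obtain ⟨a, ha⟩ := exists_expansion v w f
  have h0 : proj v w (f - Finsupp.linearCombination K
      (fun c : (Σ m, Chains v w m) => chainMon K c.2.1) a) = 0 := outIdeal_le_ker v w ha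
  rw [map_sub, show proj v w f = 0 from hf, zero_sub, neg_eq_zero] at h0
  rw [eq_zero_of_proj hd v w hvw a h0, map_zero, sub_zero] at ha
  exact ha

theorem isPrime_outIdeal (hd : 0 < d) (v w : Idx d n) (hvw : v ≤ w) : (outIdeal (K := K) v w).IsPrime := by
  rw [← ker_proj hd v w hvw]
  exact RingHom.ker_isPrime _

end indep

/-- The smallest index. -/
def botIdx (hdn : d ≤ n) : Idx d n := ⟨fun t => ⟨t.val, lt_of_lt_of_le t.isLt hdn⟩, fun _ _ h => h⟩

theorem val_le_idx (θ : Idx d n) : ∀ t : Fin d, t.val ≤ (θ.1 t).val := by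
  intro t
  obtain ⟨k, hk⟩ := t
  induction k with
  | zero => exact Nat.zero_le _
  | succ k ih =>
    have h1 := ih (Nat.lt_of_succ_lt hk)
    have h2 : (θ.1 ⟨k, Nat.lt_of_succ_lt hk⟩).val < (θ.1 ⟨k + 1, hk⟩).val := θ.2 (show k < k + 1 by omega)
    simp only at h1 ⊢
    omega

theorem botIdx_le (hdn : d ≤ n) (θ : Idx d n) : botIdx hdn ≤ θ := fun t => val_le_idx θ t

theorem outIdeal_bot (hdn : d ≤ n) (w : Idx d n) : outIdeal (K := K) (botIdx hdn) w = plIdeal K w := by
  rw [outIdeal, plIdealTop, ← Ideal.span_union, plIdeal]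
  congr 2
  ext f
  simp [botIdx_le hdn]

theorem plIdeal_le_vanishing (w : Idx d n) : plIdeal K w ≤ schubertVanishing K d n w := by
  rw [plIdeal, schubertVanishing]
  refine le_iInf fun A => le_iInf fun hA => Ideal.span_le.mpr ?_
  rintro _ (⟨i, j, r, -, rfl⟩ | ⟨φ, hφ, rfl⟩)
  · exact map_shuffleRel i j r (evalMinors K d n A) A (fun θ => aeval_X _ _)
  · show evalMinors K d n A (X φ) = 0
    rw [evalMinors, aeval_X]; exact hA φ hφ

theorem ker_proj_bot [IsDomain K] (hd : 0 < d) (hdn : d ≤ n) (w : Idx d n) :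
    RingHom.ker (proj (K := K) (botIdx hdn) w).toRingHom = plIdeal K w := by
  rw [ker_proj hd _ _ (botIdx_le hdn w), outIdeal_bot]

theorem schubertVanishing_eq [IsDomain K] [Infinite K] (hd : 0 < d) (hdn : d ≤ n) (w : Idx d n) :
    schubertVanishing K d n w = plIdeal K w := by
  refine le_antisymm (fun f hf => ?_) (plIdeal_le_vanishing w)
  rw [← ker_proj_bot hd hdn w]
  show proj (botIdx hdn) w f = 0
  refine MvPolynomial.funext fun p => ?_
  let A : Matrix (Fin n) (Fin d) K := (zmat (K := K) (botIdx hdn) w).map (MvPolynomial.eval p)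
  have hA : ∀ θ : Idx d n, (A.submatrix θ.1 id).det =
      MvPolynomial.eval p ((zmat (K := K) (botIdx hdn) w).submatrix θ.1 id).det := fun θ => by
    rw [RingHom.map_det]; rfl
  have h1 : evalMinors K d n A f = 0 := by
    rw [schubertVanishing] at hf
    simp only [Submodule.mem_iInf] at hf
    refine hf A fun φ hφ => ?_
    rw [hA, minor_eq_zero _ _ _ (fun h => hφ h.2), map_zero]
  have h2 : (evalMinors K d n A) = ((MvPolynomial.aeval p).restrictScalars K).comp (proj (botIdx hdn) w) := by
    refine MvPolynomial.algHom_ext fun θ => ?_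
    rw [evalMinors, aeval_X, AlgHom.comp_apply, proj_X, hA]
    rfl
  rw [h2, AlgHom.comp_apply] at h1
  rw [map_zero]
  exact h1

end Groth.L14.SMT
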