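import Groth.Agent.L14.SMT.Conseq
import Mathlib.Algebra.Order.Rearrangement
import Mathlib.Algebra.Polynomial.BigOperators

open MvPolynomial W4bk4grassmannian Finset

namespace Groth.L14.SMT

universe u

variable {K : Type u} [CommRing K] {d n : ℕ}

/-- Grading substitution for a weight on the matrix entries. -/
noncomputable def scale (W : Fin n × Fin d → ℕ) : MatRing K d n →ₐ[K] Polynomial (MatRing K d n) :=
  MvPolynomial.aeval fun p => Polynomial.monomial (W p) (X p)

theorem prod_monomial {R : Type*} [CommSemiring R] {ι : Type*} (s : Finset ι) (a : ι → ℕ) (b : ι → R) :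
    ∏ i ∈ s, Polynomial.monomial (a i) (b i) = Polynomial.monomial (∑ i ∈ s, a i) (∏ i ∈ s, b i) := by
  classical
  induction s using Finset.induction_on with
  | empty => simp
  | insert x s hx ih =>
    rw [Finset.prod_insert hx, Finset.sum_insert hx, Finset.prod_insert hx, ih,
      Polynomial.monomial_mul_monomial]

theorem scale_minor (W : Fin n × Fin d → ℕ) (v w θ : Idx d n) :
    scale (K := K) W (((zmat v w).submatrix θ.1 id).det) =
      ∑ σ : Equiv.Perm (Fin d), Polynomial.monomial (∑ t, W (θ.1 (σ t), t))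
        (Equiv.Perm.sign σ • ∏ t, zmat (K := K) v w (θ.1 (σ t)) t) := by
  rw [Matrix.det_apply, map_sum]
  refine Finset.sum_congr rfl fun σ _ => ?_
  rw [Units.smul_def, map_zsmul, map_prod, Units.smul_def, map_zsmul, ← prod_monomial]
  congr 1
  refine Finset.prod_congr rfl fun t _ => ?_
  show scale W (if v.1 t ≤ θ.1 (σ t) ∧ θ.1 (σ t) ≤ w.1 t then X (θ.1 (σ t), t) else 0) =
    Polynomial.monomial _ (if v.1 t ≤ θ.1 (σ t) ∧ θ.1 (σ t) ≤ w.1 t then X (θ.1 (σ t), t) else (0 : MatRing K d n))
  split_ifs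
  · rw [scale, aeval_X]
  · simp

/-- Row weight: minors are homogeneous. -/
theorem scale_rows (v w θ : Idx d n) :
    scale (K := K) (fun p => p.1.val) (((zmat v w).submatrix θ.1 id).det) =
      Polynomial.monomial (wt θ) (((zmat (K := K) v w).submatrix θ.1 id).det) := by
  rw [scale_minor, Matrix.det_apply, map_sum]
  refine Finset.sum_congr rfl fun σ _ => ?_
  rw [show (∑ t, ((θ.1 (σ t), t).1 : Fin n).val) = wt θ from Equiv.sum_comp σ fun t => (θ.1 t).val]
  rfl

/-- The diagonal weight. -/
def om (θ : Idx d n) : ℕ := ∑ t : Fin d, t.val * (θ.1 t).val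

theorem om_perm_le (θ : Idx d n) (σ : Equiv.Perm (Fin d)) :
    ∑ t : Fin d, t.val * (θ.1 (σ t)).val ≤ om θ :=
  Monovary.sum_mul_comp_perm_le_sum_mul (f := fun t : Fin d => t.val) (g := fun t : Fin d => (θ.1 t).val)
    fun a b h => (θ.2.lt_iff_lt.mp h).le

theorem om_perm_eq (θ : Idx d n) (σ : Equiv.Perm (Fin d))
    (h : ∑ t : Fin d, t.val * (θ.1 (σ t)).val = om θ) : σ = 1 := by
  have hm : Monovary (fun t : Fin d => t.val) (fun t : Fin d => (θ.1 t).val) :=
    fun a b h => (θ.2.lt_iff_lt.mp h).le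
  have h' := hm.sum_mul_comp_perm_eq_sum_mul_iff.mp h
  have hmono : StrictMono σ := by
    intro a b hab
    rcases lt_trichotomy (σ a) (σ b) with h1 | h1 | h1
    · exact h1
    · exact absurd (σ.injective h1) hab.ne
    · exact absurd (h' (show (θ.1 (σ b)).val < (θ.1 (σ a)).val from θ.2 h1)) (not_le.mpr hab)
  exact Equiv.ext fun t => congrFun (le_antisymm hmono.le_id hmono.id_le) t

theorem natDegree_scale_minor (v w θ : Idx d n) :
    (scale (K := K) (fun p => p.2.val * p.1.val) (((zmat v w).submatrix θ.1 id).det)).natDegree ≤ om θ := by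
  rw [scale_minor]
  exact Polynomial.natDegree_sum_le_of_forall_le _ _ fun σ _ =>
    (Polynomial.natDegree_monomial_le _).trans (om_perm_le θ σ)

theorem coeff_scale_minor (hdn : d ≤ n) (θ : Idx d n) :
    (scale (K := K) (fun p => p.2.val * p.1.val)
      (((zmat (botIdx hdn) (topIdx hdn)).submatrix θ.1 id).det)).coeff (om θ) =
      monomial (∑ t, Finsupp.single (θ.1 t, t) 1) 1 := by
  classical
  rw [scale_minor, Polynomial.finsetSum_coeff, Finset.sum_eq_single (1 : Equiv.Perm (Fin d))]
  · rw [Polynomial.coeff_monomial, if_pos (by rfl), Equiv.Perm.sign_one, one_smul, monomial_sum_one]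
    refine Finset.prod_congr rfl fun t _ => ?_
    show (if (botIdx hdn).1 t ≤ θ.1 t ∧ θ.1 t ≤ (topIdx hdn).1 t then X (θ.1 t, t) else (0 : MatRing K d n)) = _
    rw [if_pos ⟨botIdx_le hdn θ t, le_topIdx hdn θ t⟩]
    rfl
  · intro σ _ hσ
    rw [Polynomial.coeff_monomial, if_neg fun h => hσ (om_perm_eq θ σ h)]
  · simp

/-- The expansion of a quadratic monomial in standard monomials. -/
theorem straighten_law [IsDomain K] (hd : 0 < d) (hdn : d ≤ n) (τ φ : Idx d n)
    (h₁ : ¬ τ ≤ φ) (h₂ : ¬ φ ≤ τ) :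
    ∃ a : Chains (botIdx hdn) (topIdx hdn) 2 → K,
      X τ * X φ - ∑ c, a c • chainMon K c.1 ∈ plIdealTop K ∧
      (∀ c, a c ≠ 0 → τ ≤ c.1 0 ∧ φ ≤ c.1 0 ∧ c.1 1 ≤ τ ∧ c.1 1 ≤ φ ∧
        wt (c.1 0) + wt (c.1 1) = wt τ + wt φ ∧ om (c.1 0) + om (c.1 1) ≤ om τ + om φ ∧
        (om (c.1 0) + om (c.1 1) = om τ + om φ →
          c.1 0 = W4bk4grassmannian.sup τ φ ∧ c.1 1 = W4bk4grassmannian.inf τ φ)) ∧
      ∀ c : Chains (botIdx hdn) (topIdx hdn) 2,
        c.1 0 = W4bk4grassmannian.sup τ φ → c.1 1 = W4bk4grassmannian.inf τ φ → a c = 1 := by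
  classical
  set b := botIdx hdn
  set T := topIdx hdn
  have hmem := monomial_mem (K := K) b T 2 (τ ::ₘ φ ::ₘ 0) (by simp)
  rw [show Multiset.map (X : Idx d n → PlRing K d n) (τ ::ₘ φ ::ₘ 0) = X τ ::ₘ X φ ::ₘ 0 by simp,
    Multiset.prod_cons, Multiset.prod_cons, Multiset.prod_zero, mul_one] at hmem
  obtain ⟨y, hy, z, hz, hyz⟩ := Submodule.mem_sup.mp hmem
  obtain ⟨a, rfl⟩ := (Submodule.mem_span_range_iff_exists_fun K).mp hy
  have hrel : X τ * X φ - ∑ c, a c • chainMon K c.1 ∈ plIdealTop K := by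
    rw [← outIdeal_univ (K := K) hdn, ← hyz, add_sub_cancel_left]
    exact hz
  have htopker : ∀ v w : Idx d n, plIdealTop K ≤ RingHom.ker (proj (K := K) v w).toRingHom :=
    fun v w => le_sup_left.trans (outIdeal_le_ker v w)
  have hproj : ∀ v w : Idx d n, proj v w (X τ) * proj v w (X φ) =
      ∑ c, a c • proj v w (chainMon K c.1) := by
    intro v w
    have := RingHom.mem_ker.mp (htopker v w hrel)
    simp only [AlgHom.toRingHom_eq_coe, RingHom.coe_coe, map_sub, map_mul, map_sum, map_smul] at this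
    exact sub_eq_zero.mp this
  -- coefficients inside an interval where the left side vanishes
  have interval : ∀ v w : Idx d n, v ≤ w → (proj (K := K) v w (X τ) = 0 ∨ proj (K := K) v w (X φ) = 0) →
      ∀ c : Chains b T 2, (∀ k, v ≤ c.1 k ∧ c.1 k ≤ w) → a c = 0 := by
    intro v w hvw hzero c hc
    let e : Chains v w 2 → Chains b T 2 := fun x =>
      ⟨x.1, x.2.1, fun k => ⟨botIdx_le hdn _, le_topIdx hdn _⟩⟩
    have he : Function.Injective e := fun p q hpq =>
      Subtype.ext (congrArg (fun x : Chains b T 2 => x.1) hpq : p.1 = q.1)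
    have h0 : ∑ x : Chains v w 2, a (e x) • proj v w (chainMon K x.1) = 0 := by
      rw [Fintype.sum_of_injective e he (fun x => a (e x) • proj v w (chainMon K x.1))
        (fun x => a x • proj v w (chainMon K x.1))]
      · rw [← hproj v w]
        rcases hzero with h | h <;> rw [h] <;> simp
      · intro x hx
        rw [proj_chain_eq_zero v w x.1 ?_, smul_zero]
        by_contra hcon
        push Not at hcon
        exact hx ⟨⟨x.1, x.2.1, fun k => hcon k⟩, rfl⟩
      · intro x; rfl
    exact congrFun (indep_deg v 2 w hvw (fun x => a (e x)) h0) ⟨c.1, c.2.1, hc⟩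
  have hbounds : ∀ c, a c ≠ 0 → τ ≤ c.1 0 ∧ φ ≤ c.1 0 ∧ c.1 1 ≤ τ ∧ c.1 1 ≤ φ := by
    intro c hc
    have h01 : c.1 1 ≤ c.1 0 := c.2.1 (by decide)
    have hdown : ∀ k, b ≤ c.1 k ∧ c.1 k ≤ c.1 0 := fun k =>
      ⟨botIdx_le hdn _, c.2.1 (Fin.zero_le k)⟩
    have hup : ∀ k, c.1 1 ≤ c.1 k ∧ c.1 k ≤ T := fun k =>
      ⟨c.2.1 (Fin.le_last k), le_topIdx hdn _⟩
    refine ⟨?_, ?_, ?_, ?_⟩
    · by_contra hh
      exact hc (interval b (c.1 0) (botIdx_le hdn _)
        (Or.inl (by rw [proj_X]; exact minor_eq_zero _ _ _ fun h => hh h.2)) c hdown)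
    · by_contra hh
      exact hc (interval b (c.1 0) (botIdx_le hdn _)
        (Or.inr (by rw [proj_X]; exact minor_eq_zero _ _ _ fun h => hh h.2)) c hdown)
    · by_contra hh
      exact hc (interval (c.1 1) T (le_topIdx hdn _)
        (Or.inl (by rw [proj_X]; exact minor_eq_zero _ _ _ fun h => hh h.1)) c hup)
    · by_contra hh
      exact hc (interval (c.1 1) T (le_topIdx hdn _)
        (Or.inr (by rw [proj_X]; exact minor_eq_zero _ _ _ fun h => hh h.1)) c hup)
  -- row weights
  have hwt : ∀ c, a c ≠ 0 → wt (c.1 0) + wt (c.1 1) = wt τ + wt φ := by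
    intro c hc
    by_contra hne
    have h := congrArg (fun q => (scale (K := K) (fun p => p.1.val) q).coeff (wt (c.1 0) + wt (c.1 1)))
      (hproj b T)
    simp only [map_mul, proj_X, scale_rows, Polynomial.monomial_mul_monomial, map_sum, map_smul,
      proj_chain, Fin.prod_univ_two, Polynomial.finsetSum_coeff, Polynomial.coeff_smul,
      Polynomial.coeff_monomial] at h
    rw [if_neg (fun h' => hne h'.symm)] at h
    let a' : Chains b T 2 → K := fun x =>
      if wt (x.1 0) + wt (x.1 1) = wt (c.1 0) + wt (c.1 1) then a x else 0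
    have h0 : ∑ x, a' x • proj b T (chainMon K x.1) = 0 := by
      rw [h]
      refine Finset.sum_congr rfl fun x _ => ?_
      simp only [a', proj_chain, Fin.prod_univ_two]
      split_ifs <;> simp
    have := congrFun (indep_deg b 2 T (botIdx_le hdn _) a' h0) c
    simp [a'] at this
    exact hc this
  -- leading terms
  let lead : Chains b T 2 → (Fin n × Fin d →₀ ℕ) := fun x =>
    (∑ t, Finsupp.single ((x.1 0).1 t, t) 1) + ∑ t, Finsupp.single ((x.1 1).1 t, t) 1
  have hlead_inj : ∀ (x : Chains b T 2) (α β : Idx d n),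
      lead x = (∑ t, Finsupp.single (α.1 t, t) 1) + ∑ t, Finsupp.single (β.1 t, t) 1 →
      x.1 0 = W4bk4grassmannian.sup α β ∧ x.1 1 = W4bk4grassmannian.inf α β := by
    intro x α β hx
    have hpair : ∀ t, ∀ i : Fin n,
        (if (x.1 0).1 t = i then 1 else 0) + (if (x.1 1).1 t = i then 1 else 0) =
        (if α.1 t = i then 1 else 0) + (if β.1 t = i then (1 : ℕ) else 0) := by
      intro t i
      have := congrArg (fun f : Fin n × Fin d →₀ ℕ => f (i, t)) hx
      simp only [lead, Finsupp.add_apply, Finsupp.finsetSum_apply, Finsupp.single_apply, Prod.mk.injEq] at this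
      rw [Finset.sum_eq_single t (fun s _ hs => by simp [hs]) (by simp),
        Finset.sum_eq_single t (fun s _ hs => by simp [hs]) (by simp),
        Finset.sum_eq_single t (fun s _ hs => by simp [hs]) (by simp),
        Finset.sum_eq_single t (fun s _ hs => by simp [hs]) (by simp)] at this
      simpa using this
    have hle : ∀ t, (x.1 1).1 t ≤ (x.1 0).1 t := fun t => x.2.1 (show (0 : Fin 2) ≤ 1 by decide) t
    have hcomp : ∀ t, (x.1 0).1 t = max (α.1 t) (β.1 t) ∧ (x.1 1).1 t = min (α.1 t) (β.1 t) := by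
      intro t
      have h1 := hpair t (α.1 t)
      have h2 := hpair t (β.1 t)
      have h3 := hle t
      rcases lt_trichotomy (α.1 t) (β.1 t) with hlt | heq | hlt
      · rw [max_eq_right hlt.le, min_eq_left hlt.le]
        simp only [if_pos, if_neg hlt.ne, if_neg hlt.ne'] at h1 h2
        split_ifs at h1 with p q q <;> split_ifs at h2 with r s s
        all_goals first
          | omega
          | exact ⟨r, q⟩
          | exact absurd (p ▸ s ▸ h3 : β.1 t ≤ α.1 t) (not_le.mpr hlt)
          | exact absurd (p.symm.trans r) hlt.ne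
          | exact absurd (q.symm.trans s) hlt.ne
      · rw [heq, max_self, min_self]
        simp only [heq, if_pos] at h2
        split_ifs at h2 with r s s
        all_goals first
          | omega
          | exact ⟨r, s⟩
      · rw [max_eq_left hlt.le, min_eq_right hlt.le]
        simp only [if_pos, if_neg hlt.ne, if_neg hlt.ne'] at h1 h2
        split_ifs at h1 with p q q <;> split_ifs at h2 with r s s
        all_goals first
          | omega
          | exact ⟨p, s⟩
          | exact absurd (r ▸ q ▸ h3 : α.1 t ≤ β.1 t) (not_le.mpr hlt)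
          | exact absurd (r.symm.trans p) hlt.ne
          | exact absurd (s.symm.trans q) hlt.ne
    exact ⟨Subtype.ext (funext fun t => (hcomp t).1), Subtype.ext (funext fun t => (hcomp t).2)⟩
  let N : Chains b T 2 → ℕ := fun x => om (x.1 0) + om (x.1 1)
  let F : Chains b T 2 → Polynomial (MatRing K d n) := fun x =>
    scale (fun p => p.2.val * p.1.val) (((zmat b T).submatrix (x.1 0).1 id).det) *
      scale (fun p => p.2.val * p.1.val) (((zmat b T).submatrix (x.1 1).1 id).det)
  have hFdeg : ∀ x, (F x).natDegree ≤ N x := fun x =>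
    Polynomial.natDegree_mul_le.trans (add_le_add (natDegree_scale_minor _ _ _) (natDegree_scale_minor _ _ _))
  have hFlead : ∀ x, (F x).coeff (N x) = monomial (lead x) 1 := fun x => by
    show Polynomial.coeff (_ * _) _ = _
    rw [Polynomial.coeff_mul_add_eq_of_natDegree_le (natDegree_scale_minor _ _ _) (natDegree_scale_minor _ _ _),
      coeff_scale_minor hdn, coeff_scale_minor hdn, monomial_mul, mul_one]
  have hmain : scale (fun p => p.2.val * p.1.val) (proj b T (X τ)) *
      scale (fun p => p.2.val * p.1.val) (proj b T (X φ)) = ∑ x, a x • F x := by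
    rw [← map_mul, hproj b T, map_sum]
    exact Finset.sum_congr rfl fun x _ => by
      rw [map_smul, proj_chain, Fin.prod_univ_two, map_mul]
  have hsame : ∀ x y : Chains b T 2, lead x = lead y → x = y := by
    intro x y hxy
    obtain ⟨h0, h1⟩ := hlead_inj x (y.1 0) (y.1 1) hxy
    obtain ⟨g0, g1⟩ := hlead_inj y (y.1 0) (y.1 1) rfl
    refine Subtype.ext (funext fun k => ?_)
    fin_cases k
    · exact h0.trans g0.symm
    · exact h1.trans g1.symm
  -- the coefficient of a top-weight monomial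
  have hcoef : ∀ M, (∀ x, a x ≠ 0 → N x ≤ M) → ∀ c : Chains b T 2, N c = M →
      MvPolynomial.coeff (lead c) ((∑ x, a x • F x).coeff M) = a c := by
    intro M hM c hcM
    rw [Polynomial.finsetSum_coeff, MvPolynomial.coeff_sum, Finset.sum_eq_single c]
    · rw [Polynomial.coeff_smul, ← hcM, hFlead, MvPolynomial.coeff_smul, coeff_monomial, if_pos rfl]
      simp
    · intro x _ hx
      by_cases hax : a x = 0
      · rw [hax, zero_smul]; simp
      rcases (hM x hax).lt_or_eq with hlt | heq
      · rw [Polynomial.coeff_smul, Polynomial.coeff_eq_zero_of_natDegree_lt ((hFdeg x).trans_lt hlt)]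
        simp
      · rw [Polynomial.coeff_smul, ← heq, hFlead, MvPolynomial.coeff_smul, coeff_monomial,
          if_neg fun h => hx (hsame x c h)]
        simp
    · simp
  have hLdeg : (scale (fun p => p.2.val * p.1.val) (proj (K := K) b T (X τ)) *
      scale (fun p => p.2.val * p.1.val) (proj b T (X φ))).natDegree ≤ om τ + om φ := by
    rw [proj_X, proj_X]
    exact Polynomial.natDegree_mul_le.trans (add_le_add (natDegree_scale_minor _ _ _) (natDegree_scale_minor _ _ _))
  have hLlead : (scale (fun p => p.2.val * p.1.val) (proj (K := K) b T (X τ)) *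
      scale (fun p => p.2.val * p.1.val) (proj b T (X φ))).coeff (om τ + om φ) =
        monomial ((∑ t, Finsupp.single (τ.1 t, t) 1) + ∑ t, Finsupp.single (φ.1 t, t) 1) 1 := by
    rw [proj_X, proj_X, Polynomial.coeff_mul_add_eq_of_natDegree_le (natDegree_scale_minor _ _ _)
      (natDegree_scale_minor _ _ _), coeff_scale_minor hdn, coeff_scale_minor hdn, monomial_mul, mul_one]
  have hle : ∀ x, a x ≠ 0 → N x ≤ om τ + om φ := by
    by_contra hcon
    push Not at hcon
    obtain ⟨x₀, hx₀, hlt₀⟩ := hcon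
    obtain ⟨c, hc, hmax⟩ := Finset.exists_max_image ((univ : Finset (Chains b T 2)).filter fun x => a x ≠ 0) N
      ⟨x₀, Finset.mem_filter.mpr ⟨Finset.mem_univ _, hx₀⟩⟩
    rw [Finset.mem_filter] at hc
    have hbig : om τ + om φ < N c := lt_of_lt_of_le hlt₀ (hmax x₀ (Finset.mem_filter.mpr ⟨Finset.mem_univ _, hx₀⟩))
    have := hcoef (N c) (fun x hx => hmax x (Finset.mem_filter.mpr ⟨Finset.mem_univ _, hx⟩)) c rfl
    rw [← hmain, Polynomial.coeff_eq_zero_of_natDegree_lt (hLdeg.trans_lt hbig), MvPolynomial.coeff_zero] at this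
    exact hc.2 this.symm
  have hval : ∀ c : Chains b T 2, N c = om τ + om φ →
      a c = if (∑ t, Finsupp.single (τ.1 t, t) 1) + (∑ t, Finsupp.single (φ.1 t, t) 1) = lead c then 1 else 0 := by
    intro c hc
    rw [← hcoef (om τ + om φ) hle c hc, ← hmain, hLlead, coeff_monomial]
  refine ⟨a, hrel, fun c hc => ?_, fun c h0 h1 => ?_⟩
  · obtain ⟨g1, g2, g3, g4⟩ := hbounds c hc
    refine ⟨g1, g2, g3, g4, hwt c hc, hle c hc, fun hom => ?_⟩
    have := hval c hom
    split_ifs at this with hl
    · exact hlead_inj c τ φ hl.symm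
    · exact absurd this hc
  · have hl : lead c = (∑ t, Finsupp.single (τ.1 t, t) 1) + ∑ t, Finsupp.single (φ.1 t, t) 1 := by
      simp only [lead, h0, h1, ← Finset.sum_add_distrib]
      refine Finset.sum_congr rfl fun t _ => ?_
      show Finsupp.single (max (τ.1 t) (φ.1 t), t) 1 + Finsupp.single (min (τ.1 t) (φ.1 t), t) 1 = _
      rcases le_total (τ.1 t) (φ.1 t) with h | h
      · rw [max_eq_right h, min_eq_left h, add_comm]
      · rw [max_eq_left h, min_eq_right h]
    have hN : N c = om τ + om φ := by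
      show om (c.1 0) + om (c.1 1) = _
      rw [h0, h1, om, om, om, om, ← Finset.sum_add_distrib, ← Finset.sum_add_distrib]
      refine Finset.sum_congr rfl fun t _ => ?_
      show t.val * (max (τ.1 t) (φ.1 t)).val + t.val * (min (τ.1 t) (φ.1 t)).val = _
      rcases le_total (τ.1 t) (φ.1 t) with h | h
      · rw [max_eq_right h, min_eq_left h, add_comm]
      · rw [max_eq_left h, min_eq_right h]
    rw [hval c hN, if_pos hl.symm]

end Groth.L14.SMT

namespace Groth.L14.SMT

open W4bk4grassmannian Finset MvPolynomial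

theorem eq_of_le_of_wt {d n : ℕ} {α β : Idx d n} (h : α ≤ β) (hw : wt α = wt β) : α = β :=
  Subtype.ext (funext fun t => Fin.ext ((Finset.sum_eq_sum_iff_of_le
    (fun t _ => Fin.le_def.mp (h t))).mp hw t (Finset.mem_univ t)))

theorem wt_sup_add_inf {d n : ℕ} (τ φ : Idx d n) :
    wt (W4bk4grassmannian.sup τ φ) + wt (W4bk4grassmannian.inf τ φ) = wt τ + wt φ := by
  rw [wt, wt, wt, wt, ← Finset.sum_add_distrib, ← Finset.sum_add_distrib]
  refine Finset.sum_congr rfl fun t _ => ?_
  show (max (τ.1 t) (φ.1 t)).val + (min (τ.1 t) (φ.1 t)).val = _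
  rcases le_total (τ.1 t) (φ.1 t) with h | h
  · rw [max_eq_right h, min_eq_left h, add_comm]
  · rw [max_eq_left h, min_eq_right h]

theorem join_meet {K : Type*} [Field K] {d n : ℕ} (hd : 0 < d) (hdn : d ≤ n) (τ φ : Idx d n)
    (h₁ : ¬ τ ≤ φ) (h₂ : ¬ φ ≤ τ) :
    ∃ g ∈ Submodule.span K {f : PlRing K d n | ∃ α β : Idx d n,
        β ≤ α ∧ W4bk4grassmannian.sup τ φ < α ∧ β < W4bk4grassmannian.inf τ φ ∧
          f = MvPolynomial.X α * MvPolynomial.X β},
      X τ * X φ - X (W4bk4grassmannian.sup τ φ) * X (W4bk4grassmannian.inf τ φ) - g ∈ plIdealTop K := by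
  classical
  obtain ⟨a, hrel, hsupp, hone⟩ := straighten_law (K := K) hd hdn τ φ h₁ h₂
  set sp := W4bk4grassmannian.sup τ φ
  set ip := W4bk4grassmannian.inf τ φ
  have hip : ip ≤ sp := fun t => le_trans (min_le_left _ _) (le_max_left _ _)
  let c₀ : Chains (botIdx hdn) (topIdx hdn) 2 := ⟨![sp, ip], fun p q hpq => by
    fin_cases p <;> fin_cases q <;> first | exact le_rfl | exact hip | exact absurd hpq (by decide),
    fun k => ⟨botIdx_le hdn _, le_topIdx hdn _⟩⟩
  refine ⟨∑ c ∈ univ.erase c₀, a c • chainMon K c.1, ?_, ?_⟩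
  · refine Submodule.sum_mem _ fun c hc => ?_
    by_cases hac : a c = 0
    · rw [hac, zero_smul]; exact zero_mem _
    refine Submodule.smul_mem _ _ (Submodule.subset_span ?_)
    obtain ⟨g1, g2, g3, g4, g5, -, -⟩ := hsupp c hac
    have hs : sp ≤ c.1 0 := fun t => max_le (g1 t) (g2 t)
    have hi : c.1 1 ≤ ip := fun t => le_min (g3 t) (g4 t)
    have hw := wt_sup_add_inf τ φ
    have hne : ¬ (c.1 0 = sp ∧ c.1 1 = ip) := by
      rintro ⟨e0, e1⟩
      refine (Finset.mem_erase.mp hc).1 (Subtype.ext (funext fun k => ?_))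
      fin_cases k
      · exact e0
      · exact e1
    refine ⟨c.1 0, c.1 1, c.2.1 (by decide), lt_of_le_of_ne hs fun h => hne ⟨h.symm, ?_⟩,
      lt_of_le_of_ne hi fun h => hne ⟨?_, h⟩, by rw [chainMon, Fin.prod_univ_two]⟩
    · refine eq_of_le_of_wt hi ?_
      rw [← h] at g5
      change wt sp + wt ip = wt τ + wt φ at hw
      omega
    · refine (eq_of_le_of_wt hs ?_).symm
      rw [h] at g5
      change wt sp + wt ip = wt τ + wt φ at hw
      omega
  · rw [← Finset.add_sum_erase _ _ (Finset.mem_univ c₀), hone c₀ rfl rfl, one_smul, chainMon,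
      Fin.prod_univ_two] at hrel
    rw [sub_sub]
    exact hrel

end Groth.L14.SMT
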