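import Groth.Agent.L14.SMT.Coord
import Mathlib.Data.Finsupp.Multiset
import Mathlib.RingTheory.MvPolynomial.Homogeneous

open MvPolynomial W4bk4grassmannian Finset

namespace Groth.L14.SMT

universe u

variable {K : Type u} [CommRing K] {d n : ℕ}

/-- The sum of the rows of an index. -/
def wt (θ : Idx d n) : ℕ := ∑ t, (θ.1 t).val

theorem wt_le (θ : Idx d n) : wt θ ≤ d * n := by
  calc wt θ ≤ ∑ _t : Fin d, n := Finset.sum_le_sum fun t _ => (θ.1 t).isLt.le
    _ = d * n := by simp

theorem wt_sortIdx (a : Fin d → Fin n) (h : (univ.image a).card = d) :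
    wt (sortIdx d n a h) = ∑ t, (a t).val := by
  obtain ⟨σ, hσ⟩ := exists_perm a h
  conv_rhs => rw [hσ]
  exact (Equiv.sum_comp σ fun t => ((sortIdx d n a h).1 t).val).symm

theorem orderEmb_ge {N k : ℕ} {A : Finset (Fin N)} (hA : A.card = k) (p : Fin k) :
    p.val ≤ (A.orderEmbOfFin hA p).val := by
  have h : (Iio p).map (A.orderEmbOfFin hA).toEmbedding ⊆ Iio (A.orderEmbOfFin hA p) := by
    intro x hx
    obtain ⟨q, hq, rfl⟩ := Finset.mem_map.mp hx
    rw [mem_Iio] at hq ⊢
    exact (A.orderEmbOfFin hA).strictMono hq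
  have := Finset.card_le_card h
  simpa using this

theorem movingRows_strictMono {i j : Idx d n} {r : Fin d} (hp : IsPivot i j r) :
    StrictMono (movingRows i j r) := by
  intro a b hab
  have hab' : a.val < b.val := hab
  unfold movingRows
  split_ifs with ha hb hb
  · exact i.2 hab
  · calc i.1 ⟨a.val, _⟩ ≤ i.1 r := i.2.monotone (show a.val ≤ r.val from ha)
      _ < j.1 r := hp.2
      _ ≤ _ := j.2.monotone (show r.val ≤ b.val - 1 by omega)
  · omega
  · exact j.2 (show a.val - 1 < b.val - 1 by omega)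

theorem coord_cases (a : Fin d → Fin n) :
    coord K d n a = 0 ∨ ∃ (h : (univ.image a).card = d) (c : K), coord K d n a = C c * X (sortIdx d n a h) := by
  rw [coord]
  split_ifs with h
  · exact Or.inr ⟨h, (-1) ^ invCount d n a, by simp⟩
  · exact Or.inl rfl

theorem coord_self (θ : Idx d n) : coord K d n θ.1 = X θ := by
  have h : (univ.image θ.1).card = d := (card_image_iff _).mpr θ.2.injective
  have hs : sortIdx d n θ.1 h = θ := Subtype.ext (funext fun t =>
    (congrFun (Finset.orderEmbOfFin_unique h (fun x => Finset.mem_image_of_mem _ (Finset.mem_univ x)) θ.2).symm t))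
  have hi : invCount d n θ.1 = 0 := by
    rw [invCount, Finset.card_eq_zero, Finset.filter_eq_empty_iff]
    rintro p - ⟨h1, h2⟩
    exact lt_asymm h2 (θ.2 h1)
  rw [coord, dif_pos h, hs, hi, pow_zero, one_mul]

variable (i j : Idx d n) (r : Fin d)

/-- The identity shuffle. -/
def A0 : Finset (Fin (d + 1)) := univ.filter fun p => p.val ≤ r.val

theorem mem_A0 {p : Fin (d + 1)} : p ∈ A0 r ↔ p.val ≤ r.val := by simp [A0]

theorem A0_eq : A0 r = (univ : Finset (Fin (r.val + 1))).map
    ⟨Fin.castLE (by omega), Fin.castLE_injective _⟩ := by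
  ext p
  rw [mem_A0, Finset.mem_map]
  constructor
  · intro h; exact ⟨⟨p.val, by omega⟩, Finset.mem_univ _, Fin.ext rfl⟩
  · rintro ⟨q, -, rfl⟩; exact Nat.le_of_lt_succ q.isLt

theorem A0_card : (A0 r).card = r.val + 1 := by rw [A0_eq, Finset.card_map, Finset.card_fin]

theorem term_A0 : shuffleTerm K i j r (A0 r) = X i * X j := by
  have hc := A0_card r
  rw [shuffleTerm, dif_pos hc]
  have e1 : ∀ p : Fin (r.val + 1), ((A0 r).orderEmbOfFin hc p).val = p.val := by
    intro p
    have := Finset.orderEmbOfFin_unique hc (f := fun q : Fin (r.val + 1) => (⟨q.val, by omega⟩ : Fin (d + 1)))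
      (fun q => by rw [mem_A0]; exact Nat.le_of_lt_succ q.isLt) (fun a b h => h)
    exact (congrArg Fin.val (congrFun this p)).symm
  have hc' : (A0 r)ᶜ.card = d - r.val := card_compl_of r hc
  have e2 : ∀ p : Fin (d - r.val), ((A0 r)ᶜ.orderEmbOfFin hc' p).val = r.val + 1 + p.val := by
    intro p
    have := Finset.orderEmbOfFin_unique hc' (f := fun q : Fin (d - r.val) => (⟨r.val + 1 + q.val, by omega⟩ : Fin (d + 1)))
      (fun q => by rw [Finset.mem_compl, mem_A0]; simp only; omega)
      (fun a b h => by simp only [Fin.lt_def] at h ⊢; omega)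
    exact (congrArg Fin.val (congrFun this p)).symm
  have hI : shuffleI i j r (A0 r) hc = i.1 := by
    funext t
    unfold shuffleI
    split_ifs with h
    · unfold movingRows
      rw [dif_pos (by rw [e1]; exact h)]
      exact congrArg i.1 (Fin.ext (e1 _))
    · rfl
  have hJ : shuffleJ i j r (A0 r) hc = j.1 := by
    funext t
    simp only [shuffleJ]
    split_ifs with h
    · rfl
    · unfold movingRows
      rw [dif_neg (by rw [e2]; omega)]
      refine congrArg j.1 (Fin.ext ?_)
      show _ - 1 = t.val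
      rw [e2]; simp only; omega
  have hs : shuffleSign r (A0 r) = 0 := by
    have : (A0 r).sum (fun a => a.val) = r.val * (r.val + 1) / 2 := by
      rw [A0_eq, Finset.sum_map]
      simp only [Function.Embedding.coeFn_mk, Fin.val_castLE]
      rw [Fin.sum_univ_eq_sum_range fun x => x, Finset.sum_range_id, Nat.add_sub_cancel, Nat.mul_comm]
    rw [shuffleSign, this, Nat.sub_self]
  rw [hI, hJ, hs, coord_self, coord_self, pow_zero, one_mul]

/-- Span of the products with a strictly heavier first factor. -/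
noncomputable def heavier : Submodule K (PlRing K d n) :=
  Submodule.span K {f | ∃ i' j' : Idx d n, wt i < wt i' ∧ f = X i' * X j'}

theorem term_mem (hp : IsPivot i j r) (A : Finset (Fin (d + 1))) (hne : A ≠ A0 r) :
    shuffleTerm K i j r A ∈ heavier (K := K) i := by
  unfold shuffleTerm
  split_ifs with hA
  · rcases coord_cases (K := K) (shuffleI i j r A hA) with h | ⟨h1, c1, h⟩
    · rw [h, mul_zero, zero_mul]; exact zero_mem _
    rcases coord_cases (K := K) (shuffleJ i j r A hA) with h' | ⟨h2, c2, h'⟩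
    · rw [h', mul_zero]; exact zero_mem _
    rw [h, h', show ((-1 : PlRing K d n) ^ shuffleSign r A) * (C c1 * X (sortIdx d n _ h1)) *
        (C c2 * X (sortIdx d n _ h2)) = ((-1 : K) ^ shuffleSign r A * c1 * c2) •
          (X (sortIdx d n _ h1) * X (sortIdx d n _ h2) : PlRing K d n) by
      rw [MvPolynomial.smul_eq_C_mul]; simp; ring]
    refine Submodule.smul_mem _ _ (Submodule.subset_span ⟨_, _, ?_, rfl⟩)
    rw [wt_sortIdx]
    have hge : ∀ t, i.1 t ≤ shuffleI i j r A hA t := by
      intro t
      unfold shuffleI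
      split_ifs with ht
      · have h0 : movingRows i j r ⟨t.val, by omega⟩ = i.1 t := by unfold movingRows; rw [dif_pos ht]
        rw [← h0]
        exact (movingRows_strictMono hp).monotone (show t.val ≤ _ from orderEmb_ge hA ⟨t.val, by omega⟩)
      · exact le_rfl
    refine Finset.sum_lt_sum (fun t _ => hge t) ?_
    obtain ⟨p, hpne⟩ : ∃ p : Fin (r.val + 1), (A.orderEmbOfFin hA p).val ≠ p.val := by
      by_contra hcon
      push Not at hcon
      refine hne ?_
      rw [← Finset.image_orderEmbOfFin_univ A hA, A0_eq, Finset.map_eq_image]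
      exact Finset.image_congr fun p _ => Fin.ext (hcon p)
    have hlt : p.val < (A.orderEmbOfFin hA p).val := lt_of_le_of_ne (orderEmb_ge hA p) (Ne.symm hpne)
    have hple : p.val ≤ r.val := Nat.le_of_lt_succ p.isLt
    refine ⟨⟨p.val, by omega⟩, Finset.mem_univ _, ?_⟩
    rw [shuffleI, dif_pos hple]
    have h0 : movingRows i j r ⟨p.val, by omega⟩ = i.1 ⟨p.val, by omega⟩ := by
      unfold movingRows; rw [dif_pos hple]
    rw [← h0]
    exact movingRows_strictMono hp (show p.val < (A.orderEmbOfFin hA p).val from hlt)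
  · exact zero_mem _

theorem shuffleRel_sub_mem (hp : IsPivot i j r) :
    shuffleRel K i j r - X i * X j ∈ heavier (K := K) i := by
  classical
  rw [shuffleRel, ← Finset.add_sum_erase _ _ (Finset.mem_univ (A0 r)), term_A0, add_sub_cancel_left]
  exact Submodule.sum_mem _ fun A hA => term_mem i j r hp A (Finset.mem_erase.mp hA).1

theorem exists_pivot {i j : Idx d n} (h : ¬ j ≤ i) : ∃ r, IsPivot i j r := by
  classical
  have hex : ∃ t, i.1 t < j.1 t := by
    by_contra hc
    push Not at hc
    exact h hc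
  obtain ⟨r, hr, hmin⟩ := Finset.exists_min_image ((univ : Finset (Fin d)).filter fun t => i.1 t < j.1 t) id
    (by obtain ⟨t, ht⟩ := hex; exact ⟨t, by simp [ht]⟩)
  refine ⟨r, fun t ht => ?_, (Finset.mem_filter.mp hr).2⟩
  by_contra hc
  exact absurd (hmin t (Finset.mem_filter.mpr ⟨Finset.mem_univ _, not_le.mp hc⟩)) (not_le.mpr ht)

/-- Standard chains between `v` and `w`. -/
abbrev Chains (v w : Idx d n) (m : ℕ) : Type :=
  {c : Fin m → Idx d n // Antitone c ∧ ∀ k, v ≤ c k ∧ c k ≤ w}

noncomputable instance (v w : Idx d n) (m : ℕ) : Fintype (Chains v w m) := Fintype.ofFinite _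

/-- The relations of the interval. -/
noncomputable def outIdeal (v w : Idx d n) : Ideal (PlRing K d n) :=
  plIdealTop K ⊔ Ideal.span {f | ∃ φ : Idx d n, ¬ (v ≤ φ ∧ φ ≤ w) ∧ f = X φ}

variable {i j r}

theorem chain_of_comparable : ∀ (m : ℕ) (M : Multiset (Idx d n)), Multiset.card M = m →
    (∀ a ∈ M, ∀ b ∈ M, a ≤ b ∨ b ≤ a) →
    ∃ c : Fin m → Idx d n, Antitone c ∧ (∀ k, c k ∈ M) ∧ chainMon K c = (M.map X).prod := by
  classical
  intro m
  induction m with
  | zero =>
    intro M hM _
    rw [Multiset.card_eq_zero.mp hM]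
    exact ⟨Fin.elim0, fun a => a.elim0, fun k => k.elim0, by simp [chainMon]⟩
  | succ m ih =>
    intro M hM hc
    have hne : M.toFinset.Nonempty := by
      obtain ⟨a, ha⟩ := Multiset.card_pos_iff_exists_mem.mp (by rw [hM]; omega)
      exact ⟨a, Multiset.mem_toFinset.mpr ha⟩
    obtain ⟨x, hx⟩ := M.toFinset.exists_maximal hne
    have hxM : x ∈ M := Multiset.mem_toFinset.mp hx.1
    have htop : ∀ b ∈ M, b ≤ x := fun b hb => by
      rcases hc x hxM b hb with h | h
      · exact hx.2 (Multiset.mem_toFinset.mpr hb) h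
      · exact h
    obtain ⟨c, hcm, hcmem, hcp⟩ := ih (M.erase x) (by rw [Multiset.card_erase_of_mem hxM, hM]; rfl)
      (fun a ha b hb => hc a (Multiset.mem_of_mem_erase ha) b (Multiset.mem_of_mem_erase hb))
    refine ⟨Fin.cons x c, ?_, ?_, ?_⟩
    · intro a b hab
      rcases Fin.eq_zero_or_eq_succ a with rfl | ⟨a, rfl⟩
      · rcases Fin.eq_zero_or_eq_succ b with rfl | ⟨b, rfl⟩
        · exact le_rfl
        · simpa using htop _ (Multiset.mem_of_mem_erase (hcmem b))
      · rcases Fin.eq_zero_or_eq_succ b with rfl | ⟨b, rfl⟩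
        · exact absurd hab (not_le.mpr (Fin.succ_pos a))
        · simpa using hcm (Fin.succ_le_succ_iff.mp hab)
    · intro k
      rcases Fin.eq_zero_or_eq_succ k with rfl | ⟨k, rfl⟩
      · simpa using hxM
      · simpa using Multiset.mem_of_mem_erase (hcmem k)
    · rw [chainMon] at hcp ⊢
      rw [Fin.prod_univ_succ]
      simp only [Fin.cons_zero, Fin.cons_succ]
      rw [hcp, ← Multiset.prod_cons, ← Multiset.map_cons X, Multiset.cons_erase hxM]

/-- Straightening: monomials are combinations of standard monomials modulo the relations. -/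
theorem monomial_mem (v w : Idx d n) (m : ℕ) : ∀ M : Multiset (Idx d n), Multiset.card M = m →
    (M.map X).prod ∈ Submodule.span K (Set.range fun c : Chains v w m => chainMon K c.1) ⊔
      (outIdeal (K := K) v w).restrictScalars K := by
  classical
  set T := Submodule.span K (Set.range fun c : Chains v w m => chainMon K c.1) ⊔
    (outIdeal (K := K) v w).restrictScalars K
  let μ : Multiset (Idx d n) → ℕ := fun M => (M.map fun θ => 3 ^ wt θ).sum
  have hμ : ∀ M : Multiset (Idx d n), Multiset.card M = m → μ M ≤ m * 3 ^ (d * n) := by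
    intro M hM
    have := Multiset.sum_le_card_nsmul (M.map fun θ => 3 ^ wt θ) (3 ^ (d * n)) (fun x hx => by
      obtain ⟨θ, -, rfl⟩ := Multiset.mem_map.mp hx
      exact Nat.pow_le_pow_right (by norm_num) (wt_le θ))
    rwa [Multiset.card_map, hM, smul_eq_mul] at this
  suffices ∀ k, ∀ M : Multiset (Idx d n), Multiset.card M = m → m * 3 ^ (d * n) - μ M = k →
      (M.map X).prod ∈ T from fun M hM => this _ M hM rfl
  intro k
  induction k using Nat.strong_induction_on with
  | _ k ih =>
    intro M hM hk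
    by_cases hout : ∃ φ ∈ M, ¬ (v ≤ φ ∧ φ ≤ w)
    · obtain ⟨φ, hφ, hφ'⟩ := hout
      refine Submodule.mem_sup_right ?_
      show _ ∈ outIdeal (K := K) v w
      rw [← Multiset.cons_erase hφ, Multiset.map_cons, Multiset.prod_cons]
      exact Ideal.mul_mem_right _ _ (Ideal.mem_sup_right (Ideal.subset_span ⟨φ, hφ', rfl⟩))
    push Not at hout
    by_cases hcmp : ∀ a ∈ M, ∀ b ∈ M, a ≤ b ∨ b ≤ a
    · obtain ⟨c, hc1, hc2, hc3⟩ := chain_of_comparable (K := K) m M hM hcmp
      rw [← hc3]
      exact Submodule.mem_sup_left (Submodule.subset_span ⟨⟨c, hc1, fun k => hout _ (hc2 k)⟩, rfl⟩)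
    push Not at hcmp
    obtain ⟨a, ha, b, hb, hab⟩ := hcmp
    obtain ⟨i, hi, j, hj, hji, hwt⟩ : ∃ i ∈ M, ∃ j ∈ M, ¬ j ≤ i ∧ wt j ≤ wt i := by
      rcases le_total (wt a) (wt b) with h | h
      · exact ⟨b, hb, a, ha, hab.1, h⟩
      · exact ⟨a, ha, b, hb, hab.2, h⟩
    have hij : j ≠ i := fun h => hji (h ▸ le_rfl)
    obtain ⟨r, hr⟩ := exists_pivot hji
    set rest := (M.erase i).erase j
    have hjM : j ∈ M.erase i := (Multiset.mem_erase_of_ne hij).mpr hj
    have hMeq : M = i ::ₘ j ::ₘ rest := by rw [Multiset.cons_erase hjM, Multiset.cons_erase hi]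
    have key : heavier (K := K) i ≤ T.comap (LinearMap.mulRight K (rest.map X).prod) := by
      rw [heavier, Submodule.span_le]
      rintro _ ⟨i', j', hw', rfl⟩
      show X i' * X j' * (rest.map X).prod ∈ T
      have hM' : Multiset.card (i' ::ₘ j' ::ₘ rest) = m := by
        rw [← hM, hMeq]; simp
      have := ih _ ?_ (i' ::ₘ j' ::ₘ rest) hM' rfl
      · simpa [mul_assoc] using this
      · rw [← hk]
        have hμM : μ M = μ (i ::ₘ j ::ₘ rest) := congrArg μ hMeq
        have hlt : μ (i ::ₘ j ::ₘ rest) < μ (i' ::ₘ j' ::ₘ rest) := by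
          simp only [μ, Multiset.map_cons, Multiset.sum_cons]
          have h1 : 3 * 3 ^ wt i ≤ 3 ^ wt i' := by
            rw [← pow_succ']; exact Nat.pow_le_pow_right (by norm_num) hw'
          have h2 : (3 : ℕ) ^ wt j ≤ 3 ^ wt i := Nat.pow_le_pow_right (by norm_num) hwt
          have h3 : 1 ≤ (3 : ℕ) ^ wt i := Nat.one_le_pow _ _ (by norm_num)
          have h4 : 1 ≤ (3 : ℕ) ^ wt j' := Nat.one_le_pow _ _ (by norm_num)
          omega
        have := hμ _ hM'
        generalize μ M = A, μ (i ::ₘ j ::ₘ rest) = B, μ (i' ::ₘ j' ::ₘ rest) = C at *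
        omega
    have h1 := key (shuffleRel_sub_mem (K := K) i j r hr)
    rw [Submodule.mem_comap, LinearMap.mulRight_apply, sub_mul] at h1
    have h2 : shuffleRel K i j r * (rest.map X).prod ∈ T := Submodule.mem_sup_right
      (show _ ∈ outIdeal (K := K) v w from
        Ideal.mul_mem_right _ _ (Ideal.mem_sup_left (Ideal.subset_span ⟨i, j, r, hr, rfl⟩)))
    have h3 := T.sub_mem h2 h1
    rw [sub_sub_cancel] at h3
    rw [hMeq]
    simpa [mul_assoc] using h3

theorem span_chains (v w : Idx d n) (f : PlRing K d n) :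
    f ∈ Submodule.span K (Set.range fun c : (Σ m, Chains v w m) => chainMon K c.2.1) ⊔
      (outIdeal (K := K) v w).restrictScalars K := by
  induction f using MvPolynomial.induction_on' with
  | monomial e a =>
    rw [← mul_one a, ← smul_eq_mul, ← MvPolynomial.smul_monomial]
    refine Submodule.smul_mem _ a ?_
    have h : monomial e (1 : K) = (e.toMultiset.map X).prod := by
      rw [Finsupp.toMultiset_map, Finsupp.prod_toMultiset,
        Finsupp.prod_mapDomain_index (fun _ => pow_zero _) (fun _ _ _ => pow_add _ _ _), monomial_eq, C_1, one_mul]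
    rw [h]
    have hle : Submodule.span K (Set.range fun c : Chains v w (Multiset.card e.toMultiset) => chainMon K c.1) ≤
        Submodule.span K (Set.range fun c : (Σ m, Chains v w m) => chainMon K c.2.1) := by
      rw [Submodule.span_le]
      rintro _ ⟨c, rfl⟩
      exact Submodule.subset_span ⟨⟨_, c⟩, rfl⟩
    exact (sup_le_sup hle le_rfl) (monomial_mem v w _ e.toMultiset rfl)
  | add p q hp hq => exact add_mem hp hq

end Groth.L14.SMT
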