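import Groth.Agent.L14.SMT.Cell
import Groth.Agent.L14.SMT.Straighten
import Mathlib.LinearAlgebra.Matrix.Rank

/-!
Plücker quadrics cut out the decomposable vectors.
-/

open MvPolynomial W4bk4grassmannian Finset

namespace Groth.L14.Quad

universe u

open Groth.L14.SMT

variable {K : Type u} [Field K] {e n : ℕ}

/-- Signed value of a tuple. -/
noncomputable def val {d : ℕ} (q : Idx d n → K) (a : Fin d → Fin n) : K :=
  MvPolynomial.eval q (coord K d n a)

theorem val_eq {d : ℕ} (q : Idx d n → K) (a : Fin d → Fin n) (h : (univ.image a).card = d) :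
    val q a = (-1) ^ invCount d n a * q (sortIdx d n a h) := by
  rw [val, coord, dif_pos h]
  simp

theorem val_eq_zero {d : ℕ} (q : Idx d n → K) (a : Fin d → Fin n) (h : ¬ Function.Injective a) : val q a = 0 := by
  rw [val, coord, dif_neg (by rwa [card_image_iff]), map_zero]

theorem val_self {d : ℕ} (q : Idx d n → K) (θ : Idx d n) : val q θ.1 = q θ := by
  rw [val, coord_self, eval_X]

theorem image_sortIdx {d : ℕ} (a : Fin d → Fin n) (h : (univ.image a).card = d) :
    univ.image (sortIdx d n a h).1 = univ.image a := Finset.image_orderEmbOfFin_univ _ h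

theorem eq_of_image_eq {d : ℕ} {θ θ' : Idx d n} (h : univ.image θ.1 = univ.image θ'.1) : θ = θ' := by
  have hc : (univ.image θ.1).card = d := (card_image_iff _).mpr θ.2.injective
  have h1 := Finset.orderEmbOfFin_unique hc (fun x => Finset.mem_image_of_mem _ (Finset.mem_univ x)) θ.2
  have h2 := Finset.orderEmbOfFin_unique hc
    (fun x => h ▸ Finset.mem_image_of_mem _ (Finset.mem_univ x)) θ'.2
  exact Subtype.ext (h1.trans h2.symm)

theorem eval_minors {d : ℕ} (A : Matrix (Fin n) (Fin d) K) (a : Fin d → Fin n) :
    val (fun θ : Idx d n => (A.submatrix θ.1 id).det) a = (A.submatrix a id).det := by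
  have h := map_coord (MvPolynomial.aeval (R := K) fun θ : Idx d n => (A.submatrix θ.1 id).det) A
    (fun θ => aeval_X _ θ) a
  rw [← h, val]
  rfl

/-- The quadric, evaluated. -/
noncomputable def quadVal (q : Idx (e + 1) n → K) (i' : Idx e n) (j' : Idx (e + 2) n) : K :=
  ∑ h : Fin (e + 2), (-1) ^ (h.val + 1) * val q (Fin.snoc i'.1 (j'.1 h)) * val q (j'.1 ∘ h.succAbove)

theorem eval_quadric (q : Idx (e + 1) n → K) (i' : Idx e n) (j' : Idx (e + 2) n) :
    MvPolynomial.eval q (quadric K i' j') = quadVal q i' j' := by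
  simp [quadric, quadVal, val, map_sum]

theorem quadVal_minors (A : Matrix (Fin n) (Fin (e + 1)) K) (i' : Idx e n) (j' : Idx (e + 2) n) :
    quadVal (fun θ : Idx (e + 1) n => (A.submatrix θ.1 id).det) i' j' = 0 := by
  simp only [quadVal, eval_minors]
  let γ : Fin (e + 1) → K := fun c =>
    (-1) ^ ((Fin.last e).val + c.val) * ((A.submatrix i'.1 id).submatrix id c.succAbove).det
  have hexp : ∀ v : Fin n, (A.submatrix (Fin.snoc i'.1 v) id).det = ∑ c, A v c * γ c := by
    intro v
    rw [Matrix.det_succ_row _ (Fin.last e)]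
    refine Finset.sum_congr rfl fun c _ => ?_
    simp only [γ, Matrix.submatrix_apply, Fin.snoc_last, id_eq, Matrix.submatrix_submatrix]
    rw [show (Fin.snoc i'.1 v : Fin (e + 1) → Fin n) ∘ (Fin.last e).succAbove = i'.1 from by
      funext k; simp [Fin.succAbove_last]]
    simp only [Function.id_comp, Function.comp_id]
    ring
  simp only [hexp, Finset.mul_sum, Finset.sum_mul]
  rw [Finset.sum_comm]
  refine Finset.sum_eq_zero fun c _ => ?_
  let M : Matrix (Fin (e + 2)) (Fin (e + 2)) K := Matrix.of fun h t => Fin.cons (α := fun _ => K) (A (j'.1 h) c) (A (j'.1 h)) t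
  have hM : M.det = 0 := Matrix.det_zero_of_column_eq (Fin.succ_ne_zero c).symm fun h => by simp [M]
  have hexp2 : M.det = ∑ h, (-1) ^ h.val * A (j'.1 h) c * (A.submatrix (j'.1 ∘ h.succAbove) id).det := by
    rw [Matrix.det_succ_column_zero]
    refine Finset.sum_congr rfl fun h _ => ?_
    congr 1
  rw [hM] at hexp2
  calc _ = -γ c * ∑ h, (-1) ^ h.val * A (j'.1 h) c * (A.submatrix (j'.1 ∘ h.succAbove) id).det := by
        rw [Finset.mul_sum]
        refine Finset.sum_congr rfl fun h _ => ?_
        rw [pow_succ]
        ring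
    _ = 0 := by rw [← hexp2, mul_zero]

/-- Quadrics determine all coordinates from those next to a nonzero one. -/
theorem eq_of_quadrics (q q' : Idx (e + 1) n → K) (hq : ∀ i' j', quadVal q i' j' = 0)
    (hq' : ∀ i' j', quadVal q' i' j' = 0) (θ0 : Idx (e + 1) n) (h0 : q θ0 ≠ 0)
    (hnear : ∀ θ : Idx (e + 1) n, (univ.image θ.1 \ univ.image θ0.1).card ≤ 1 → q θ = q' θ) :
    ∀ θ, q θ = q' θ := by
  classical
  suffices ∀ (k : ℕ) (θ : Idx (e + 1) n), (univ.image θ.1 \ univ.image θ0.1).card = k → q θ = q' θ from
    fun θ => this _ θ rfl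
  intro k
  induction k using Nat.strong_induction_on with
  | _ k ih =>
    intro θ hk
    by_cases hk1 : k ≤ 1
    · exact hnear θ (hk ▸ hk1)
    obtain ⟨x, hx⟩ := Finset.card_pos.mp (show 0 < (univ.image θ.1 \ univ.image θ0.1).card by omega)
    rw [Finset.mem_sdiff] at hx
    have hcθ : (univ.image θ.1).card = e + 1 := (card_image_iff _).mpr θ.2.injective
    have hcθ0 : (univ.image θ0.1).card = e + 1 := (card_image_iff _).mpr θ0.2.injective
    have hSi : ((univ.image θ.1).erase x).card = e := by rw [Finset.card_erase_of_mem hx.1, hcθ]; rfl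
    have hSj : (insert x (univ.image θ0.1)).card = e + 2 := by rw [Finset.card_insert_of_notMem hx.2, hcθ0]
    let i' : Idx e n := ⟨Finset.orderEmbOfFin _ hSi, (Finset.orderEmbOfFin _ hSi).strictMono⟩
    let j' : Idx (e + 2) n := ⟨Finset.orderEmbOfFin _ hSj, (Finset.orderEmbOfFin _ hSj).strictMono⟩
    have hi'im : univ.image i'.1 = (univ.image θ.1).erase x := Finset.image_orderEmbOfFin_univ _ hSi
    have hj'im : univ.image j'.1 = insert x (univ.image θ0.1) := Finset.image_orderEmbOfFin_univ _ hSj
    obtain ⟨hx0, -, hhx⟩ := Finset.mem_image.mp (show x ∈ univ.image j'.1 by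
      rw [hj'im]; exact Finset.mem_insert_self _ _)
    have himg : ∀ h : Fin (e + 2), univ.image (Fin.snoc i'.1 (j'.1 h) : Fin (e + 1) → Fin n) =
        insert (j'.1 h) ((univ.image θ.1).erase x) := by
      intro h
      rw [← hi'im]
      ext y
      simp [Fin.exists_fin_succ', eq_comm, or_comm]
    have himg2 : ∀ h : Fin (e + 2),
        univ.image (j'.1 ∘ h.succAbove) = (insert x (univ.image θ0.1)).erase (j'.1 h) := by
      intro h
      rw [← hj'im]
      ext y
      simp only [mem_image, mem_univ, true_and, Function.comp_apply, mem_erase]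
      constructor
      · rintro ⟨t, rfl⟩
        exact ⟨fun hh => Fin.succAbove_ne h t (j'.2.injective hh), h.succAbove t, rfl⟩
      · rintro ⟨hne, t, rfl⟩
        obtain ⟨s, rfl⟩ := Fin.exists_succAbove_eq (show t ≠ h from fun hh => hne (hh ▸ rfl))
        exact ⟨s, rfl⟩
    have hterm : ∀ h, h ≠ hx0 → val q (Fin.snoc i'.1 (j'.1 h)) * val q (j'.1 ∘ h.succAbove) =
        val q' (Fin.snoc i'.1 (j'.1 h)) * val q' (j'.1 ∘ h.succAbove) := by
      intro h hh
      have hyx : j'.1 h ≠ x := fun hh' => hh (j'.2.injective (hh'.trans hhx.symm))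
      have hy0 : j'.1 h ∈ univ.image θ0.1 := by
        have : j'.1 h ∈ univ.image j'.1 := Finset.mem_image_of_mem _ (Finset.mem_univ _)
        rw [hj'im, Finset.mem_insert] at this
        exact this.resolve_left hyx
      by_cases hinj : Function.Injective (Fin.snoc i'.1 (j'.1 h) : Fin (e + 1) → Fin n)
      swap
      · rw [val_eq_zero q _ hinj, val_eq_zero q' _ hinj, zero_mul, zero_mul]
      have hc1 := (card_image_iff _).mpr hinj
      have hc2 : (univ.image (j'.1 ∘ h.succAbove)).card = e + 1 :=
        (card_image_iff _).mpr (j'.2.injective.comp Fin.succAbove_right_injective)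
      rw [val_eq q _ hc1, val_eq q' _ hc1, val_eq q _ hc2, val_eq q' _ hc2,
        ih ((univ.image (sortIdx _ n _ hc1).1 \ univ.image θ0.1).card) ?_ _ rfl,
        hnear (sortIdx _ n _ hc2) ?_]
      · rw [image_sortIdx, himg2]
        refine le_trans (Finset.card_le_card (t := {x}) fun y hy => ?_) (by simp)
        simp only [Finset.mem_sdiff, Finset.mem_erase, Finset.mem_insert] at hy
        simp only [Finset.mem_singleton]
        tauto
      · rw [image_sortIdx, himg, ← hk]
        refine Finset.card_lt_card ⟨fun y hy => ?_, fun hsub => ?_⟩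
        · simp only [Finset.mem_sdiff, Finset.mem_insert, Finset.mem_erase] at hy ⊢
          rcases hy.1 with rfl | h'
          · exact absurd hy0 hy.2
          · exact ⟨h'.2, hy.2⟩
        · have := hsub (Finset.mem_sdiff.mpr hx)
          simp only [Finset.mem_sdiff, Finset.mem_insert, Finset.mem_erase] at this
          rcases this.1 with h' | h'
          · exact hyx h'.symm
          · exact h'.1 rfl
    have h1 := hq i' j'
    have h2 := hq' i' j'
    rw [quadVal, ← Finset.add_sum_erase _ _ (Finset.mem_univ hx0)] at h1 h2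
    have hrest : ∑ h ∈ univ.erase hx0, (-1 : K) ^ (h.val + 1) * val q (Fin.snoc i'.1 (j'.1 h)) *
        val q (j'.1 ∘ h.succAbove) = ∑ h ∈ univ.erase hx0, (-1 : K) ^ (h.val + 1) * val q' (Fin.snoc i'.1 (j'.1 h)) *
        val q' (j'.1 ∘ h.succAbove) := Finset.sum_congr rfl fun h hh => by
      rw [mul_assoc, mul_assoc, hterm h (Finset.ne_of_mem_erase hh)]
    rw [hrest] at h1
    have hc1 : (univ.image (Fin.snoc i'.1 (j'.1 hx0) : Fin (e + 1) → Fin n)).card = e + 1 := by
      rw [himg, hhx, Finset.insert_erase hx.1, hcθ]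
    have hc2 : (univ.image (j'.1 ∘ hx0.succAbove)).card = e + 1 := by
      rw [himg2, hhx, Finset.erase_insert hx.2, hcθ0]
    have hs1 : sortIdx _ n _ hc1 = θ := eq_of_image_eq (by
      rw [image_sortIdx, himg, hhx, Finset.insert_erase hx.1])
    have hs2 : sortIdx _ n _ hc2 = θ0 := eq_of_image_eq (by
      rw [image_sortIdx, himg2, hhx, Finset.erase_insert hx.2])
    rw [val_eq q _ hc1, val_eq q _ hc2, hs1, hs2] at h1
    rw [val_eq q' _ hc1, val_eq q' _ hc2, hs1, hs2, ← hnear θ0 (by simp)] at h2
    have h3 := (add_right_cancel (h1.trans h2.symm))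
    have hne : ∀ k : ℕ, (-1 : K) ^ k ≠ 0 := fun k => pow_ne_zero _ (neg_ne_zero.mpr one_ne_zero)
    exact mul_left_cancel₀ (hne _) (mul_left_cancel₀ (hne _) (mul_right_cancel₀ (mul_ne_zero (hne _) h0) h3))

theorem decomposable_iff (q : Idx (e + 1) n → K) (hq : q ≠ 0) :
    (∀ (i' : Idx e n) (j' : Idx (e + 2) n), MvPolynomial.eval q (quadric K i' j') = 0) ↔
      ∃ A : Matrix (Fin n) (Fin (e + 1)) K, ∀ θ : Idx (e + 1) n, q θ = (A.submatrix θ.1 id).det := by
  classical
  constructor
  swap
  · rintro ⟨A, hA⟩ i' j'
    rw [eval_quadric, show q = fun θ : Idx (e + 1) n => (A.submatrix θ.1 id).det from _root_.funext hA]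
    exact quadVal_minors A i' j'
  intro h
  obtain ⟨θ0, h0⟩ : ∃ θ0, q θ0 ≠ 0 := by
    by_contra hc
    push Not at hc
    exact hq (_root_.funext hc)
  let B : Matrix (Fin n) (Fin (e + 1)) K := Matrix.of fun r c => val q (Function.update θ0.1 c r) / q θ0
  let w : Fin (e + 1) → K := fun c => if c = 0 then q θ0 else 1
  let A : Matrix (Fin n) (Fin (e + 1)) K := B * Matrix.diagonal w
  have hdet : ∀ a : Fin (e + 1) → Fin n, (A.submatrix a id).det = (B.submatrix a id).det * q θ0 := by
    intro a
    have : A.submatrix a id = B.submatrix a id * Matrix.diagonal w := by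
      rw [show A = B * Matrix.diagonal w from rfl,
        Matrix.submatrix_mul B (Matrix.diagonal w) a id id Function.bijective_id, Matrix.submatrix_id_id]
    rw [this, Matrix.det_mul, Matrix.det_diagonal]
    congr 1
    simp [w]
  have hB1 : B.submatrix θ0.1 id = 1 := by
    refine Matrix.ext fun k c => ?_
    show val q (Function.update θ0.1 c (θ0.1 k)) / q θ0 = _
    rw [Matrix.one_apply]
    split_ifs with hkc
    · subst hkc
      rw [Function.update_eq_self, val_self, div_self h0]
    · rw [val_eq_zero, zero_div]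
      intro hinj
      exact hkc (hinj (by rw [Function.update_self, Function.update_of_ne hkc]))
  refine ⟨A, eq_of_quadrics q _ (fun i' j' => by rw [← eval_quadric]; exact h i' j') (quadVal_minors A) θ0 h0
    fun θ hθ => ?_⟩
  rcases Nat.eq_zero_or_pos (univ.image θ.1 \ univ.image θ0.1).card with hz | hpos
  · have : θ = θ0 := eq_of_image_eq (Finset.eq_of_subset_of_card_le
      (Finset.sdiff_eq_empty_iff_subset.mp (Finset.card_eq_zero.mp hz))
      (by rw [(card_image_iff _).mpr θ.2.injective, (card_image_iff _).mpr θ0.2.injective]))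
    subst this
    show _ = (A.submatrix θ.1 id).det
    rw [hdet, hB1, Matrix.det_one, one_mul]
  · obtain ⟨r, hr⟩ := Finset.card_eq_one.mp (le_antisymm hθ hpos)
    have hcard : (univ.image θ0.1 \ univ.image θ.1).card = 1 :=
      (Finset.card_sdiff_comm (by
        rw [(card_image_iff _).mpr θ.2.injective, (card_image_iff _).mpr θ0.2.injective])).trans
        (le_antisymm hθ hpos)
    obtain ⟨y, hy⟩ := Finset.card_eq_one.mp hcard
    obtain ⟨c, -, hc⟩ := Finset.mem_image.mp (Finset.mem_sdiff.mp (hy ▸ Finset.mem_singleton_self y)).1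
    have hrm := Finset.mem_sdiff.mp (hr ▸ Finset.mem_singleton_self r)
    have him : univ.image (Function.update θ0.1 c r) = univ.image θ.1 := by
      have hsub : univ.image θ.1 ⊆ univ.image (Function.update θ0.1 c r) := by
        intro z hz
        by_cases hz0 : z ∈ univ.image θ0.1
        · obtain ⟨t, -, rfl⟩ := Finset.mem_image.mp hz0
          have htc : t ≠ c := by
            rintro rfl
            rw [hc] at hz
            exact (Finset.mem_sdiff.mp (hy ▸ Finset.mem_singleton_self y)).2 hz
          exact Finset.mem_image.mpr ⟨t, Finset.mem_univ _, Function.update_of_ne htc _ _⟩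
        · have : z ∈ univ.image θ.1 \ univ.image θ0.1 := Finset.mem_sdiff.mpr ⟨hz, hz0⟩
          rw [hr, Finset.mem_singleton] at this
          exact Finset.mem_image.mpr ⟨c, Finset.mem_univ _, by rw [Function.update_self, this]⟩
      refine (Finset.eq_of_subset_of_card_le hsub ?_).symm
      rw [(card_image_iff _).mpr θ.2.injective]
      exact le_trans Finset.card_image_le (by simp)
    have hcu : (univ.image (Function.update θ0.1 c r)).card = e + 1 := by
      rw [him, (card_image_iff _).mpr θ.2.injective]
    have hsort : sortIdx _ n _ hcu = θ := eq_of_image_eq (by rw [image_sortIdx, him])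
    have h1 : val (fun θ : Idx (e + 1) n => (A.submatrix θ.1 id).det) (Function.update θ0.1 c r) =
        val q (Function.update θ0.1 c r) := by
      rw [eval_minors, hdet, det_update_of_id B hB1]
      show val q _ / q θ0 * q θ0 = _
      rw [div_mul_cancel₀ _ h0]
    rw [val_eq _ _ hcu, val_eq _ _ hcu, hsort] at h1
    exact (mul_left_cancel₀ (pow_ne_zero _ (neg_ne_zero.mpr one_ne_zero)) h1).symm

/-- Matrices with proportional minors have the same column span. -/
theorem span_eq {d : ℕ} (A A' : Matrix (Fin n) (Fin d) K) (hA : LinearIndependent K A.transpose) (c : K)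
    (hc : c ≠ 0) (h : ∀ θ : Idx d n, (A.submatrix θ.1 id).det = c * (A'.submatrix θ.1 id).det) :
    Submodule.span K (Set.range A.transpose) = Submodule.span K (Set.range A'.transpose) := by
  classical
  have hanya : ∀ a : Fin d → Fin n, (A.submatrix a id).det = c * (A'.submatrix a id).det := by
    intro a
    by_cases ha : (univ.image a).card = d
    · rw [← eval_minors A, ← eval_minors A', val_eq _ _ ha, val_eq _ _ ha, h, mul_left_comm]
    · rw [card_image_iff] at ha
      obtain ⟨p, q, hpq, hne⟩ := Function.not_injective_iff.mp ha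
      rw [Matrix.det_zero_of_row_eq hne (_root_.funext fun t => by simp [hpq]),
        Matrix.det_zero_of_row_eq (M := A'.submatrix a id) hne (_root_.funext fun t => by simp [hpq]), mul_zero]
  obtain ⟨a, ha⟩ : ∃ a : Fin d → Fin n, (A.submatrix a id).det ≠ 0 := by
    have hr : Module.finrank K (Submodule.span K (Set.range A.row)) = d := by
      rw [← Matrix.rank_eq_finrank_span_row, ← Matrix.rank_transpose,
        Matrix.rank_eq_finrank_span_row,
        show A.transpose.row = A.transpose from rfl, finrank_span_eq_card hA, Fintype.card_fin]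
    obtain ⟨f, hfmem, -, hf2⟩ := Submodule.exists_fun_fin_finrank_span_eq K (Set.range A.row)
    have hmem : ∀ t : Fin d, ∃ i, A.row i = f (Fin.cast hr.symm t) := fun t => hfmem _
    choose a ha using hmem
    refine ⟨a, fun h0 => ?_⟩
    have hli : LinearIndependent K (A.submatrix a id).row := by
      have : (A.submatrix a id).row = f ∘ Fin.cast hr.symm := _root_.funext fun t => ha t
      rw [this]
      exact hf2.comp _ (Fin.cast_injective _)
    exact (Matrix.linearIndependent_rows_iff_isUnit.mp hli |>.map (Matrix.detMonoidHom)).ne_zero h0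
  have ha' : (A'.submatrix a id).det ≠ 0 := fun h0 => ha (by rw [hanya, h0, mul_zero])
  have hu := isUnit_iff_ne_zero.mpr ha
  have hu' := isUnit_iff_ne_zero.mpr ha'
  have hB : A * (A.submatrix a id)⁻¹ = A' * (A'.submatrix a id)⁻¹ := by
    refine Matrix.ext fun i t => ?_
    have key : ∀ (M : Matrix (Fin n) (Fin d) K), IsUnit (M.submatrix a id).det →
        (M.submatrix (Function.update a t i) id).det = (M * (M.submatrix a id)⁻¹) i t * (M.submatrix a id).det := by
      intro M hM
      set P := M.submatrix a id
      set B := M * P⁻¹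
      have h1 : B.submatrix a id = 1 := by
        rw [Matrix.submatrix_mul M P⁻¹ a id id Function.bijective_id, Matrix.submatrix_id_id, Matrix.mul_nonsing_inv P hM]
      have h2 : M.submatrix (Function.update a t i) id = B.submatrix (Function.update a t i) id * P := by
        rw [Matrix.submatrix_mul M P⁻¹ _ id id Function.bijective_id, Matrix.submatrix_id_id, Matrix.mul_assoc,
          Matrix.nonsing_inv_mul P hM, Matrix.mul_one]
      have h3 : B.submatrix (Function.update a t i) id = (1 : Matrix (Fin d) (Fin d) K).updateRow t (B i) := by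
        ext s c'
        rw [Matrix.updateRow_apply, ← h1]
        simp only [Matrix.submatrix_apply, id_eq, Function.update_apply]
        split_ifs <;> rfl
      rw [h2, Matrix.det_mul, h3, det_one_updateRow]
    have e1 := key A hu
    have e2 := key A' hu'
    rw [hanya, e2, hanya a] at e1
    exact mul_right_cancel₀ (mul_ne_zero hc ha') ((show _ = _ from e1.symm).trans (by ring))
  have hspan : ∀ (M : Matrix (Fin n) (Fin d) K), IsUnit (M.submatrix a id).det →
      Submodule.span K (Set.range M.transpose) = LinearMap.range (M * (M.submatrix a id)⁻¹).mulVecLin := by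
    intro M hM
    have h1 : Submodule.span K (Set.range M.transpose) = LinearMap.range M.mulVecLin := (Matrix.range_mulVecLin M).symm
    rw [h1, Matrix.mulVecLin_mul]
    refine (LinearMap.range_comp_of_range_eq_top _ (LinearMap.range_eq_top.mpr fun v =>
      ⟨(M.submatrix a id).mulVec v, ?_⟩)).symm
    rw [Matrix.mulVecLin_apply, Matrix.mulVec_mulVec, Matrix.nonsing_inv_mul _ hM, Matrix.one_mulVec]
  rw [hspan A hu, hspan A' hu', hB]

end Groth.L14.Quad
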