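import Mathlib.RingTheory.Regular.RegularSequence
import Mathlib.RingTheory.Ideal.Quotient.Operations
import Mathlib.LinearAlgebra.Quotient.Basic
import Mathlib.Tactic

/-!
Regular sequences on the first term of a short exact sequence.
-/

open RingTheory.Sequence
open scoped Pointwise

namespace Groth.L14.RegInf

universe u v

variable {R : Type u} [CommRing R]

theorem isWeaklyRegular_left : ∀ (l : List R) {N' N N'' : Type v} [AddCommGroup N'] [Module R N']
    [AddCommGroup N] [Module R N] [AddCommGroup N''] [Module R N''] (f : N' →ₗ[R] N) (g : N →ₗ[R] N''),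
    Function.Injective f → Function.Surjective g → Function.Exact f g → IsWeaklyRegular N l →
    IsWeaklyRegular N'' (l.take (l.length - 1)) → IsWeaklyRegular N' l
  | [], _, _, _, _, _, _, _, _, _, _, _, _, _, _, _, _ => IsWeaklyRegular.nil _ _
  | [x], N', N, N'', _, _, _, _, _, _, f, g, hf, _, _, hN, _ => by
    refine (isWeaklyRegular_cons_iff _ _ _).mpr ⟨fun a b hab => hf ?_, IsWeaklyRegular.nil _ _⟩
    have h := ((isWeaklyRegular_cons_iff _ _ _).mp hN).1
    apply h
    simp only at hab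
    simp only [← map_smul, hab]
  | x :: y :: l, N', N, N'', _, _, _, _, _, _, f, g, hf, hg, hfg, hN, hN'' => by
    obtain ⟨hx, hNl⟩ := (isWeaklyRegular_cons_iff _ _ _).mp hN
    rw [show (x :: y :: l).take ((x :: y :: l).length - 1) = x :: (y :: l).take ((y :: l).length - 1) by simp] at hN''
    obtain ⟨hx'', hN''l⟩ := (isWeaklyRegular_cons_iff _ _ _).mp hN''
    refine (isWeaklyRegular_cons_iff _ _ _).mpr ⟨fun a b hab => hf (hx ?_),
      isWeaklyRegular_left (y :: l) (QuotSMulTop.map x f) (QuotSMulTop.map x g) ?_ (QuotSMulTop.map_surjective x hg)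
        (QuotSMulTop.map_exact x hfg hg) hNl hN''l⟩
    · simp only at hab
      simp only [← map_smul, hab]
    · rw [injective_iff_map_eq_zero]
      intro q hq
      obtain ⟨a, rfl⟩ := Submodule.mkQ_surjective _ q
      have hq' : (Submodule.Quotient.mk (f a) : QuotSMulTop x N) = 0 := hq
      rw [Submodule.Quotient.mk_eq_zero] at hq'
      obtain ⟨b, -, hb⟩ := (Submodule.mem_smul_pointwise_iff_exists _ _ _).1 hq'
      have hgb : g b = 0 := by
        apply hx''
        show x • g b = x • 0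
        rw [← map_smul, hb, smul_zero, hfg.apply_apply_eq_zero]
      obtain ⟨c, rfl⟩ := (hfg b).mp hgb
      rw [← map_smul] at hb
      rw [← hf hb]
      exact (Submodule.Quotient.mk_eq_zero _).mpr
        ((Submodule.mem_smul_pointwise_iff_exists _ _ _).2 ⟨c, trivial, rfl⟩)

theorem isWeaklyRegular_prod : ∀ (l : List R) {M N : Type v} [AddCommGroup M] [Module R M] [AddCommGroup N]
    [Module R N], IsWeaklyRegular M l → IsWeaklyRegular N l → IsWeaklyRegular (M × N) l
  | [], _, _, _, _, _, _, _, _ => IsWeaklyRegular.nil _ _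
  | x :: l, M, N, _, _, _, _, hM, hN => by
    obtain ⟨h1, h1'⟩ := (isWeaklyRegular_cons_iff _ _ _).mp hM
    obtain ⟨h2, h2'⟩ := (isWeaklyRegular_cons_iff _ _ _).mp hN
    refine (isWeaklyRegular_cons_iff _ _ _).mpr ⟨fun a b hab => Prod.ext (h1 (congrArg Prod.fst hab))
      (h2 (congrArg Prod.snd hab)), ?_⟩
    have e : QuotSMulTop x (M × N) ≃ₗ[R] QuotSMulTop x M × QuotSMulTop x N := by
      refine LinearEquiv.ofBijective (LinearMap.prod (QuotSMulTop.map x (LinearMap.fst R M N))
        (QuotSMulTop.map x (LinearMap.snd R M N))) ⟨?_, ?_⟩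
      · rw [injective_iff_map_eq_zero]
        intro q hq
        obtain ⟨⟨a, b⟩, rfl⟩ := Submodule.mkQ_surjective _ q
        have ha : (Submodule.Quotient.mk a : QuotSMulTop x M) = 0 := congrArg Prod.fst hq
        have hb : (Submodule.Quotient.mk b : QuotSMulTop x N) = 0 := congrArg Prod.snd hq
        rw [Submodule.Quotient.mk_eq_zero] at ha hb
        obtain ⟨a', -, rfl⟩ := (Submodule.mem_smul_pointwise_iff_exists _ _ _).1 ha
        obtain ⟨b', -, rfl⟩ := (Submodule.mem_smul_pointwise_iff_exists _ _ _).1 hb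
        exact (Submodule.Quotient.mk_eq_zero _).mpr
          ((Submodule.mem_smul_pointwise_iff_exists _ _ _).2 ⟨(a', b'), trivial, rfl⟩)
      · rintro ⟨p, q⟩
        obtain ⟨a, rfl⟩ := Submodule.mkQ_surjective _ p
        obtain ⟨b, rfl⟩ := Submodule.mkQ_surjective _ q
        exact ⟨Submodule.Quotient.mk (a, b), rfl⟩
    exact (e.isWeaklyRegular_congr l).mpr (isWeaklyRegular_prod l h1' h2')

theorem isWeaklyRegular_inf {I J : Ideal R} (l : List R) (hI : IsWeaklyRegular (R ⧸ I) l)
    (hJ : IsWeaklyRegular (R ⧸ J) l) (hIJ : IsWeaklyRegular (R ⧸ (I ⊔ J)) (l.take (l.length - 1))) :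
    IsWeaklyRegular (R ⧸ (I ⊓ J)) l := by
  let f : R ⧸ (I ⊓ J) →ₗ[R] (R ⧸ I) × (R ⧸ J) :=
    LinearMap.prod (Submodule.factor inf_le_left) (Submodule.factor inf_le_right)
  let g : (R ⧸ I) × (R ⧸ J) →ₗ[R] R ⧸ (I ⊔ J) :=
    (Submodule.factor (le_sup_left : I ≤ I ⊔ J)).coprod (-(Submodule.factor (le_sup_right : J ≤ I ⊔ J)))
  refine isWeaklyRegular_left l f g ?_ ?_ ?_ (isWeaklyRegular_prod l hI hJ) hIJ
  · rw [injective_iff_map_eq_zero]
    intro x hx
    obtain ⟨z, rfl⟩ := Ideal.Quotient.mk_surjective x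
    have hx' : ((Ideal.Quotient.mk I z : R ⧸ I), (Ideal.Quotient.mk J z : R ⧸ J)) = 0 := hx
    rw [Prod.mk_eq_zero, Ideal.Quotient.eq_zero_iff_mem, Ideal.Quotient.eq_zero_iff_mem] at hx'
    exact Ideal.Quotient.eq_zero_iff_mem.mpr hx'
  · intro y
    obtain ⟨z, rfl⟩ := Ideal.Quotient.mk_surjective y
    refine ⟨(Ideal.Quotient.mk I z, 0), ?_⟩
    simp only [g, LinearMap.coprod_apply, map_zero, add_zero]
    rfl
  · intro x
    obtain ⟨a, b⟩ := x
    obtain ⟨a, rfl⟩ := Ideal.Quotient.mk_surjective a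
    obtain ⟨b, rfl⟩ := Ideal.Quotient.mk_surjective b
    have hg : g (Ideal.Quotient.mk I a, Ideal.Quotient.mk J b) = Ideal.Quotient.mk (I ⊔ J) (a - b) := by
      simp only [g, LinearMap.coprod_apply, LinearMap.neg_apply]
      rw [map_sub, sub_eq_add_neg]
      rfl
    rw [hg, Ideal.Quotient.eq_zero_iff_mem]
    constructor
    · intro h
      obtain ⟨u, hu, v, hv, huv⟩ := Submodule.mem_sup.mp h
      refine ⟨Ideal.Quotient.mk _ (a - u), Prod.ext ?_ ?_⟩
      · show Ideal.Quotient.mk I (a - u) = _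
        rw [Ideal.Quotient.eq]; simpa using neg_mem hu
      · show Ideal.Quotient.mk J (a - u) = _
        rw [Ideal.Quotient.eq, show a - u - b = v by linear_combination -huv]
        exact hv
    · rintro ⟨y, hy⟩
      obtain ⟨y, rfl⟩ := Ideal.Quotient.mk_surjective y
      have hy' : ((Ideal.Quotient.mk I y : R ⧸ I), (Ideal.Quotient.mk J y : R ⧸ J)) =
          (Ideal.Quotient.mk I a, Ideal.Quotient.mk J b) := hy
      rw [Prod.mk.injEq, Ideal.Quotient.eq, Ideal.Quotient.eq] at hy'
      rw [show a - b = (y - b) - (y - a) by ring]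
      exact sub_mem (Ideal.mem_sup_right hy'.2) (Ideal.mem_sup_left hy'.1)

end Groth.L14.RegInf
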