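import Groth.Agent.L14.SMT.Conseq
import Mathlib.LinearAlgebra.Matrix.SpecialLinearGroup
import Mathlib.LinearAlgebra.Matrix.Adjugate
import Mathlib.RingTheory.Localization.Away.Basic

/-!
The first fundamental theorem for `SL_d` acting on matrices on the right.
-/

open MvPolynomial W4bk4grassmannian Finset

namespace Groth.L14.SMT

universe u

variable {K : Type u} [Field K] {d n : ℕ}

theorem eval_minor_sl (A : Matrix (Fin n) (Fin d) K) (a : Fin d → Fin n) :
    MvPolynomial.eval (fun p : Fin n × Fin d => A p.1 p.2) (minor K d n a) = (A.submatrix a id).det := by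
  rw [minor, RingHom.map_det]
  congr 1
  exact Matrix.ext fun s t => by simp

theorem eval_pluckerMap_sl (A : Matrix (Fin n) (Fin d) K) (P : PlRing K d n) :
    MvPolynomial.eval (fun p : Fin n × Fin d => A p.1 p.2) (pluckerMap K d n P) = evalMinors K d n A P := by
  induction P using MvPolynomial.induction_on with
  | C a => simp [pluckerMap, evalMinors]
  | add x y hx hy => simp only [map_add, hx, hy]
  | mul_X x p hx =>
    rw [map_mul, map_mul, map_mul, hx]
    congr 1
    simp only [pluckerMap, evalMinors, aeval_X]
    exact eval_minor_sl A p.1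

theorem rightTranslate_eval (g : Matrix.SpecialLinearGroup (Fin d) K) (A : Matrix (Fin n) (Fin d) K)
    (f : MatRing K d n) :
    MvPolynomial.eval (fun p : Fin n × Fin d => A p.1 p.2) (rightTranslate K d n g f) =
      MvPolynomial.eval (fun p => (A * (g : Matrix (Fin d) (Fin d) K)) p.1 p.2) f := by
  induction f using MvPolynomial.induction_on with
  | C a => rw [show rightTranslate K d n g (C a) = C a from AlgHom.commutes _ a]; simp
  | add x y hx hy => simp only [map_add, hx, hy]
  | mul_X x p hx =>
    simp only [map_mul, hx, eval_X]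
    congr 1
    simp [rightTranslate, map_sum, Matrix.mul_apply]

theorem funext_matrix [Infinite K] {f f' : MatRing K d n}
    (h : ∀ A : Matrix (Fin n) (Fin d) K, MvPolynomial.eval (fun p => A p.1 p.2) f =
      MvPolynomial.eval (fun p => A p.1 p.2) f') : f = f' :=
  MvPolynomial.funext fun p => h (Matrix.of fun i s => p (i, s))

theorem rightTranslate_pluckerMap [Infinite K] (g : Matrix.SpecialLinearGroup (Fin d) K) (P : PlRing K d n) :
    rightTranslate K d n g (pluckerMap K d n P) = pluckerMap K d n P := by
  refine funext_matrix fun A => ?_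
  rw [rightTranslate_eval, eval_pluckerMap_sl, eval_pluckerMap_sl]
  have : evalMinors K d n (A * (g : Matrix (Fin d) (Fin d) K)) = evalMinors K d n A :=
    MvPolynomial.algHom_ext fun θ => by
      simp only [evalMinors, aeval_X]
      rw [show (A * (g : Matrix (Fin d) (Fin d) K)).submatrix θ.1 id =
        A.submatrix θ.1 id * (g : Matrix (Fin d) (Fin d) K) from rfl, Matrix.det_mul,
        Matrix.SpecialLinearGroup.det_coe, mul_one]
  rw [this]

theorem mul_adjugate_submatrix (A : Matrix (Fin n) (Fin d) K) (τ : Fin d → Fin n) (i : Fin n) (s : Fin d) :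
    (A * (A.submatrix τ id).adjugate) i s = (A.submatrix (Function.update τ s i) id).det := by
  have h1 : A.submatrix (Function.update τ s i) id = (A.submatrix τ id).updateRow s (A i) := by
    refine Matrix.ext fun a b => ?_
    by_cases h : a = s
    · subst h; simp
    · simp [Matrix.updateRow_ne, h]
  rw [h1, ← Matrix.cramer_transpose_apply, Matrix.cramer_eq_adjugate_mulVec, ← Matrix.adjugate_transpose,
    Matrix.mul_apply]
  simp only [Matrix.mulVec, dotProduct, Matrix.transpose_apply]
  exact Finset.sum_congr rfl fun t _ => mul_comm _ _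

theorem minor_ne_zero_sl (θ : Idx d n) : pluckerMap K d n (X θ) ≠ 0 := by
  intro h
  let A : Matrix (Fin n) (Fin d) K := Matrix.of fun i s => if i = θ.1 s then 1 else 0
  have := congrArg (MvPolynomial.eval (fun p : Fin n × Fin d => A p.1 p.2)) h
  rw [eval_pluckerMap_sl, map_zero, evalMinors, aeval_X] at this
  refine one_ne_zero (α := K) (Eq.trans ?_ this)
  rw [← Matrix.det_one (n := Fin d) (R := K)]
  congr 1
  refine Matrix.ext fun a b => ?_
  simp [A, Matrix.one_apply, θ.2.injective.eq_iff]

/-- After multiplication by a power of the top minor every invariant is a polynomial in the minors. -/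
theorem exists_pow_mul_mem_plucker [Infinite K] (hd : 0 < d) (τ : Idx d n) (f : MatRing K d n)
    (hf : ∀ g : Matrix.SpecialLinearGroup (Fin d) K, rightTranslate K d n g f = f) :
    ∃ N P, f * pluckerMap K d n (X τ) ^ N = pluckerMap K d n P := by
  classical
  obtain ⟨e, rfl⟩ : ∃ e, d = e + 1 := ⟨d - 1, by omega⟩
  set δ : PlRing K (e + 1) n := X τ with hδ
  set L := Localization.Away δ
  let φ : MatRing K (e + 1) n →ₐ[K] L := MvPolynomial.aeval fun p : Fin n × Fin (e + 1) =>
    algebraMap (PlRing K (e + 1) n) L (coord K (e + 1) n (Function.update τ.1 p.2 p.1)) *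
      (Fin.cons (1 : L) (fun _ => IsLocalization.Away.invSelf δ) : Fin (e + 1) → L) p.2
  obtain ⟨N, P, hP⟩ := IsLocalization.Away.surj δ (φ f)
  refine ⟨N, P, ?_⟩
  have key : (f * pluckerMap K (e + 1) n δ ^ N - pluckerMap K (e + 1) n P) * pluckerMap K (e + 1) n δ = 0 := by
    refine funext_matrix fun A => ?_
    rw [map_zero, map_mul, map_sub, map_mul, map_pow, eval_pluckerMap_sl, eval_pluckerMap_sl]
    by_cases hz : evalMinors K (e + 1) n A δ = 0
    · rw [hz, mul_zero]
    let ev : L →+* K := IsLocalization.Away.lift δ (g := (evalMinors K (e + 1) n A).toRingHom)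
      (isUnit_iff_ne_zero.mpr hz)
    have hev : ∀ y, ev (algebraMap _ L y) = evalMinors K (e + 1) n A y := fun y =>
      IsLocalization.Away.lift_eq δ _ y
    have hinv : evalMinors K (e + 1) n A δ * ev (IsLocalization.Away.invSelf δ) = 1 := by
      rw [← hev, ← map_mul, IsLocalization.Away.mul_invSelf, map_one]
    set D := ev (IsLocalization.Away.invSelf δ) with hD
    let A0 : Matrix (Fin (e + 1)) (Fin (e + 1)) K := A.submatrix τ.1 id
    have hdet : evalMinors K (e + 1) n A δ = A0.det := by
      rw [hδ, evalMinors, aeval_X]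
    let g : Matrix.SpecialLinearGroup (Fin (e + 1)) K :=
      ⟨A0.adjugate * Matrix.diagonal (Fin.cons (1 : K) (fun _ => D) : Fin (e + 1) → K), by
        rw [Matrix.det_mul, Matrix.det_adjugate, Matrix.det_diagonal, Fin.prod_univ_succ]
        simp only [Fin.cons_zero, Fin.cons_succ, one_mul, Finset.prod_const, Finset.card_univ, Fintype.card_fin,
          add_tsub_cancel_right]
        rw [← mul_pow, ← hdet, hinv, one_pow]⟩
    have hcomp : evalMinors K (e + 1) n A P =
        MvPolynomial.eval (fun p => A p.1 p.2) f * evalMinors K (e + 1) n A δ ^ N := by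
      have h1 := congrArg ev hP
      rw [map_mul, map_pow, hev, hev] at h1
      rw [← h1]
      congr 1
      conv_rhs => rw [← hf g, rightTranslate_eval]
      clear h1 hP hf
      induction f using MvPolynomial.induction_on with
      | C a =>
        rw [show φ (C a) = algebraMap _ L (C a) from (φ.commutes a).trans
          (IsScalarTower.algebraMap_apply K (PlRing K (e + 1) n) L a)]
        simp [hev, evalMinors]
      | add x y hx hy => simp only [map_add, hx, hy]
      | mul_X x p hx =>
        rw [map_mul, map_mul, hx, map_mul]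
        congr 1
        obtain ⟨i, s⟩ := p
        simp only [φ, aeval_X, eval_X]
        rw [map_mul, hev, map_coord (evalMinors K (e + 1) n A) A (fun θ => aeval_X _ _)]
        show _ = (A * (A0.adjugate * Matrix.diagonal (Fin.cons (1 : K) (fun _ => D) : Fin (e + 1) → K)) : Matrix (Fin n) (Fin (e + 1)) K) i s
        rw [← Matrix.mul_assoc, Matrix.mul_diagonal, mul_adjugate_submatrix]
        congr 1
        refine Fin.cases ?_ (fun j => ?_) s <;> simp [hD]
    rw [hcomp, sub_self, zero_mul]
  exact sub_eq_zero.mp ((mul_eq_zero.mp key).resolve_right (minor_ne_zero_sl τ))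

theorem sl_invariant_mem_range [Infinite K] (hd : 0 < d) (hdn : d < n) (f : MatRing K d n)
    (hf : ∀ g : Matrix.SpecialLinearGroup (Fin d) K, rightTranslate K d n g f = f) :
    f ∈ (pluckerMap K d n).range := by
  set τ := topIdx (d := d) hdn.le with hτdef
  have hlt : ∃ φ : Idx d n, φ < τ := by
    refine ⟨botIdx hdn.le, lt_of_le_of_ne (le_topIdx hdn.le _) fun h => ?_⟩
    have := congrArg (fun θ : Idx d n => (θ.1 ⟨0, hd⟩).val) h
    simp [hτdef, topIdx, botIdx] at this
    omega
  obtain ⟨N, P, hP⟩ := exists_pow_mul_mem_plucker hd τ f hf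
  induction N generalizing P with
  | zero => exact ⟨P, by rw [pow_zero, mul_one] at hP; exact hP.symm⟩
  | succ N ih =>
    have hmem : P ∈ plIdeal K τ ⊔ Ideal.span {X τ} := by
      rw [sup_span_top hd hdn.le τ hlt]
      simp only [Submodule.mem_iInf]
      intro φ hφ
      rw [← schubertVanishing_eq hd hdn.le φ, schubertVanishing]
      simp only [Submodule.mem_iInf]
      intro A hA
      show evalMinors K d n A P = 0
      have h := congrArg (MvPolynomial.eval (fun p : Fin n × Fin d => A p.1 p.2)) hP
      rw [map_mul, map_pow, eval_pluckerMap_sl, eval_pluckerMap_sl] at h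
      rw [← h, show evalMinors K d n A (X τ) = 0 from by rw [evalMinors, aeval_X]; exact hA τ hφ.1.not_ge,
        zero_pow (Nat.succ_ne_zero N), mul_zero]
    obtain ⟨a, ha, b, hb, hab⟩ := Submodule.mem_sup.mp hmem
    obtain ⟨c, rfl⟩ := Ideal.mem_span_singleton'.mp hb
    have ha0 : pluckerMap K d n a = 0 := by
      refine funext_matrix fun A => ?_
      rw [eval_pluckerMap_sl, map_zero]
      have h := plIdeal_le_vanishing τ ha
      rw [schubertVanishing] at h
      simp only [Submodule.mem_iInf] at h
      exact h A fun φ hφ => absurd (le_topIdx hdn.le φ) hφ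
    refine ih c (mul_right_cancel₀ (minor_ne_zero_sl τ) ?_)
    rw [mul_assoc, ← pow_succ, hP, ← hab, map_add, ha0, zero_add, map_mul]

theorem pluckerMap_range_eq (d n : ℕ) :
    (pluckerMap K d n).range = Algebra.adjoin K (Set.range fun θ : Idx d n => minor K d n θ.1) :=
  (Algebra.adjoin_range_eq_range_aeval K _).symm

end Groth.L14.SMT
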