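import Mathlib.RingTheory.MvPolynomial.Ideal
import Mathlib.RingTheory.MvPolynomial.Homogeneous
import Mathlib.Algebra.Order.Antidiag.FinsuppEquiv
import Mathlib.LinearAlgebra.Dimension.Constructions
import Mathlib.Order.Preorder.Chain
import Mathlib.Algebra.BigOperators.Finprod
import Mathlib.Data.Nat.Choose.Basic
import Mathlib.Tactic

/-!
Hilbert function of the face ring of an order complex.
-/

open MvPolynomial Finset

namespace Groth.L14.SRCount

universe u v

variable {K : Type u} [Field K] {L : Type v} [PartialOrder L]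

/-- The monomial generators. -/
def gens (L : Type v) [PartialOrder L] : Set (L →₀ ℕ) :=
  {e | ∃ a b : L, ¬ a ≤ b ∧ ¬ b ≤ a ∧ e = Finsupp.single a 1 + Finsupp.single b 1}

theorem srGen_eq :
    {f : MvPolynomial L K | ∃ a b : L, ¬ a ≤ b ∧ ¬ b ≤ a ∧ f = X a * X b} =
      (fun e => monomial e (1 : K)) '' gens L := by
  ext f
  constructor
  · rintro ⟨a, b, h1, h2, rfl⟩
    exact ⟨_, ⟨a, b, h1, h2, rfl⟩, by simp [X, monomial_mul]⟩
  · rintro ⟨_, ⟨a, b, h1, h2, rfl⟩, rfl⟩
    exact ⟨a, b, h1, h2, by simp [X, monomial_mul]⟩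

theorem chain_iff (e : L →₀ ℕ) :
    IsChain (fun a b : L => a ≤ b) (e.support : Set L) ↔ ∀ s ∈ gens L, ¬ s ≤ e := by
  classical
  constructor
  · rintro h _ ⟨a, b, hab, hba, rfl⟩ hle
    have ha : a ∈ e.support := by
      rw [Finsupp.mem_support_iff]
      have := hle a
      simp at this
      omega
    have hb : b ∈ e.support := by
      rw [Finsupp.mem_support_iff]
      have := hle b
      simp at this
      omega
    rcases eq_or_ne a b with rfl | hne
    · exact hab le_rfl
    · rcases h ha hb hne with h' | h'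
      · exact hab h'
      · exact hba h'
  · intro h a ha b hb hne
    by_contra hc
    push Not at hc
    refine h _ ⟨a, b, hc.1, hc.2, rfl⟩ fun x => ?_
    simp only [Finsupp.coe_add, Pi.add_apply, Finsupp.single_apply]
    have ha' : e a ≠ 0 := Finsupp.mem_support_iff.mp ha
    have hb' : e b ≠ 0 := Finsupp.mem_support_iff.mp hb
    split_ifs with h1 h2 h2
    · exact absurd (h1.trans h2.symm) hne
    · subst h1; omega
    · subst h2; omega
    · omega

theorem multichoose_eq (c m : ℕ) (hc : 1 ≤ c) (hcm : c ≤ m) :
    Nat.multichoose c (m - c) = Nat.choose (m - 1) (c - 1) := by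
  rw [Nat.multichoose_eq, show c + (m - c) - 1 = m - 1 by omega, ← Nat.choose_symm (show c - 1 ≤ m - 1 by omega)]
  congr 1
  omega

variable [Fintype L] [DecidableEq L]

/-- Exponents of given degree and support. -/
theorem card_support_eq (m : ℕ) (C : Finset L) :
    ((Finset.univ.finsuppAntidiag m).filter fun e : L →₀ ℕ => e.support = C).card =
      if C.card ≤ m then (C.finsuppAntidiag (m - C.card)).card else 0 := by
  classical
  split_ifs with hC
  · refine Finset.card_bij' (fun e _ => e - ∑ a ∈ C, Finsupp.single a 1) (fun f _ => f + ∑ a ∈ C, Finsupp.single a 1)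
      ?_ ?_ ?_ ?_
    · intro e he
      simp only [mem_filter, mem_finsuppAntidiag] at he
      obtain ⟨⟨hsum, -⟩, hs⟩ := he
      rw [mem_finsuppAntidiag]
      have hind : ∀ x, (∑ a ∈ C, Finsupp.single a 1 : L →₀ ℕ) x = if x ∈ C then 1 else 0 := fun x => by
        simp [Finsupp.finsetSum_apply, Finsupp.single_apply]
      constructor
      · have h1 : ∀ x ∈ C, (e - ∑ a ∈ C, Finsupp.single a 1 : L →₀ ℕ) x + 1 = e x := fun x hx => by
          rw [Finsupp.tsub_apply, hind, if_pos hx]
          have : e x ≠ 0 := Finsupp.mem_support_iff.mp (hs ▸ hx)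
          omega
        have h2 : ∑ x ∈ C, ((e - ∑ a ∈ C, Finsupp.single a 1 : L →₀ ℕ) x + 1) = m := by
          rw [Finset.sum_congr rfl h1, ← hsum]
          refine Finset.sum_subset (Finset.subset_univ C) fun x _ hx => ?_
          rw [← hs] at hx
          exact Finsupp.notMem_support_iff.mp hx
        rw [Finset.sum_add_distrib, Finset.sum_const, smul_eq_mul, mul_one] at h2
        show ∑ x ∈ C, (e - ∑ a ∈ C, Finsupp.single a 1 : L →₀ ℕ) x = _; omega
      · intro x hx
        rw [Finsupp.mem_support_iff, Finsupp.tsub_apply, hind] at hx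
        by_contra hxC
        rw [if_neg hxC, Nat.sub_zero, Finsupp.notMem_support_iff.mp (hs ▸ hxC : x ∉ e.support)] at hx
        exact hx rfl
    · intro f hf
      rw [mem_finsuppAntidiag] at hf
      have hind : ∀ x, (∑ a ∈ C, Finsupp.single a 1 : L →₀ ℕ) x = if x ∈ C then 1 else 0 := fun x => by
        simp [Finsupp.finsetSum_apply, Finsupp.single_apply]
      have hzero : ∀ x, x ∉ C → f x = 0 := fun x hx => Finsupp.notMem_support_iff.mp fun h => hx (hf.2 h)
      simp only [mem_filter, mem_finsuppAntidiag]
      refine ⟨⟨?_, Finset.subset_univ _⟩, ?_⟩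
      · simp only [Finsupp.coe_add, Pi.add_apply, hind, Finset.sum_add_distrib, Finset.sum_ite_mem, Finset.univ_inter,
          Finset.sum_const, smul_eq_mul, mul_one]
        rw [← Finset.sum_subset (Finset.subset_univ C) fun x _ hx => hzero x hx, hf.1]
        omega
      · ext x
        rw [Finsupp.mem_support_iff, Finsupp.coe_add, Pi.add_apply, hind]
        by_cases hx : x ∈ C
        · simp [hx]
        · simp [hx, hzero x hx]
    · intro e he
      simp only [mem_filter, mem_finsuppAntidiag] at he
      ext x
      simp only [Finsupp.coe_add, Pi.add_apply, Finsupp.tsub_apply, Finsupp.finsetSum_apply, Finsupp.single_apply,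
        Finset.sum_ite_eq']
      split_ifs with hx
      · have : e x ≠ 0 := Finsupp.mem_support_iff.mp (he.2 ▸ hx)
        omega
      · simp
    · intro f _
      simp
  · rw [Finset.card_eq_zero, Finset.filter_eq_empty_iff]
    intro e he hs
    rw [mem_finsuppAntidiag] at he
    refine hC ?_
    rw [← he.1, ← hs, Finset.card_eq_sum_ones]
    refine le_trans (Finset.sum_le_sum fun x hx => Nat.one_le_iff_ne_zero.mpr (Finsupp.mem_support_iff.mp hx))
      (Finset.sum_le_sum_of_subset (Finset.subset_univ _))

theorem finrank_eq (m : ℕ) (hm : 1 ≤ m) :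
    Module.finrank K ((homogeneousSubmodule L K m).map
        (Ideal.Quotient.mkₐ K (Ideal.span {f : MvPolynomial L K | ∃ a b : L, ¬ a ≤ b ∧ ¬ b ≤ a ∧
          f = X a * X b})).toLinearMap) =
      ∑ᶠ C : {C : Finset L // C.Nonempty ∧ IsChain (fun a b : L => a ≤ b) (↑C : Set L)},
        Nat.choose (m - 1) (C.1.card - 1) := by
  classical
  set J := Ideal.span {f : MvPolynomial L K | ∃ a b : L, ¬ a ≤ b ∧ ¬ b ≤ a ∧ f = X a * X b} with hJ
  have hJmem : ∀ f : MvPolynomial L K,
      f ∈ J ↔ ∀ e ∈ f.support, ¬ IsChain (fun a b : L => a ≤ b) (e.support : Set L) := by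
    intro f
    rw [hJ, srGen_eq, mem_ideal_span_monomial_image]
    refine forall₂_congr fun e _ => ?_
    rw [chain_iff]
    push Not
    rfl
  set T := (Finset.univ.finsuppAntidiag m).filter
    fun e : L →₀ ℕ => IsChain (fun a b : L => a ≤ b) (e.support : Set L) with hT
  set b : T → MvPolynomial L K ⧸ J := fun e => Ideal.Quotient.mkₐ K J (monomial e.1 1) with hb
  have hli : LinearIndependent K b := by
    rw [Fintype.linearIndependent_iff]
    intro g hg i
    have h1 : ∑ e, monomial e.1 (g e) ∈ J := by
      rw [← Ideal.Quotient.eq_zero_iff_mem, ← hg, ← Ideal.Quotient.mkₐ_eq_mk K, map_sum]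
      refine Finset.sum_congr rfl fun e _ => ?_
      simp only [b, ← map_smul, smul_eq_mul, mul_one]
    by_contra hgi
    refine (hJmem _).mp h1 i.1 ?_ (Finset.mem_filter.mp i.2).2
    rw [mem_support_iff, coeff_sum, Finset.sum_eq_single i]
    · rw [coeff_monomial, if_pos rfl]; exact hgi
    · intro e _ he
      rw [coeff_monomial, if_neg fun h => he (Subtype.ext h)]
    · intro h; exact absurd (Finset.mem_univ i) h
  have hspan : (homogeneousSubmodule L K m).map (Ideal.Quotient.mkₐ K J).toLinearMap =
      Submodule.span K (Set.range b) := by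
    refine le_antisymm ?_ (Submodule.span_le.mpr ?_)
    · rintro _ ⟨f, hf, rfl⟩
      rw [AlgHom.toLinearMap_apply, as_sum f, map_sum]
      refine Submodule.sum_mem _ fun e he => ?_
      by_cases hc : IsChain (fun a b : L => a ≤ b) (e.support : Set L)
      · have he' : e ∈ T := by
          rw [hT, mem_filter, mem_finsuppAntidiag]
          refine ⟨⟨?_, Finset.subset_univ _⟩, hc⟩
          have h2 := hf (mem_support_iff.mp he)
          rw [← h2]
          simp [Finsupp.weight_apply, Finsupp.sum_fintype]
        rw [show monomial e (coeff e f) = coeff e f • monomial e (1 : K) by simp [smul_monomial], map_smul]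
        exact Submodule.smul_mem _ _ (Submodule.subset_span ⟨⟨e, he'⟩, rfl⟩)
      · have : Ideal.Quotient.mkₐ K J (monomial e (coeff e f)) = 0 :=
          Ideal.Quotient.eq_zero_iff_mem.mpr ((hJmem _).mpr fun x hx => by
            have := support_monomial_subset hx
            rw [Finset.mem_singleton] at this
            rwa [this])
        rw [this]; exact zero_mem _
    · rintro _ ⟨e, rfl⟩
      refine ⟨monomial e.1 1, ?_, rfl⟩
      have h2 := (mem_finsuppAntidiag.mp (Finset.mem_filter.mp e.2).1).1
      refine isHomogeneous_monomial _ ?_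
      rw [← h2]
      simp [Finsupp.degree_eq_sum]
  rw [hspan, finrank_span_eq_card hli, Fintype.card_coe,
    finsum_eq_sum_of_fintype (fun C : {C : Finset L // C.Nonempty ∧ IsChain (fun a b : L => a ≤ b) (↑C : Set L)} =>
      Nat.choose (m - 1) (C.1.card - 1))]
  have hcases : ∀ C : Finset L, C.Nonempty →
      ((Finset.univ.finsuppAntidiag m).filter fun e : L →₀ ℕ => e.support = C).card =
        Nat.choose (m - 1) (C.card - 1) := by
    intro C hC
    rw [card_support_eq]
    have h1 : 1 ≤ C.card := hC.card_pos
    split_ifs with hle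
    · rw [Finset.card_finsuppAntidiag_nat_eq_multichoose, multichoose_eq _ _ h1 hle]
    · rw [Nat.choose_eq_zero_of_lt (by omega)]
  rw [Finset.card_eq_sum_card_fiberwise (f := fun e : L →₀ ℕ => e.support)
    (t := (Finset.univ : Finset (Finset L)).filter fun C => C.Nonempty ∧ IsChain (fun a b : L => a ≤ b) (↑C : Set L))]
  · rw [← Finset.sum_subtype ((Finset.univ : Finset (Finset L)).filter
      fun C : Finset L => C.Nonempty ∧ IsChain (fun a b : L => a ≤ b) (↑C : Set L)) (fun C : Finset L => by simp)
      (fun C : Finset L => Nat.choose (m - 1) (C.card - 1))]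
    refine Finset.sum_congr rfl fun C hC => ?_
    rw [← hcases C (Finset.mem_filter.mp hC).2.1, hT, Finset.filter_filter]
    congr 1
    refine Finset.filter_congr fun e _ => ⟨fun h => h.2, fun h => ⟨?_, h⟩⟩
    rw [h]
    exact (Finset.mem_filter.mp hC).2.2
  · intro e he
    rw [Finset.mem_coe, hT, mem_filter, mem_finsuppAntidiag] at he
    simp only [Finset.coe_filter, Finset.mem_univ, true_and, Set.mem_ofPred_eq]
    refine ⟨?_, he.2⟩
    rw [Finsupp.support_nonempty_iff]
    rintro rfl
    simp at he
    omega

end Groth.L14.SRCount
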